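import Cfsg.Agent.Lib.J4Classes92.Count
import Cfsg.Agent.Lib.J4BigPrimes.Main
import Cfsg.Agent.Lib.J4Five.Centre

/-!
# The classes at a self-centralising subgroup of prime order
-/

set_option autoImplicit false

namespace Cfsg.Agent.Lib.J4Classes92

open Cfsg.Agent.Lib.J4Local

variable {G : Type*} [Group G] [Finite G] {q : ℕ} [hq : Fact q.Prime]

/-- A self-centralising Sylow subgroup of prime order. -/
structure SelfCent (q r : ℕ) (u : G) : Prop where
  ord : orderOf u = q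
  sq : ¬ q ^ 2 ∣ Nat.card G
  cent : cz u = Subgroup.zpowers u
  nrm : Nat.card ↥(Subgroup.normalizer (Subgroup.zpowers u : Set G)) = q * r

theorem SelfCent.order_eq {r : ℕ} {u : G} (A : SelfCent q r u) {g : G} (h : q ∣ orderOf g) :
    orderOf g = q := by
  obtain ⟨y, hy, hc⟩ : ∃ y, orderOf y = q ∧ Commute g y := by
    refine ⟨g ^ (orderOf g / q), ?_, Commute.self_pow g _⟩
    rw [orderOf_pow_of_dvd (Nat.div_ne_zero_iff.mpr ⟨hq.out.ne_zero, Nat.le_of_dvd (orderOf_pos g) h⟩)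
      (Nat.div_dvd_of_dvd h), Nat.div_div_self h (orderOf_pos g).ne']
  obtain ⟨a, ha⟩ := J4BigPrimes.conj_of_cyclic A.sq hy A.ord
  have hm : a * g * a⁻¹ ∈ Subgroup.zpowers u := by
    rw [← A.cent, ← J4BigPrimes.cz_eq_of_zpowers ha]
    exact mem_cz.mpr (hc.map (MulAut.conj a))
  have hd := orderOf_dvd_of_mem_zpowers hm
  rw [orderOf_conj, A.ord] at hd
  exact Nat.dvd_antisymm hd h

/-- The classes of elements of prime order. -/
theorem classCount_order_mul (hsq : ¬ q ^ 2 ∣ Nat.card G) {u : G} (hu : orderOf u = q) {r : ℕ}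
    (hnrm : Nat.card ↥(Subgroup.normalizer (Subgroup.zpowers u : Set G)) = r * Nat.card ↥(cz u)) :
    classCount G (fun g => orderOf g = q) * r = q - 1 := by
  classical
  set U := Subgroup.zpowers u with hU
  let S := {w : G // w ∈ U ∧ w ≠ 1}
  let C := {C : ConjClasses G // ∃ g, ConjClasses.mk g = C ∧ orderOf g = q}
  have hwo : ∀ {w : G}, w ∈ U → w ≠ 1 → orderOf w = q := fun {w} hw h1 => by
    have hd := orderOf_dvd_of_mem_zpowers hw
    rw [hu, Nat.dvd_prime hq.out] at hd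
    exact hd.resolve_left (fun h => h1 (orderOf_eq_one_iff.mp h))
  have hgen : ∀ {w : G}, w ∈ U → w ≠ 1 → Subgroup.zpowers w = U := fun {w} hw h1 =>
    Subgroup.eq_of_le_of_card_ge (Subgroup.zpowers_le.mpr hw) (by
      rw [hU, Nat.card_zpowers, Nat.card_zpowers, hu, hwo hw h1])
  let f : S → C := fun w => ⟨ConjClasses.mk w.1, w.1, rfl, hwo w.2.1 w.2.2⟩
  have hfib : ∀ c : C, Nat.card {w : S // f w = c} = r := by
    rintro ⟨_, g, rfl, hg⟩
    obtain ⟨a, ha⟩ := J4BigPrimes.conj_of_cyclic hsq hg hu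
    set w₀ := a * g * a⁻¹ with hw₀
    have hw₀U : w₀ ∈ U := hU ▸ ha ▸ Subgroup.mem_zpowers w₀
    have hw₀1 : w₀ ≠ 1 := fun h => by
      have := hg
      rw [conj_eq_one_iff] at h
      rw [h, orderOf_one] at this
      exact hq.out.one_lt.ne this
    have h := J4Five.card_orbit_stab (Subgroup.normalizer (U : Set G)) w₀
    have hinf : Subgroup.normalizer (U : Set G) ⊓ cz w₀ = cz u := by
      rw [J4BigPrimes.cz_eq_of_zpowers (hgen hw₀U hw₀1)]
      exact inf_eq_right.mpr (J4BigPrimes.cz_le_nz u)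
    rw [hinf, hnrm] at h
    rw [← Nat.eq_of_mul_eq_mul_right Nat.card_pos h, ← Nat.card_coe_set_eq]
    refine Nat.card_congr ⟨fun w => ⟨w.1.1, ?_⟩, fun v => ⟨⟨v.1, ?_⟩, ?_⟩, fun _ => rfl, fun _ => rfl⟩
    · have hc : IsConj g w.1.1 :=
        (ConjClasses.mk_eq_mk_iff_isConj.mp (congrArg Subtype.val w.2)).symm
      obtain ⟨b, hb⟩ := isConj_iff.mp ((isConj_iff.mpr ⟨a, rfl⟩ : IsConj g w₀).symm.trans hc)
      refine ⟨b, ?_, hb⟩
      refine mem_normalizer_of_le fun l hl => ?_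
      rw [← hgen hw₀U hw₀1] at hl
      obtain ⟨i, rfl⟩ := hl
      show b * w₀ ^ i * b⁻¹ ∈ U
      rw [← conj_zpow, hb]
      exact zpow_mem w.1.2.1 i
    · obtain ⟨_, n, hn, rfl⟩ := v
      exact ⟨(Subgroup.mem_normalizer_iff.mp hn w₀).mp hw₀U, fun h => hw₀1 (conj_eq_one_iff.mp h)⟩
    · obtain ⟨_, n, hn, rfl⟩ := v
      exact Subtype.ext (ConjClasses.mk_eq_mk_iff_isConj.mpr
        ((isConj_iff.mpr ⟨a, rfl⟩ : IsConj g w₀).trans (isConj_iff.mpr ⟨n, rfl⟩)).symm)
  have hS : Nat.card S = q - 1 := by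
    have hUc : Nat.card ↥U = q := by rw [hU, Nat.card_zpowers, hu]
    have hUn : (U : Set G).ncard = q := (Nat.card_coe_set_eq _).symm.trans hUc
    calc Nat.card S = ((U : Set G) \ {1}).ncard := Nat.card_coe_set_eq _
      _ = q - 1 := by rw [Set.ncard_sdiff_singleton_of_mem (one_mem U), hUn]
  have e := Nat.card_congr (Equiv.sigmaFiberEquiv f)
  have : Fintype C := Fintype.ofFinite C
  rw [Nat.card_sigma, hS] at e
  simp only [hfib, Finset.sum_const, smul_eq_mul, Finset.card_univ] at e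
  rw [classCount, Nat.card_eq_fintype_card]
  exact e

/-- The number of classes at a self-centralising subgroup. -/
theorem SelfCent.classCount_mul {r : ℕ} {u : G} (A : SelfCent q r u) :
    classCount G (fun g => q ∣ orderOf g) * r = q - 1 := by
  rw [classCount_iff (Q := fun g => orderOf g = q) fun g => ⟨A.order_eq, fun h => h ▸ dvd_rfl⟩]
  exact classCount_order_mul A.sq A.ord (by rw [A.nrm, A.cent, Nat.card_zpowers, A.ord, mul_comm])

omit [Finite G] hq in
/-- A single class. -/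
theorem isConj_of_count_one {P : G → Prop} (h : classCount G P = 1) {a b : G} (ha : P a) (hb : P b) :
    IsConj a b := by
  have := (Nat.card_eq_one_iff_unique.mp h).1
  exact ConjClasses.mk_eq_mk_iff_isConj.mp (congrArg Subtype.val (Subsingleton.elim
    (⟨ConjClasses.mk a, a, rfl, ha⟩ : {C : ConjClasses G // ∃ g, ConjClasses.mk g = C ∧ P g})
    ⟨ConjClasses.mk b, b, rfl, hb⟩))

omit [Finite G] hq in
/-- Two classes. -/
theorem exists_two_of_count {P : G → Prop} (h : classCount G P = 2) :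
    ∃ a b, P a ∧ P b ∧ ¬ IsConj a b ∧ ∀ w, P w → IsConj a w ∨ IsConj b w := by
  obtain ⟨⟨_, a, rfl, ha⟩, ⟨_, b, rfl, hb⟩, hne, huniv⟩ := Nat.card_eq_two_iff.mp h
  refine ⟨a, b, ha, hb, fun hc => hne (Subtype.ext (ConjClasses.mk_eq_mk_iff_isConj.mpr hc)),
    fun w hw => ?_⟩
  have hm := huniv.ge (Set.mem_univ
    (⟨ConjClasses.mk w, w, rfl, hw⟩ : {C : ConjClasses G // ∃ g, ConjClasses.mk g = C ∧ P g}))
  rcases hm with hm | hm <;>
    [left; right] <;> exact (ConjClasses.mk_eq_mk_iff_isConj.mp (congrArg Subtype.val hm)).symm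

end Cfsg.Agent.Lib.J4Classes92
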