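import Cfsg.Agent.Lib.J4Classes92.Defs

/-!
# Counting classes through representatives
-/

set_option autoImplicit false
set_option linter.unusedSectionVars false

namespace Cfsg.Agent.Lib.J4Classes92

open Cfsg.Agent.Lib.J4Local

variable {G : Type*} [Group G] [Finite G]

theorem classCount_congr {P Q : G → Prop} (h : ∀ g, P g ↔ Q g) : classCount G P = classCount G Q :=
  Nat.card_congr (Equiv.subtypeEquivRight fun C => exists_congr fun g => and_congr_right fun _ => h g)

/-- Two properties told apart by a class invariant. -/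
theorem classCount_or {P Q : G → Prop} (h : ∀ a b, P a → Q b → ¬ IsConj a b) :
    classCount G (fun g => P g ∨ Q g) = classCount G P + classCount G Q := by
  classical
  rw [classCount, classCount, classCount, ← Nat.card_sum]
  refine Nat.card_congr ((Equiv.subtypeEquivRight (q := fun C =>
    (∃ g, ConjClasses.mk g = C ∧ P g) ∨ ∃ g, ConjClasses.mk g = C ∧ Q g) fun C => ?_).trans
    (subtypeOrEquiv _ _ ?_))
  · simp only [and_or_left, exists_or]
  · rw [Pi.disjoint_iff]
    intro C
    rw [Prop.disjoint_iff, not_and_or, ← not_and_or]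
    rintro ⟨⟨a, rfl, ha⟩, b, hb, hb'⟩
    exact h a b ha hb' (ConjClasses.mk_eq_mk_iff_isConj.mp hb).symm

/-- The classes through representatives. -/
theorem classCount_eq_quot {ι : Type*} {P : G → Prop} (r : ι → G) (hP : ∀ i, P (r i))
    (hcov : ∀ g, P g → ∃ i, IsConj g (r i)) :
    classCount G P = Nat.card (Quotient ((IsConj.setoid G).comap r)) := by
  refine (Nat.card_eq_of_bijective (fun q : Quotient ((IsConj.setoid G).comap r) =>
    (⟨Quotient.liftOn q (fun i => ConjClasses.mk (r i))
      (fun i j h => ConjClasses.mk_eq_mk_iff_isConj.mpr h), ?_⟩ :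
      {C : ConjClasses G // ∃ g, ConjClasses.mk g = C ∧ P g})) ⟨?_, ?_⟩).symm
  · induction q using Quotient.inductionOn with
    | h i => exact ⟨r i, rfl, hP i⟩
  · intro a b e
    induction a using Quotient.inductionOn with
    | h i =>
      induction b using Quotient.inductionOn with
      | h j => exact Quotient.sound (ConjClasses.mk_eq_mk_iff_isConj.mp (congrArg Subtype.val e))
  · rintro ⟨C, g, rfl, hg⟩
    obtain ⟨i, hi⟩ := hcov g hg
    exact ⟨Quotient.mk _ i, Subtype.ext (ConjClasses.mk_eq_mk_iff_isConj.mpr hi.symm)⟩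

/-- Pairwise non-conjugate representatives. -/
theorem classCount_eq_card {ι : Type*} {P : G → Prop} (r : ι → G) (hP : ∀ i, P (r i))
    (hcov : ∀ g, P g → ∃ i, IsConj g (r i)) (hsep : ∀ i j, IsConj (r i) (r j) → i = j) :
    classCount G P = Nat.card ι := by
  rw [classCount_eq_quot r hP hcov]
  exact (Nat.card_eq_of_bijective (Quotient.mk _) ⟨fun i j e => hsep i j (Quotient.exact e),
    fun q => Quotient.exists_rep q⟩).symm

/-- One class. -/
theorem classCount_one {P : G → Prop} {a : G} (ha : P a) (h : ∀ g, P g → IsConj g a) :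
    classCount G P = 1 := by
  rw [classCount_eq_card (ι := Unit) (fun _ => a) (fun _ => ha) (fun g hg => ⟨(), h g hg⟩)
    (fun _ _ _ => rfl), Nat.card_unique]

/-- Transport along an isomorphism. -/
theorem classCount_equiv {K : Type*} [Group K] (e : G ≃* K) {P : G → Prop} {Q : K → Prop}
    (h : ∀ g, P g ↔ Q (e g)) : classCount G P = classCount K Q := by
  refine Nat.card_eq_of_bijective (fun C : {C : ConjClasses G // ∃ g, ConjClasses.mk g = C ∧ P g} =>
    (⟨ConjClasses.map e.toMonoidHom C.1, ?_⟩ : {C : ConjClasses K // ∃ g, ConjClasses.mk g = C ∧ Q g}))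
    ⟨?_, ?_⟩
  · obtain ⟨g, hg, hP⟩ := C.2
    exact ⟨e g, by rw [← hg]; rfl, (h g).mp hP⟩
  · rintro ⟨A, a, rfl, ha⟩ ⟨B, b, rfl, hb⟩ E
    refine Subtype.ext (ConjClasses.mk_eq_mk_iff_isConj.mpr ?_)
    have E' : IsConj (e a) (e b) := ConjClasses.mk_eq_mk_iff_isConj.mp (congrArg Subtype.val E)
    simpa using e.symm.toMonoidHom.map_isConj E'
  · rintro ⟨C, k, rfl, hk⟩
    refine ⟨⟨ConjClasses.mk (e.symm k), e.symm k, rfl, (h _).mpr (by simpa using hk)⟩, Subtype.ext ?_⟩
    show ConjClasses.mk (e.toMonoidHom (e.symm k)) = _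
    simp

theorem powCount_conj (g w : G) : powCount (g * w * g⁻¹) = powCount w := by
  have hm : (cz w).map (MulAut.conj g).toMonoidHom = cz (g * w * g⁻¹) := by
    ext x
    constructor
    · rintro ⟨y, hy, rfl⟩
      exact mem_cz.mpr ((mem_cz.mp hy).map (MulAut.conj g))
    · intro hx
      refine ⟨g⁻¹ * x * g, mem_cz.mpr ?_, by simp [mul_assoc]⟩
      simpa [mul_assoc] using (mem_cz.mp hx).map (MulAut.conj g⁻¹)
  refine (classCount_equiv (((MulAut.conj g).subgroupMap (cz w)).trans
    (MulEquiv.subgroupCongr hm)) fun x => ?_).symm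
  show (IsTwoElt (x : G) ∧ _) ↔ IsTwoElt (g * (x : G) * g⁻¹) ∧ _
  have ho : orderOf (g * (x : G) * g⁻¹) = orderOf (x : G) :=
    orderOf_injective (MulAut.conj g).toMonoidHom (MulAut.conj g).injective _
  rw [IsTwoElt, IsTwoElt, ho, Subgroup.mem_zpowers_iff, Subgroup.mem_zpowers_iff]
  refine and_congr Iff.rfl (exists_congr fun k => ?_)
  show _ ↔ (g * (x : G) * g⁻¹) ^ k = g * w * g⁻¹
  rw [conj_zpow, mul_left_inj, mul_right_inj]

end Cfsg.Agent.Lib.J4Classes92
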