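import Cfsg.Agent.Lib.J4Classes92.Defs
import Mathlib.GroupTheory.Coset.Card

/-!
# Counting classes through the `q`-part of an element
-/

set_option autoImplicit false

namespace Cfsg.Agent.Lib.J4Classes92

open Cfsg.Agent.Lib.J4Local

variable {G : Type*} [Group G]

/-- A predicate constant on classes. -/
def ConjInv (P : G → Prop) : Prop := ∀ a g : G, P g → P (a * g * a⁻¹)

theorem ConjInv.of_isConj {P : G → Prop} (hP : ConjInv P) {g h : G} (hc : IsConj g h) (hg : P g) :
    P h := by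
  obtain ⟨a, rfl⟩ := isConj_iff.mp hc
  exact hP a g hg

theorem orderOf_conj (a g : G) : orderOf (a * g * a⁻¹) = orderOf g :=
  MulEquiv.orderOf_eq (MulAut.conj a) g

theorem conjInv_order (R : ℕ → Prop) : ConjInv (fun g : G => R (orderOf g)) := fun a g h => by
  show R _
  rw [orderOf_conj]; exact h

theorem conjInv_twoElt : ConjInv (IsTwoElt : G → Prop) := fun a g h => by
  obtain ⟨k, hk⟩ := h
  exact ⟨k, by rw [orderOf_conj, hk]⟩

theorem orderOf_coe {K : Subgroup G} (g : ↥K) : orderOf (g : G) = orderOf g :=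
  orderOf_injective K.subtype Subtype.coe_injective g

theorem classCount_top : classCount G (fun _ => True) = Nat.card (ConjClasses G) :=
  Nat.card_congr ((Equiv.subtypeUnivEquiv fun C => by
    obtain ⟨g, rfl⟩ := ConjClasses.mk_surjective C
    exact ⟨g, rfl, trivial⟩))

theorem classCount_iff {P Q : G → Prop} (h : ∀ g, P g ↔ Q g) :
    classCount G P = classCount G Q := by
  have : P = Q := funext fun g => propext (h g)
  rw [this]

theorem classCount_add [Finite G] {P Q : G → Prop} (hP : ConjInv P)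
    (hd : ∀ g, P g → ¬ Q g) :
    classCount G (fun g => P g ∨ Q g) = classCount G P + classCount G Q := by
  classical
  rw [classCount, classCount, classCount, ← Nat.card_sum]
  refine Nat.card_congr (Equiv.trans (Equiv.subtypeEquivRight fun C => ?_)
    (subtypeOrEquiv _ _ (Pi.disjoint_iff.mpr fun C => Prop.disjoint_iff.mpr ?_)))
  · exact ⟨fun ⟨g, hg, h⟩ => h.imp (fun h => ⟨g, hg, h⟩) (fun h => ⟨g, hg, h⟩),
      fun h => h.elim (fun ⟨g, hg, h⟩ => ⟨g, hg, Or.inl h⟩) fun ⟨g, hg, h⟩ => ⟨g, hg, Or.inr h⟩⟩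
  · rintro ⟨⟨g, hg, hPg⟩, ⟨h, hh, hQh⟩⟩
    exact hd h (hP.of_isConj (ConjClasses.mk_eq_mk_iff_isConj.mp (hg.trans hh.symm)) hPg) hQh

theorem classCount_eq_one {P : G → Prop} {g0 : G} (h0 : P g0) (h : ∀ g, P g → IsConj g0 g) :
    classCount G P = 1 := by
  rw [classCount, Nat.card_eq_one_iff_unique]
  exact ⟨⟨fun ⟨C, g, hg, hP⟩ ⟨D, g', hg', hP'⟩ => Subtype.ext (hg.symm.trans
      ((ConjClasses.mk_eq_mk_iff_isConj.mpr ((h g hP).symm.trans (h g' hP'))).trans hg'))⟩,
    ⟨⟨_, g0, rfl, h0⟩⟩⟩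

theorem classCount_mulEquiv {H : Type*} [Group H] (e : G ≃* H) {P : H → Prop} :
    classCount G (fun g => P (e g)) = classCount H P := by
  refine Nat.card_congr (Equiv.subtypeEquiv ?_ fun C => ?_)
  · exact
      { toFun := ConjClasses.map e.toMonoidHom
        invFun := ConjClasses.map e.symm.toMonoidHom
        left_inv := fun C => by
          obtain ⟨g, rfl⟩ := ConjClasses.mk_surjective C
          exact congrArg ConjClasses.mk (e.symm_apply_apply g)
        right_inv := fun C => by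
          obtain ⟨g, rfl⟩ := ConjClasses.mk_surjective C
          exact congrArg ConjClasses.mk (e.apply_symm_apply g) }
  · constructor
    · rintro ⟨g, rfl, hg⟩
      exact ⟨e g, rfl, hg⟩
    · rintro ⟨h, hh, hP⟩
      refine ⟨e.symm h, ?_, by simpa using hP⟩
      obtain ⟨g, rfl⟩ := ConjClasses.mk_surjective C
      obtain ⟨a, ha⟩ := isConj_iff.mp (ConjClasses.mk_eq_mk_iff_isConj.mp hh)
      refine ConjClasses.mk_eq_mk_iff_isConj.mpr (isConj_iff.mpr ⟨e.symm a, ?_⟩)
      apply e.injective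
      simpa using ha

/-- The classes of `g` with `f g` conjugate to `x` are the classes of `C(x)` above `x`. -/
theorem classCount_fiber {f : G → G} (hf : ∀ a g, f (a * g * a⁻¹) = a * f g * a⁻¹)
    (hcomm : ∀ g, Commute g (f g)) {P : G → Prop} (hP : ConjInv P) (x : G) :
    classCount G (fun g => P g ∧ IsConj x (f g)) =
      classCount ↥(cz x) (fun c => P (c : G) ∧ f (c : G) = x) := by
  symm
  let up : {C : ConjClasses ↥(cz x) // ∃ c, ConjClasses.mk c = C ∧ P (c : G) ∧ f (c : G) = x} →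
      {C : ConjClasses G // ∃ g, ConjClasses.mk g = C ∧ P g ∧ IsConj x (f g)} := fun C =>
    ⟨ConjClasses.map (cz x).subtype C.1, by
      obtain ⟨C, c, rfl, hc, hx⟩ := C
      refine ⟨c, rfl, hc, ?_⟩
      rw [hx]⟩
  refine Nat.card_eq_of_bijective up ⟨?_, ?_⟩
  · rintro ⟨C, c, rfl, _, hc⟩ ⟨D, d, rfl, _, hd⟩ h
    have h' : ConjClasses.mk (c : G) = ConjClasses.mk (d : G) := congrArg Subtype.val h
    obtain ⟨a, ha⟩ := isConj_iff.mp (ConjClasses.mk_eq_mk_iff_isConj.mp h')
    have hax : a * x * a⁻¹ = x := by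
      conv_lhs => rw [← hc]
      rw [← hf, ha, hd]
    exact Subtype.ext (ConjClasses.mk_eq_mk_iff_isConj.mpr (isConj_iff.mpr
      ⟨⟨a, mem_cz.mpr (mul_inv_eq_iff_eq_mul.mp hax)⟩, Subtype.ext ha⟩))
  · rintro ⟨C, g, rfl, hPg, hg⟩
    obtain ⟨b, hb⟩ := isConj_iff.mp hg
    have hfc : f (b⁻¹ * g * b) = x := by
      have h := hf b⁻¹ g
      rw [inv_inv] at h
      rw [h, ← hb]; group
    have hc : b⁻¹ * g * b ∈ cz x := by
      refine mem_cz.mpr ?_
      have h := hcomm (b⁻¹ * g * b)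
      rwa [hfc] at h
    have hPc : P (b⁻¹ * g * b) := by
      have h := hP b⁻¹ g hPg
      rwa [inv_inv] at h
    refine ⟨⟨ConjClasses.mk ⟨_, hc⟩, ⟨_, hc⟩, rfl, hPc, hfc⟩, Subtype.ext ?_⟩
    exact ConjClasses.mk_eq_mk_iff_isConj.mpr (isConj_iff.mpr ⟨b, by
      show b * (b⁻¹ * g * b) * b⁻¹ = g
      group⟩)

/-- Translation by a central element. -/
theorem classCount_translate {x : G} (hx : ∀ a, Commute a x) {P : G → Prop} :
    classCount G (fun g => P (x * g)) = classCount G P := by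
  have key : ∀ a g : G, a * (x * g) * a⁻¹ = x * (a * g * a⁻¹) := fun a g => by
    rw [← mul_assoc, (hx a).eq]; group
  have key' : ∀ a g : G, a * (x⁻¹ * g) * a⁻¹ = x⁻¹ * (a * g * a⁻¹) := fun a g => by
    rw [← mul_assoc, (hx a).inv_right.eq]; group
  let e : ConjClasses G ≃ ConjClasses G :=
    { toFun := Quotient.map (x * ·) fun g h (hgh : IsConj g h) => by
        obtain ⟨a, rfl⟩ := isConj_iff.mp hgh
        exact isConj_iff.mpr ⟨a, key a g⟩
      invFun := Quotient.map (x⁻¹ * ·) fun g h (hgh : IsConj g h) => by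
        obtain ⟨a, rfl⟩ := isConj_iff.mp hgh
        exact isConj_iff.mpr ⟨a, key' a g⟩
      left_inv := fun C => by
        obtain ⟨g, rfl⟩ := ConjClasses.mk_surjective C
        exact congrArg ConjClasses.mk (inv_mul_cancel_left x g)
      right_inv := fun C => by
        obtain ⟨g, rfl⟩ := ConjClasses.mk_surjective C
        exact congrArg ConjClasses.mk (mul_inv_cancel_left x g) }
  refine Nat.card_congr (Equiv.subtypeEquiv e fun C => ?_)
  constructor
  · rintro ⟨g, rfl, hg⟩
    exact ⟨x * g, rfl, hg⟩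
  · rintro ⟨g, hg, hP⟩
    refine ⟨x⁻¹ * g, e.injective ?_, show P (x * (x⁻¹ * g)) by rwa [mul_inv_cancel_left]⟩
    rw [← hg]
    exact congrArg ConjClasses.mk (mul_inv_cancel_left x g)

/-! ### The `q`-part -/

/-- The exponent picking out the `q`-part in a cyclic group of order `n`. -/
def qExp (q n : ℕ) : ℕ :=
  (n / q ^ n.factorization q) ^ Nat.totient (q ^ n.factorization q)

/-- The `q`-part of an element. -/
noncomputable def qPart (q : ℕ) (g : G) : G := g ^ qExp q (orderOf g)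

theorem qPart_conj (q : ℕ) (a g : G) : qPart q (a * g * a⁻¹) = a * qPart q g * a⁻¹ := by
  rw [qPart, qPart, orderOf_conj, conj_pow]

theorem qPart_comm (q : ℕ) (g : G) : Commute g (qPart q g) := Commute.self_pow _ _

theorem qPart_coe (q : ℕ) {K : Subgroup G} (g : ↥K) :
    qPart q (g : G) = ((qPart q g : ↥K) : G) := by
  simp [qPart]

variable [Finite G]

theorem ordCompl_coprime {q : ℕ} (hq : q.Prime) (g : G) :
    Nat.Coprime (orderOf g / q ^ (orderOf g).factorization q)
      (q ^ (orderOf g).factorization q) :=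
  ((Nat.coprime_ordCompl hq (orderOf_pos g).ne').pow_left _).symm

theorem qPart_eq {q : ℕ} (hq : q.Prime) {g x h : G} (hg : g = x * h) (hc : Commute x h)
    {k : ℕ} (hx : orderOf x = q ^ k) (hh : ¬ q ∣ orderOf h) : qPart q g = x := by
  have hcop : Nat.Coprime (orderOf x) (orderOf h) := by
    rw [hx]; exact (hq.coprime_iff_not_dvd.mpr hh).pow_left k
  have hn : orderOf g = q ^ k * orderOf h := by
    rw [hg, hc.orderOf_mul_eq_mul_orderOf_of_coprime hcop, hx]
  have hfac : (orderOf g).factorization q = k := by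
    rw [hn, Nat.factorization_mul (pow_ne_zero k hq.ne_zero) (orderOf_pos h).ne', Finsupp.add_apply,
      hq.factorization_pow, Finsupp.single_eq_same, Nat.factorization_eq_zero_of_not_dvd hh,
      add_zero]
  have hdiv : orderOf g / q ^ k = orderOf h := by
    rw [hn, Nat.mul_div_cancel_left _ (pow_pos hq.pos k)]
  set e := qExp q (orderOf g) with he
  have he' : e = orderOf h ^ Nat.totient (q ^ k) := by rw [he, qExp, hfac, hdiv]
  have hx1 : x ^ e = x := by
    have hm : e ≡ 1 [MOD q ^ k] :=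
      he' ▸ Nat.ModEq.pow_totient ((hq.coprime_iff_not_dvd.mpr hh).pow_left k).symm
    rw [← hx] at hm
    simpa using (pow_eq_pow_iff_modEq.mpr hm)
  have hh1 : h ^ e = 1 := by
    refine orderOf_dvd_iff_pow_eq_one.mp ?_
    rw [he']
    exact dvd_pow_self _ (Nat.totient_pos.mpr (pow_pos hq.pos k)).ne'
  show g ^ e = x
  rw [hg, hc.mul_pow, hx1, hh1, mul_one]

theorem qPart_spec {q : ℕ} (hq : q.Prime) (g : G) :
    orderOf (qPart q g) = q ^ (orderOf g).factorization q ∧
      ¬ q ∣ orderOf ((qPart q g)⁻¹ * g) := by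
  set a := q ^ (orderOf g).factorization q with ha
  set b := orderOf g / a with hb
  have hab : a * b = orderOf g := Nat.ordProj_mul_ordCompl_eq_self _ q
  have ha0 : 0 < a := pow_pos hq.pos _
  have hb0 : 0 < b := Nat.ordCompl_pos q (orderOf_pos g).ne'
  have hcop : Nat.Coprime b a := ordCompl_coprime hq g
  have hb1 : ¬ q ∣ b := Nat.not_dvd_ordCompl hq (orderOf_pos g).ne'
  -- a decomposition of `g` from a Bezout identity
  obtain ⟨u, v, huv⟩ := (Nat.Coprime.isCoprime hcop)
  have hsplit : g = g ^ (u * (b : ℤ)) * g ^ (v * (a : ℤ)) := by rw [← zpow_add, huv, zpow_one]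
  have h1 : orderOf (g ^ (u * (b : ℤ))) ∣ a := by
    refine orderOf_dvd_of_pow_eq_one ?_
    rw [← zpow_natCast, ← zpow_mul, mul_assoc, ← Nat.cast_mul, mul_comm b a, hab, mul_comm,
      zpow_mul, zpow_natCast, pow_orderOf_eq_one, one_zpow]
  have h2 : orderOf (g ^ (v * (a : ℤ))) ∣ b := by
    refine orderOf_dvd_of_pow_eq_one ?_
    rw [← zpow_natCast, ← zpow_mul, mul_assoc, ← Nat.cast_mul, hab, mul_comm,
      zpow_mul, zpow_natCast, pow_orderOf_eq_one, one_zpow]
  have hmul : orderOf g ∣ orderOf (g ^ (u * (b : ℤ))) * b := by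
    conv_lhs => rw [hsplit]
    exact (Commute.orderOf_mul_dvd_lcm (Commute.zpow_zpow_self g _ _)).trans
      (Nat.lcm_dvd (dvd_mul_right _ _) (h2.trans (dvd_mul_left _ _)))
  rw [← hab] at hmul
  have hx := Nat.dvd_antisymm h1 (Nat.dvd_of_mul_dvd_mul_right hb0 hmul)
  have hh : ¬ q ∣ orderOf (g ^ (v * (a : ℤ))) := fun h => hb1 (h.trans h2)
  have hqp := qPart_eq hq hsplit (Commute.zpow_zpow_self g _ _) (k := (orderOf g).factorization q)
    hx hh
  refine ⟨hqp ▸ hx, ?_⟩
  rw [hqp]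
  conv in (g ^ (u * (b : ℤ)))⁻¹ * g => arg 2; rw [hsplit]
  rwa [inv_mul_cancel_left]

theorem qPart_order_of_prime {q : ℕ} (hq : q.Prime) {g : G} (h : q ∣ orderOf g)
    (h2 : ¬ q ^ 2 ∣ orderOf g) : orderOf (qPart q g) = q := by
  rw [(qPart_spec hq g).1]
  have h1 := hq.factorization_pos_of_dvd (orderOf_pos g).ne' h
  have h3 : ¬ 2 ≤ (orderOf g).factorization q := fun hh =>
    h2 ((Nat.Prime.pow_dvd_iff_le_factorization hq (orderOf_pos g).ne').mpr hh)
  rw [show (orderOf g).factorization q = 1 by omega, pow_one]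

/-- The classes of `g` whose `q`-part is conjugate to `x`. -/
theorem classCount_qPart {q : ℕ} (hq : q.Prime) {x : G} {k : ℕ} (hx : orderOf x = q ^ k) :
    classCount G (fun g => IsConj x (qPart q g)) =
      classCount ↥(cz x) (fun c => ¬ q ∣ orderOf c) := by
  have hmem : x ∈ cz x := mem_cz.mpr (Commute.refl x)
  rw [classCount_iff (Q := fun g => True ∧ IsConj x (qPart q g)) (fun g => (true_and (IsConj x (qPart q g))).symm ▸ Iff.rfl),
    classCount_fiber (qPart_conj q) (qPart_comm q) (fun _ _ _ => trivial) x,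
    ← classCount_translate (G := ↥(cz x)) (x := ⟨x, hmem⟩)
      (fun a => Subtype.ext (mem_cz.mp a.2).eq)]
  refine classCount_iff fun c => ?_
  have hcx : Commute x (c : G) := (mem_cz.mp c.2).symm
  simp only [Subgroup.coe_mul, true_and]
  constructor
  · intro h
    have h2 := (qPart_spec hq (x * (c : G))).2
    rw [h, inv_mul_cancel_left, orderOf_coe] at h2
    exact h2
  · intro h
    exact qPart_eq hq rfl hcx hx (by rw [orderOf_coe]; exact h)

/-- Elements with a `q`-part of prime order, when all those of order `q` are conjugate to `x`. -/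
theorem classCount_dvd {q : ℕ} (hq : q.Prime) {x : G} (hx : orderOf x = q)
    (hsq : ∀ g : G, ¬ q ^ 2 ∣ orderOf g) (hone : ∀ y, orderOf y = q → IsConj x y) :
    classCount G (fun g => q ∣ orderOf g) = classCount ↥(cz x) (fun c => ¬ q ∣ orderOf c) := by
  rw [← classCount_qPart hq (x := x) (k := 1) (by rw [hx, pow_one])]
  refine classCount_iff fun g => ⟨fun h => hone _ (qPart_order_of_prime hq h (hsq g)), fun h => ?_⟩
  obtain ⟨a, ha⟩ := isConj_iff.mp h
  have h1 : orderOf (qPart q g) = q := by rw [← ha, orderOf_conj, hx]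
  rw [← h1]
  exact orderOf_pow_dvd _

/-- The same with two classes of elements of order `q`. -/
theorem classCount_dvd_two {q : ℕ} (hq : q.Prime) {x y : G} (hx : orderOf x = q)
    (hy : orderOf y = q) (hxy : ¬ IsConj x y) (hsq : ∀ g : G, ¬ q ^ 2 ∣ orderOf g)
    (htwo : ∀ w, orderOf w = q → IsConj x w ∨ IsConj y w) :
    classCount G (fun g => q ∣ orderOf g) = classCount ↥(cz x) (fun c => ¬ q ∣ orderOf c) +
      classCount ↥(cz y) (fun c => ¬ q ∣ orderOf c) := by
  rw [← classCount_qPart hq (x := x) (k := 1) (by rw [hx, pow_one]),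
    ← classCount_qPart hq (x := y) (k := 1) (by rw [hy, pow_one]),
    ← classCount_add (fun a g (h : IsConj x (qPart q g)) => by
      show IsConj x _
      rw [qPart_conj]
      exact h.trans (isConj_iff.mpr ⟨a, rfl⟩))
      (fun g h h' => hxy (h.trans h'.symm))]
  refine classCount_iff fun g => ⟨fun h => htwo _ (qPart_order_of_prime hq h (hsq g)), fun h => ?_⟩
  rcases h with h | h <;> obtain ⟨a, ha⟩ := isConj_iff.mp h <;>
    (have h1 : orderOf (qPart q g) = q := by rw [← ha, orderOf_conj]; assumption) <;>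
    (rw [← h1]; exact orderOf_pow_dvd _)

/-- The classes above `x` with an extra property. -/
theorem classCount_qPart_and {q : ℕ} (hq : q.Prime) {x : G} {k : ℕ} (hx : orderOf x = q ^ k)
    {P : G → Prop} (hP : ConjInv P) :
    classCount G (fun g => P g ∧ IsConj x (qPart q g)) =
      classCount ↥(cz x) (fun c => ¬ q ∣ orderOf c ∧ P (x * (c : G))) := by
  have hmem : x ∈ cz x := mem_cz.mpr (Commute.refl x)
  rw [classCount_fiber (qPart_conj q) (qPart_comm q) hP x,
    ← classCount_translate (G := ↥(cz x)) (x := ⟨x, hmem⟩)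
      (fun a => Subtype.ext (mem_cz.mp a.2).eq)]
  refine classCount_iff fun c => ?_
  have hcx : Commute x (c : G) := (mem_cz.mp c.2).symm
  simp only [Subgroup.coe_mul]
  constructor
  · rintro ⟨hPc, h⟩
    have h2 := (qPart_spec hq (x * (c : G))).2
    rw [h, inv_mul_cancel_left, orderOf_coe] at h2
    exact ⟨h2, hPc⟩
  · rintro ⟨h, hPc⟩
    exact ⟨hPc, qPart_eq hq rfl hcx hx (by rw [orderOf_coe]; exact h)⟩

/-- One class of order `q`, with an extra property. -/
theorem classCount_dvd_and {q : ℕ} (hq : q.Prime) {x : G} (hx : orderOf x = q)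
    (hsq : ∀ g : G, ¬ q ^ 2 ∣ orderOf g) (hone : ∀ y, orderOf y = q → IsConj x y)
    {P : G → Prop} (hP : ConjInv P) :
    classCount G (fun g => q ∣ orderOf g ∧ P g) =
      classCount ↥(cz x) (fun c => ¬ q ∣ orderOf c ∧ P (x * (c : G))) := by
  rw [← classCount_qPart_and hq (x := x) (k := 1) (by rw [hx, pow_one]) hP]
  refine classCount_iff fun g => ⟨fun h => ⟨h.2, hone _ (qPart_order_of_prime hq h.1 (hsq g))⟩,
    fun h => ⟨?_, h.1⟩⟩
  obtain ⟨a, ha⟩ := isConj_iff.mp h.2
  have h1 : orderOf (qPart q g) = q := by rw [← ha, orderOf_conj, hx]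
  rw [← h1]
  exact orderOf_pow_dvd _

/-- A `q'`-element keeps its order modulo a normal `q`-group. -/
theorem orderOf_mk' {q : ℕ} (hq : q.Prime) (U : Subgroup G) [U.Normal] (hU : IsPGroup q ↥U)
    {c : G} (hc : ¬ q ∣ orderOf c) : orderOf (QuotientGroup.mk' U c) = orderOf c := by
  refine Nat.dvd_antisymm (orderOf_map_dvd _ c) (orderOf_dvd_of_pow_eq_one ?_)
  set n := orderOf (QuotientGroup.mk' U c)
  have hmem : c ^ n ∈ U := by
    rw [← QuotientGroup.eq_one_iff]
    show QuotientGroup.mk' U (c ^ n) = 1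
    rw [map_pow, pow_orderOf_eq_one]
  have := Fact.mk hq
  obtain ⟨k, hk⟩ := IsPGroup.iff_orderOf.mp hU ⟨_, hmem⟩
  rw [Subgroup.orderOf_mk] at hk
  rw [← orderOf_eq_one_iff, hk]
  rcases Nat.eq_zero_or_pos k with rfl | hk0
  · exact pow_zero q
  · exact absurd ((dvd_pow_self q hk0.ne').trans (hk ▸ orderOf_pow_dvd n)) hc

/-- Classes of `q'`-elements in an extension of a `q`-group by a `q'`-group. -/
theorem classCount_quot_and {q : ℕ} (hq : q.Prime) (U : Subgroup G) [U.Normal] (hU : IsPGroup q ↥U)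
    (hidx : ¬ q ∣ U.index) (Rel : ℕ → Prop) :
    classCount G (fun g => ¬ q ∣ orderOf g ∧ Rel (orderOf g)) =
      classCount (G ⧸ U) (fun w => Rel (orderOf w)) := by
  have hsmall : ∀ v : G, (∃ k, orderOf v = q ^ k) → v ∈ U := by
    rintro v ⟨k, hk⟩
    rw [← QuotientGroup.eq_one_iff, ← orderOf_eq_one_iff]
    have h1 : orderOf (QuotientGroup.mk' U v) ∣ q ^ k := hk ▸ orderOf_map_dvd _ v
    have h2 : orderOf (QuotientGroup.mk' U v) ∣ U.index := by
      rw [Subgroup.index_eq_card]; exact orderOf_dvd_natCard _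
    have hcop : Nat.Coprime (q ^ k) U.index := (hq.coprime_iff_not_dvd.mpr hidx).pow_left k
    exact Nat.dvd_one.mp (hcop ▸ Nat.dvd_gcd h1 h2)
  have horb : ∀ b b' : G, ¬ q ∣ orderOf b → ¬ q ∣ orderOf b' → b⁻¹ * b' ∈ U →
      ∃ u ∈ U, u * b * u⁻¹ = b' := by
    intro b b' hb hb' hbb
    let C : Subgroup ↥U := (cz b).subgroupOf U
    let θ : (↥U ⧸ C) × ↥C → {w : G // b⁻¹ * w ∈ U} := fun s =>
      ⟨((s.1.out : ↥U) : G) * (b * ((s.2 : ↥U) : G)) * ((s.1.out : ↥U) : G)⁻¹, by
        set u := ((s.1.out : ↥U) : G)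
        set a := ((s.2 : ↥U) : G)
        have hu : u ∈ U := (s.1.out : ↥U).2
        have ha : a ∈ U := (s.2 : ↥U).2
        rw [show b⁻¹ * (u * (b * a) * u⁻¹) = b⁻¹ * u * b * (a * u⁻¹) by group]
        refine mul_mem ?_ (mul_mem ha (inv_mem hu))
        simpa using (‹U.Normal›).conj_mem u hu b⁻¹⟩
    have hpart : ∀ s, qPart q (θ s : G) =
        ((s.1.out : ↥U) : G) * ((s.2 : ↥U) : G) * ((s.1.out : ↥U) : G)⁻¹ := by
      intro s
      have := Fact.mk hq
      obtain ⟨k, hk⟩ := IsPGroup.iff_orderOf.mp hU (s.2 : ↥U)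
      show qPart q (((s.1.out : ↥U) : G) * (b * ((s.2 : ↥U) : G)) * ((s.1.out : ↥U) : G)⁻¹) = _
      rw [qPart_conj]
      congr 2
      have hab : Commute ((s.2 : ↥U) : G) b := mem_cz.mp s.2.2
      exact qPart_eq hq hab.symm.eq hab (k := k) (by rw [orderOf_coe]; exact hk) hb
    have hrest : ∀ s, (qPart q (θ s : G))⁻¹ * (θ s : G) =
        ((s.1.out : ↥U) : G) * b * ((s.1.out : ↥U) : G)⁻¹ := fun s => by
      rw [hpart]
      have hab : Commute ((s.2 : ↥U) : G) b := mem_cz.mp s.2.2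
      show _⁻¹ * (((s.1.out : ↥U) : G) * (b * ((s.2 : ↥U) : G)) * ((s.1.out : ↥U) : G)⁻¹) = _
      rw [← hab.eq]
      group
    have hinj : Function.Injective θ := by
      intro s s' h
      have h1 := hrest s
      rw [h, hrest s'] at h1
      have h2 : s.1 = s'.1 := by
        rw [← s.1.out_eq', ← s'.1.out_eq', QuotientGroup.eq, Subgroup.mem_subgroupOf,
          Subgroup.coe_mul, Subgroup.coe_inv, mem_cz]
        show _ * b = b * _
        set u := ((s.1.out : ↥U) : G)
        set v := ((s'.1.out : ↥U) : G)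
        calc u⁻¹ * v * b = u⁻¹ * (v * b * v⁻¹) * v := by group
          _ = _ := by rw [h1]; group
      have h3 := congrArg Subtype.val h
      simp only [θ, h2] at h3
      refine Prod.ext h2 (Subtype.ext (Subtype.ext ?_))
      exact mul_left_cancel (mul_left_cancel (mul_right_cancel h3))
    have hcard : Nat.card ((↥U ⧸ C) × ↥C) = Nat.card {w : G // b⁻¹ * w ∈ U} := by
      rw [Nat.card_prod, ← Subgroup.card_eq_card_quotient_mul_card_subgroup C]
      exact Nat.card_congr ((Equiv.subtypeEquiv (Equiv.mulLeft b) fun u => by simp))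
    obtain ⟨s, hs⟩ := (hinj.bijective_of_nat_card_le hcard.ge).2 ⟨b', hbb⟩
    refine ⟨((s.1.out : ↥U) : G), (s.1.out : ↥U).2, ?_⟩
    rw [← hrest s, hs]
    show (qPart q b')⁻¹ * b' = b'
    rw [qPart_eq hq (one_mul b').symm (Commute.one_left b') (k := 0) (by simp) hb', inv_one, one_mul]
  refine Nat.card_eq_of_bijective
    (fun C => ⟨ConjClasses.map (QuotientGroup.mk' U) C.1, ?_⟩) ⟨?_, ?_⟩
  · obtain ⟨C, c, rfl, hc, hR⟩ := C
    exact ⟨QuotientGroup.mk' U c, rfl, show Rel (orderOf (QuotientGroup.mk' U c)) by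
      rw [orderOf_mk' hq U hU hc]; exact hR⟩
  · rintro ⟨C, c, rfl, hc, _⟩ ⟨D, d, rfl, hd, _⟩ h
    obtain ⟨a, ha⟩ := isConj_iff.mp (ConjClasses.mk_eq_mk_iff_isConj.mp (congrArg Subtype.val h))
    obtain ⟨a, rfl⟩ := QuotientGroup.mk'_surjective U a
    rw [← map_inv, ← map_mul, ← map_mul] at ha
    obtain ⟨u, -, hu⟩ := horb (a * c * a⁻¹) d (by rw [orderOf_conj]; exact hc) hd
      (QuotientGroup.eq.mp ha)
    exact Subtype.ext (ConjClasses.mk_eq_mk_iff_isConj.mpr
      ((isConj_iff.mpr ⟨a, rfl⟩).trans (isConj_iff.mpr ⟨u, hu⟩)))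
  · rintro ⟨C, w, rfl, hw⟩
    obtain ⟨g, rfl⟩ := QuotientGroup.mk'_surjective U w
    obtain ⟨h1, h2⟩ := qPart_spec hq g
    have himg : QuotientGroup.mk' U ((qPart q g)⁻¹ * g) = QuotientGroup.mk' U g := by
      rw [map_mul, map_inv, QuotientGroup.mk'_apply U (qPart q g),
        (QuotientGroup.eq_one_iff _).mpr (hsmall _ ⟨_, h1⟩), inv_one, one_mul]
    refine ⟨⟨ConjClasses.mk ((qPart q g)⁻¹ * g), _, rfl, h2, ?_⟩, Subtype.ext ?_⟩
    · rw [← orderOf_mk' hq U hU h2, himg]; exact hw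
    · exact congrArg ConjClasses.mk himg

/-- The classes of `q'`-elements are those of the quotient. -/
theorem classCount_quot {q : ℕ} (hq : q.Prime) (U : Subgroup G) [U.Normal] (hU : IsPGroup q ↥U)
    (hidx : ¬ q ∣ U.index) :
    classCount G (fun g => ¬ q ∣ orderOf g) = Nat.card (ConjClasses (G ⧸ U)) := by
  rw [← classCount_top (G := G ⧸ U), ← classCount_quot_and hq U hU hidx (fun _ => True)]
  exact classCount_iff fun g => ⟨fun h => ⟨h, trivial⟩, fun h => h.1⟩

end Cfsg.Agent.Lib.J4Classes92
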