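import Cfsg.Agent.Lib.J4Local.Setting

/-!
# Classes of elements by the power which is an involution

Shared vocabulary for the count of the classes of a group of Janko-four type.
-/

set_option autoImplicit false

namespace Cfsg.Agent.Lib.J4Classes92

open Cfsg.Agent.Lib.J4Local

variable {G : Type*} [Group G]

/-- The order is a power of two. -/
def IsTwoElt (g : G) : Prop := ∃ k, orderOf g = 2 ^ k

/-- The number of classes on which `P` holds somewhere. -/
noncomputable def classCount (G : Type*) [Group G] (P : G → Prop) : ℕ :=
  Nat.card {C : ConjClasses G // ∃ g, ConjClasses.mk g = C ∧ P g}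

/-- The classes of `C(w)` on the 2-elements whose cyclic group contains `w`. -/
noncomputable def powCount (w : G) : ℕ :=
  classCount ↥(cz w) (fun g => IsTwoElt (g : G) ∧ w ∈ Subgroup.zpowers (g : G))

end Cfsg.Agent.Lib.J4Classes92
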