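import Cfsg.Agent.Lib.J4Classes92.Count

/-!
# Seven classes for the group of order 24 on a quaternion group
-/

set_option autoImplicit false

namespace Cfsg.Agent.Lib.J4Classes92.SL23

variable {M : Type*} [Group M]

/-- The relations. -/
structure Rel (i j p : M) : Prop where
  i4 : i * (i * (i * i)) = 1
  jj : j * j = i * i
  ji : j * i = i * (i * (i * j))
  p3 : p * (p * p) = 1
  pi : p * i = j * p
  pj : p * j = i * (j * p)

/-- The normal form applied to an element. -/
def nf (i j p : M) (n : Fin 24) (X : M) : M :=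
  i ^ ((n : ℕ) / 6) * (j ^ ((n : ℕ) / 3 % 2) * (p ^ ((n : ℕ) % 3) * X))

/-- Conjugation by `i`. -/
def cI : Fin 24 → Fin 24 := ![0,22,5,15,7,2,6,4,11,21,13,8,12,10,17,3,19,14,18,16,23,9,1,20]

/-- Conjugation by `p`. -/
def cP : Fin 24 → Fin 24 := ![0,1,2,9,10,11,3,4,5,6,7,8,12,13,14,21,22,23,15,16,17,18,19,20]

/-- Right multiplication by `i`. -/
def tI : Fin 24 → Fin 24 := ![6,4,11,21,13,8,12,10,17,3,19,14,18,16,23,9,1,20,0,22,5,15,7,2]

/-- Right multiplication by `p`. -/
def tP : Fin 24 → Fin 24 := ![1,2,0,4,5,3,7,8,6,10,11,9,13,14,12,16,17,15,19,20,18,22,23,21]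

/-- The class of a normal form. -/
def cl : Fin 24 → Fin 7 := ![0,1,2,3,4,2,3,4,2,3,4,2,5,4,6,3,1,6,3,1,6,3,1,6]

theorem step {i j p : M} (R : Rel i j p) (n : Fin 24) :
    i * nf i j p n 1 = nf i j p (cI n) 1 * i ∧ p * nf i j p n 1 = nf i j p (cP n) 1 * p ∧
      nf i j p n 1 * i = nf i j p (tI n) 1 ∧ nf i j p n 1 * p = nf i j p (tP n) 1 := by
  have a1 : ∀ Y, i * (i * (i * (i * Y))) = Y := fun Y => by
    simpa [mul_assoc] using congrArg (· * Y) R.i4
  have a2 : ∀ Y, j * (j * Y) = i * (i * Y) := fun Y => by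
    simpa [mul_assoc] using congrArg (· * Y) R.jj
  have a3 : ∀ Y, j * (i * Y) = i * (i * (i * (j * Y))) := fun Y => by
    simpa [mul_assoc] using congrArg (· * Y) R.ji
  have a6 : ∀ Y, p * (i * Y) = j * (p * Y) := fun Y => by
    simpa [mul_assoc] using congrArg (· * Y) R.pi
  have a7 : ∀ Y, p * (j * Y) = i * (j * (p * Y)) := fun Y => by
    simpa [mul_assoc] using congrArg (· * Y) R.pj
  fin_cases n <;> refine ⟨?_, ?_, ?_, ?_⟩ <;>
    simp [nf, cI, cP, tI, tP, pow_succ, mul_assoc, a1, a2, a3, a6, a7, R.i4, R.jj, R.ji,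
      R.p3, R.pi, R.pj]

theorem cl_inv : ∀ n, cl (cI n) = cl n ∧ cl (cP n) = cl n := by decide +kernel

/-- Moves. -/
def move (b : Fin 3) : Fin 24 → Fin 24 :=
  if b = 0 then id else if b = 1 then cI else cP

theorem connected : ∀ n m : Fin 24, cl n = cl m →
    ∃ a b c d : Fin 3, move a (move b (move c (move d n))) = m := by decide +kernel

/-- Seven classes. -/
theorem card_classes [Finite M] {i j p : M} (R : Rel i j p) (hcard : Nat.card M = 24)
    (hgen : Subgroup.closure ({i, p} : Set M) = ⊤) : Nat.card (ConjClasses M) = 7 := by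
  classical
  let f : Fin 24 → M := fun n => nf i j p n 1
  have hS := step R
  have hsurj : Function.Surjective f := by
    have hi : ∀ m, ∀ (k : ℕ), ∃ n, f m * i ^ k = f n := fun m k => by
      induction k with
      | zero => exact ⟨m, by rw [pow_zero, mul_one]⟩
      | succ k ih =>
        obtain ⟨n, hn⟩ := ih
        exact ⟨tI n, by rw [pow_succ, ← mul_assoc, hn]; exact (hS n).2.2.1⟩
    have hp : ∀ m, ∀ (k : ℕ), ∃ n, f m * p ^ k = f n := fun m k => by
      induction k with
      | zero => exact ⟨m, by rw [pow_zero, mul_one]⟩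
      | succ k ih =>
        obtain ⟨n, hn⟩ := ih
        exact ⟨tP n, by rw [pow_succ, ← mul_assoc, hn]; exact (hS n).2.2.2⟩
    intro w
    have hw : w ∈ Subgroup.closure ({i, p} : Set M) := hgen ▸ Subgroup.mem_top w
    induction hw using Subgroup.closure_induction_right with
    | one => exact ⟨0, by simp [f, nf]⟩
    | mul_right x _ y hy ih =>
      obtain ⟨n, rfl⟩ := ih
      rcases hy with rfl | rfl
      · exact ⟨tI n, ((hS n).2.2.1).symm⟩
      · exact ⟨tP n, ((hS n).2.2.2).symm⟩
    | mul_inv_cancel x _ y hy ih =>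
      obtain ⟨n, rfl⟩ := ih
      rcases hy with rfl | rfl
      · obtain ⟨m, hm⟩ := hi n 3
        refine ⟨m, ?_⟩
        rw [← hm, eq_mul_inv_iff_mul_eq, mul_assoc, ← pow_succ,
          show y ^ 4 = 1 by simp [pow_succ, mul_assoc, R.i4], mul_one]
      · obtain ⟨m, hm⟩ := hp n 2
        refine ⟨m, ?_⟩
        rw [← hm, eq_mul_inv_iff_mul_eq, mul_assoc, ← pow_succ,
          show y ^ 3 = 1 by simp [pow_succ, mul_assoc, R.p3], mul_one]
  have hbij : Function.Bijective f := by
    refine ⟨?_, hsurj⟩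
    have h := (Nat.bijective_iff_surjective_and_card f).mpr ⟨hsurj, by rw [hcard, Nat.card_fin]⟩
    exact h.1
  have hconj : ∀ a n m, a * f n * a⁻¹ = f m → cl n = cl m := by
    intro a
    have ha : a ∈ Subgroup.closure ({i, p} : Set M) := hgen ▸ Subgroup.mem_top a
    induction ha using Subgroup.closure_induction with
    | mem y hy =>
      intro n m h
      rcases hy with rfl | rfl
      · rw [(hS n).1, mul_inv_cancel_right] at h
        rw [← hbij.1 h, (cl_inv n).1]
      · rw [(hS n).2.1, mul_inv_cancel_right] at h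
        rw [← hbij.1 h, (cl_inv n).2]
    | one => intro n m h; rw [one_mul, inv_one, mul_one] at h; rw [hbij.1 h]
    | mul a b _ _ iha ihb =>
      intro n m h
      obtain ⟨k, hk⟩ := hbij.2 (b * f n * b⁻¹)
      rw [ihb n k hk.symm]
      refine iha k m ?_
      rw [hk, ← h]; group
    | inv a _ iha =>
      intro n m h
      exact (iha m n (by rw [← h]; group)).symm
  have hmove : ∀ b n, IsConj (f n) (f (move b n)) := fun b n => by
    by_cases h0 : b = 0
    · subst h0; exact IsConj.refl _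
    by_cases h1 : b = 1
    · subst h1
      exact isConj_iff.mpr ⟨i, by
        show i * nf i j p n 1 * i⁻¹ = _
        rw [(hS n).1, mul_inv_cancel_right]; rfl⟩
    · exact isConj_iff.mpr ⟨p, by
        show p * nf i j p n 1 * p⁻¹ = _
        rw [(hS n).2.1, mul_inv_cancel_right]
        simp [f, move, h0, h1]⟩
  let g : ConjClasses M → Fin 7 := Quotient.lift (fun w => cl (hbij.2 w).choose)
    fun w w' (hw : IsConj w w') => by
      obtain ⟨a, ha⟩ := isConj_iff.mp hw
      exact hconj a _ _ (by rw [(hbij.2 w).choose_spec, (hbij.2 w').choose_spec, ha])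
  have hg : ∀ n, g (ConjClasses.mk (f n)) = cl n := fun n => by
    show cl (hbij.2 (f n)).choose = cl n
    rw [hbij.1 (hbij.2 (f n)).choose_spec]
  rw [Nat.card_eq_of_bijective g ⟨?_, ?_⟩, Nat.card_fin]
  · intro C D h
    obtain ⟨w, rfl⟩ := ConjClasses.mk_surjective C
    obtain ⟨w', rfl⟩ := ConjClasses.mk_surjective D
    obtain ⟨n, rfl⟩ := hbij.2 w
    obtain ⟨m, rfl⟩ := hbij.2 w'
    rw [hg, hg] at h
    obtain ⟨a, b, c, d, rfl⟩ := connected n m h
    exact ConjClasses.mk_eq_mk_iff_isConj.mpr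
      ((hmove d n).trans ((hmove c _).trans ((hmove b _).trans (hmove a _))))
  · intro k
    obtain ⟨n, hn⟩ := (show ∀ k : Fin 7, ∃ n, cl n = k by decide +kernel) k
    exact ⟨ConjClasses.mk (f n), by rw [hg, hn]⟩

end Cfsg.Agent.Lib.J4Classes92.SL23
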