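import Cfsg.Agent.Lib.J4Classes92.Big
import Cfsg.Agent.Lib.J4Classes92.SL23
import Cfsg.Agent.Lib.J4Eleven49.Extra

/-!
# The classes at the prime eleven
-/

set_option autoImplicit false
set_option linter.unusedSectionVars false

namespace Cfsg.Agent.Lib.J4Classes92

open Cfsg.Agent.Lib
open Cfsg.Agent.Lib.J4Local
open Cfsg.Agent.Lib.J4Eleven49

variable {G : Type*} [Group G] [Finite G] {z p x : G} {U : Subgroup G}

/-- `C(x)` has seven classes of elements of order prime to eleven. -/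
theorem eleven_central (C : Ctx z p x) (I : J4BigPrimes.Inputs z) (hU : Cent z x U)
    [IsSimpleGroup G] (hG : ¬ IsMulCommutative G) (hne : ∃ a ∈ U, ∃ b ∈ U, ¬ Commute a b) :
    classCount ↥(cz x) (fun c => ¬ 11 ∣ orderOf c) = 7 := by
  have h11 : Nat.Prime 11 := by norm_num
  have := Fact.mk h11
  set S := C.set with hS
  set U' := U.subgroupOf (cz x) with hU'
  have hUn : U'.Normal := ⟨fun a ha d => hU.normal d d.2 a ha⟩
  have hU'c : Nat.card ↥U' = 11 ^ 3 := by
    rw [hU', Nat.card_congr (Subgroup.subgroupOfEquivOfLe hU.le_cz).toEquiv, hU.card]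
  have hidx : U'.index = 24 := by
    have h := Subgroup.card_mul_index U'
    rw [hU'c, hU.card_cz] at h
    omega
  rw [classCount_quot h11 U' (IsPGroup.of_card hU'c) (by rw [hidx]; norm_num)]
  -- a quaternion pair, suitably signed
  have hzz : z * z = 1 := S.z_sq
  have hzc : ∀ {f : G}, f ∈ fixQ z x → Commute z f := fun hf =>
    (mem_cz.mp (Q_le_cz z (mem_fixQ.mp hf).1)).symm
  have hpz : p * z * p⁻¹ = z := mul_inv_eq_iff_eq_mul.mpr S.p_z.eq
  obtain ⟨e, he, he1, hez⟩ := C.exists_fixQ_elt I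
  obtain ⟨i, hi, hi1, hiz, hk⟩ : ∃ i, i ∈ fixQ z x ∧ i ≠ 1 ∧ i ≠ z ∧
      p * (p * i * p⁻¹) * p⁻¹ = i * (p * i * p⁻¹) := by
    set j := p * e * p⁻¹ with hj
    have hjm := C.conj_p_mem he
    obtain ⟨a1, a2, a3, a4⟩ := C.fixQ_mod he he1 hez
    have hee : e * e = z := C.sq_fixQ I he he1 hez
    obtain ⟨a, ha, hf⟩ := C.fixQ_cases I he he1 hez (mul_mem he hjm)
    simp only [Set.mem_insert_iff, Set.mem_singleton_iff] at ha
    rcases ha with rfl | rfl | rfl | rfl
    · exfalso
      rw [one_mul] at hf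
      rcases hf with h | h
      · exact a4 (show j = e * z by
          rw [hj, ← inv_eq_of_mul_eq_one_right h]
          refine inv_eq_of_mul_eq_one_right ?_
          rw [← mul_assoc, hee, hzz])
      · exact a3 (mul_left_cancel (h.trans hee.symm))
    · exfalso
      rcases hf with h | h
      · exact a1 (mul_eq_left.mp h)
      · exact a2 (mul_left_cancel h)
    · exfalso
      rcases hf with h | h
      · exact he1 (mul_eq_right.mp h)
      · exact hez (mul_right_cancel (h.trans (hzc hjm).symm.eq))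
    · rcases hf with h | h
      · exact ⟨e, he, he1, hez, h.symm⟩
      · refine ⟨e * z, mul_mem he C.z_mem_fixQ, fun h1 => ?_, fun h1 => he1 (mul_eq_right.mp h1), ?_⟩
        · exact hez ((eq_inv_of_mul_eq_one_left h1).trans (inv_eq_of_mul_eq_one_right hzz))
        · have hjz : p * (e * z) * p⁻¹ = j * z := by
            calc p * (e * z) * p⁻¹ = j * (p * z * p⁻¹) := by rw [hj]; group
              _ = j * z := by rw [hpz]
          have hej : e * z * (j * z) = e * j := by
            calc e * z * (j * z) = e * (z * j) * z := by group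
              _ = e * j * (z * z) := by rw [hj, (hzc hjm).eq]; group
              _ = e * j := by rw [hzz, mul_one]
          rw [hjz, hej, h]
          calc p * (j * z) * p⁻¹ = p * j * p⁻¹ * (p * z * p⁻¹) := by group
            _ = _ := by rw [hpz]
  set j := p * i * p⁻¹ with hj
  have hjm : j ∈ fixQ z x := C.conj_p_mem hi
  obtain ⟨j1, jz, j3, j4⟩ := C.fixQ_mod hi hi1 hiz
  have hii : i * i = z := C.sq_fixQ I hi hi1 hiz
  have hjj : j * j = z := C.sq_fixQ I hjm j1 jz
  have hiinv : i⁻¹ = i * z := inv_eq_of_mul_eq_one_right (by rw [← mul_assoc, hii, hzz])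
  have hij : i * j * (i * j) = z := C.sq_fixQ I (mul_mem hi hjm)
    (fun h => j4 (by rw [← hiinv]; exact (inv_eq_of_mul_eq_one_right h).symm))
    (fun h => j3 (mul_left_cancel (h.trans hii.symm)))
  have hjinv : j⁻¹ = j * z := inv_eq_of_mul_eq_one_right (by rw [← mul_assoc, hjj, hzz])
  have hji : j * i = i * (i * (i * j)) := by
    calc j * i = i⁻¹ * (i * j * (i * j)) * j⁻¹ := by group
      _ = i * (z * z) * (j * z) := by rw [hij, hiinv, hjinv]; group
      _ = i * z * j := by rw [hzz, mul_one, mul_assoc i z j, (hzc hjm).eq]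
      _ = _ := by rw [← hii]; group
  have hicz : i ∈ cz x := mem_cz.mpr (mem_fixQ.mp hi).2
  have hpcz : p ∈ cz x := mem_cz.mpr C.xp.symm
  let π := QuotientGroup.mk' U'
  set iM := π ⟨i, hicz⟩ with hiM
  set pM := π ⟨p, hpcz⟩ with hpM
  have hjcz : j ∈ cz x := mem_cz.mpr (mem_fixQ.mp hjm).2
  have R : SL23.Rel iM (π ⟨j, hjcz⟩) pM := by
    refine ⟨?_, ?_, ?_, ?_, ?_, ?_⟩
    all_goals simp only [hiM, hpM, ← map_mul, MulMemClass.mk_mul_mk]
    · rw [← map_one π]
      exact congrArg π (Subtype.ext (show i * (i * (i * i)) = 1 by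
        rw [hii, ← mul_assoc, hii, hzz]))
    · exact congrArg π (Subtype.ext (show j * j = i * i by rw [hii, hjj]))
    · exact congrArg π (Subtype.ext hji)
    · rw [← map_one π]
      exact congrArg π (Subtype.ext (show p * (p * p) = 1 by
        rw [← mul_assoc]; simpa [pow_succ] using S.p_cube))
    · exact congrArg π (Subtype.ext (show p * i = j * p by rw [hj, inv_mul_cancel_right]))
    · exact congrArg π (Subtype.ext (show p * j = i * (j * p) by
        calc p * j = p * j * p⁻¹ * p := (inv_mul_cancel_right _ _).symm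
          _ = i * j * p := by rw [hk]
          _ = i * (j * p) := mul_assoc _ _ _))
  set K : Subgroup (↥(cz x) ⧸ U') := Subgroup.closure {iM, pM} with hK
  have hcardM : Nat.card (↥(cz x) ⧸ U') = 24 := by rw [← Subgroup.index_eq_card, hidx]
  refine SL23.card_classes R hcardM ?_
  rw [← hK, ← Subgroup.card_eq_iff_eq_top]
  -- the image contains a subgroup of order eight and an element of order three
  have hjK : π ⟨j, hjcz⟩ ∈ K := by
    have hpK : pM ∈ K := Subgroup.subset_closure (by simp)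
    have hiK : iM ∈ K := Subgroup.subset_closure (by simp)
    have e : π ⟨j, hjcz⟩ = pM * iM * pM⁻¹ := by rw [R.pi, mul_inv_cancel_right]
    rw [e]
    exact mul_mem (mul_mem hpK hiK) (inv_mem hpK)
  have hiK : iM ∈ K := Subgroup.subset_closure (by simp)
  have hpK : pM ∈ K := Subgroup.subset_closure (by simp)
  have hle : ∀ f (hf : f ∈ fixQ z x), π ⟨f, mem_cz.mpr (mem_fixQ.mp hf).2⟩ ∈ K := by
    intro f hf
    obtain ⟨a, ha, hfa⟩ := C.fixQ_cases I hi hi1 hiz hf
    have hzK : f = a ∨ f = a * (i * i) := by rwa [hii]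
    simp only [Set.mem_insert_iff, Set.mem_singleton_iff] at ha
    rw [← hj, hk] at ha
    have haK : ∃ ha' : a ∈ cz x, π ⟨a, ha'⟩ ∈ K := by
      rcases ha with rfl | rfl | rfl | rfl
      · exact ⟨one_mem _, by rw [show (⟨1, one_mem _⟩ : ↥(cz x)) = 1 from rfl, map_one]; exact one_mem K⟩
      · exact ⟨hicz, hiK⟩
      · exact ⟨hjcz, hjK⟩
      · exact ⟨mul_mem hicz hjcz, by
          rw [← MulMemClass.mk_mul_mk (cz x) i j hicz hjcz, map_mul]; exact mul_mem hiK hjK⟩
    obtain ⟨ha', haK⟩ := haK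
    rcases hzK with rfl | rfl
    · exact haK
    · rw [← MulMemClass.mk_mul_mk (cz x) a (i * i) ha' (mul_mem hicz hicz),
        ← MulMemClass.mk_mul_mk (cz x) i i hicz hicz, map_mul, map_mul]
      exact mul_mem haK (mul_mem hiK hiK)
  have h8 : 8 ∣ Nat.card ↥K := by
    let g : ↥(fixQ z x) →* ↥K := MonoidHom.codRestrict
      (π.comp (Subgroup.inclusion (inf_le_right : fixQ z x ≤ cz x))) K fun f => hle f.1 f.2
    have hg : Function.Injective g := by
      rw [injective_iff_map_eq_one]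
      intro f hf
      have hm' : Subgroup.inclusion (inf_le_right : fixQ z x ≤ cz x) f ∈ U' :=
        (QuotientGroup.eq_one_iff _).mp (congrArg Subtype.val hf)
      have hm : (f : G) ∈ U := Subgroup.mem_subgroupOf.mp hm' 
      have h1 := orderOf_dvd_natCard (⟨(f : G), hm⟩ : ↥U)
      have h2 := orderOf_dvd_natCard f
      rw [Subgroup.orderOf_mk, hU.card] at h1
      rw [C.card_fixQ I, ← orderOf_coe] at h2
      exact Subtype.ext (orderOf_eq_one_iff.mp (Nat.dvd_one.mp
        ((show Nat.gcd (11 ^ 3) 8 = 1 by norm_num) ▸ Nat.dvd_gcd h1 h2)))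
    rw [← C.card_fixQ I]
    exact Subgroup.card_dvd_of_injective g hg
  have h3 : 3 ∣ Nat.card ↥K := by
    have := Fact.mk Nat.prime_three
    have ho : orderOf pM = 3 := by
      refine orderOf_eq_prime ?_ fun h => ?_
      · rw [pow_succ, pow_succ, pow_one, mul_assoc]; exact R.p3
      · have hm' : (⟨p, hpcz⟩ : ↥(cz x)) ∈ U' := (QuotientGroup.eq_one_iff _).mp h
        have hm : p ∈ U := Subgroup.mem_subgroupOf.mp hm' 
        have h1 := orderOf_dvd_natCard (⟨p, hm⟩ : ↥U)
        rw [Subgroup.orderOf_mk, hU.card, S.ord_p] at h1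
        norm_num at h1
    have := orderOf_dvd_natCard (⟨pM, hpK⟩ : ↥K)
    rwa [Subgroup.orderOf_mk, ho] at this
  rw [hcardM]
  have h24 := Subgroup.card_subgroup_dvd_card K
  rw [hcardM] at h24
  exact Nat.dvd_antisymm h24 (Nat.Coprime.mul_dvd_of_dvd_of_dvd (by norm_num : Nat.Coprime 8 3) h8 h3)

theorem pow_zpowers_conj (C : Ctx z p x) {w : G} (hw : w ∈ Subgroup.zpowers x) (hw1 : w ≠ 1) :
    IsConj x w := by
  have : Fact (Nat.Prime 11) := ⟨by norm_num⟩
  obtain ⟨b, -, hb⟩ := C.exists_sq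
  obtain ⟨i, rfl⟩ := Subgroup.mem_zpowers_iff.mp hw
  have key : ∀ j : ℕ, b ^ j * x * (b ^ j)⁻¹ = x ^ 2 ^ j := by
    intro j
    induction j with
    | zero => simp
    | succ m ih =>
      calc b ^ (m + 1) * x * (b ^ (m + 1))⁻¹ = b * (b ^ m * x * (b ^ m)⁻¹) * b⁻¹ := by
            rw [pow_succ']; group
        _ = x ^ 2 ^ (m + 1) := by rw [ih, ← conj_pow, hb, ← pow_mul, pow_succ']
  have hi0 : (i : ZMod 11) ≠ 0 := fun h0 => hw1 (by
    rw [zpow_eq_of_cast C.ord (b := 0) (by rw [h0]; norm_num), zpow_zero])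
  obtain ⟨k, hk⟩ := two_pow_surj _ hi0
  refine isConj_iff.mpr ⟨b ^ (k : ℕ), ?_⟩
  rw [key, ← zpow_natCast]
  refine zpow_eq_of_cast C.ord ?_
  rw [← hk]
  push_cast
  rfl

/-- Elements of order eleven commuting with a conjugate of `z`. -/
theorem conj_of_commute (C : Ctx z p x) {v w : G} (hv : orderOf v = 11) (hw : IsConj z w)
    (hc : Commute v w) : IsConj x v := by
  have : Fact (Nat.Prime 11) := ⟨by norm_num⟩
  obtain ⟨g, rfl⟩ := isConj_iff.mp hw
  set v' := g⁻¹ * v * g with hv'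
  have hv'z : v' ∈ cz z := mem_cz.mpr (by
    simpa [hv', mul_assoc] using hc.map (MulAut.conj g⁻¹))
  have hv'o : orderOf v' = 11 := by
    rw [hv', show g⁻¹ * v * g = g⁻¹ * v * g⁻¹⁻¹ by group, orderOf_conj, hv]
  have hsq : ¬ 11 ^ 2 ∣ Nat.card ↥(cz z) := by rw [C.set.card_cz autFacts]; norm_num
  obtain ⟨a, ha⟩ := J4BigPrimes.conj_of_cyclic (a := (⟨v', hv'z⟩ : ↥(cz z)))
    (b := (⟨x, C.x_mem⟩ : ↥(cz z))) hsq
    (by rw [Subgroup.orderOf_mk, hv'o]) (by rw [Subgroup.orderOf_mk, C.ord])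
  obtain ⟨i, hi⟩ := Subgroup.mem_zpowers_iff.mp (ha.le (Subgroup.mem_zpowers _))
  have hi' : x ^ i = (a : G) * v' * (a : G)⁻¹ := by
    have := congrArg (fun q : ↥(cz z) => (q : G)) hi
    simpa using this
  have hconj : IsConj ((a : G) * v' * (a : G)⁻¹) v := isConj_iff.mpr ⟨g * (a : G)⁻¹, by
    rw [hv']; group⟩
  refine (pow_zpowers_conj C ⟨i, hi'⟩ fun h => ?_).trans hconj
  have ho := orderOf_conj (a : G) v'
  rw [h, orderOf_one, hv'o] at ho
  norm_num at ho

/-- An element of order three does not centralise an element of the second class. -/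
theorem no_three (C : Ctx z p x) [IsSimpleGroup G] (hG : ¬ IsMulCommutative G) {y r : G}
    (hy : orderOf y = 11) (hxy : ¬ IsConj x y) (hr : orderOf r = 3) : ¬ Commute r y := fun hc => by
  obtain ⟨a, ha⟩ := isConj_iff.mp (C.set.three_conj hG autFacts hr)
  have hc' : Commute (a⁻¹ * y * a) p := by
    have h := (hc.map (MulAut.conj a⁻¹)).symm
    simp only [MulAut.conj_apply, inv_inv] at h
    rwa [show a⁻¹ * r * a = p by rw [← ha]; group] at h
  have h := C.set.centralizer_p_le hG autFacts hc'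
  refine hxy (conj_of_commute C hy (isConj_iff.mpr ⟨a, rfl⟩) ?_)
  have h' := h.map (MulAut.conj a)
  simp only [MulAut.conj_apply] at h'
  rwa [show a * (a⁻¹ * y * a) * a⁻¹ = y by group] at h'

open J4BigPrimes in
/-- A 2-group centralising an element of the second class has order at most two. -/
theorem two_part_second (C : Ctx z p x) (I : J4BigPrimes.Inputs z) {y : G} (h11 : orderOf y = 11)
    (hxy : ¬ IsConj x y) {R : Subgroup G} (hR : IsPGroup 2 ↥R) (hle : R ≤ cz y) :
    Nat.card ↥R ∣ 2 := by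
  classical
  have := Fact.mk Nat.prime_two
  have : Fact (Nat.Prime 11) := ⟨by norm_num⟩
  have hy11 : y ^ 11 = 1 := by rw [← h11, pow_orderOf_eq_one]
  by_cases h1 : R = ⊥
  · rw [h1, Subgroup.card_bot]; norm_num
  obtain ⟨w, hwR, hwo, hRw⟩ := exists_central hR h1
  have hyw : y ∈ cz w := mem_cz.mpr (mem_cz.mp (hle hwR)).symm
  have hz : ¬ IsConj z w := fun h => hxy (conj_of_commute C h11 h (mem_cz.mp hyw))
  obtain ⟨V, K, hV, hK, hn, hVe, hVc, hinf, hsup, ⟨iso⟩⟩ := I.second w hwo hz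
  obtain ⟨χ, hχ, hχk⟩ := J4Five.quot_hom hK hn hinf hsup iso
  have hy' : orderOf (χ ⟨y, hyw⟩) = 11 := by
    refine orderOf_eq_prime ?_ fun h => ?_
    · rw [← map_pow, show (⟨y, hyw⟩ : ↥(cz w)) ^ 11 = 1 from Subtype.ext hy11, map_one]
    · have hyV : y ∈ V := (hχk _).mp h
      have := Subgroup.card_dvd_of_le (Subgroup.zpowers_le.mpr hyV)
      rw [Nat.card_zpowers, h11, hVc] at this
      norm_num at this
  have hsub : R ≤ V ⊓ cz y := fun d hd => by
    refine ⟨(hχk ⟨d, hRw hd⟩).mp ?_, hle hd⟩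
    obtain ⟨k, hk⟩ := hR ⟨d, hd⟩
    have hc : χ ⟨d, hRw hd⟩ ∈ Subgroup.centralizer ({χ ⟨y, hyw⟩} : Set AutM22) := by
      refine LargeExtraspecial.Basic.mem_centralizer_single.mpr ?_
      show _ * _ = _ * _
      rw [← map_mul, ← map_mul]
      exact congrArg χ (Subtype.ext (mem_cz.mp (hle hd)).eq)
    have h1 := orderOf_dvd_natCard (⟨_, hc⟩ : ↥(Subgroup.centralizer ({χ ⟨y, hyw⟩} : Set AutM22)))
    rw [Subgroup.orderOf_mk, cent_eleven hy'] at h1
    have h2 : orderOf (χ ⟨d, hRw hd⟩) ∣ 2 ^ k := by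
      refine orderOf_dvd_of_pow_eq_one ?_
      rw [← map_pow, show (⟨d, hRw hd⟩ : ↥(cz w)) ^ 2 ^ k = 1 from
        Subtype.ext (congrArg Subtype.val hk :), map_one]
    have hcop : Nat.Coprime (2 ^ k) 11 := Nat.Coprime.pow_left k (by norm_num)
    exact orderOf_eq_one_iff.mp (Nat.dvd_one.mp (hcop ▸ Nat.dvd_gcd h2 h1))
  refine (Subgroup.card_dvd_of_le hsub).trans ?_
  have hmod := Cfsg.Agent.Lib.J4Local.Five.card_fixed_modEq (K := V) hy11
    fun v hv => (Subgroup.mem_normalizer_iff.mp (hn hyw) v).mp hv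
  change _ ≡ Nat.card ↥(V ⊓ cz y) [MOD 11] at hmod
  obtain ⟨k, hk11, hk⟩ := (Nat.dvd_prime_pow Nat.prime_two).mp
    (hVc ▸ Subgroup.card_dvd_of_le (inf_le_left : V ⊓ cz y ≤ V))
  rw [hVc, hk, Nat.ModEq] at hmod
  have hne : k ≠ 11 := by
    rintro rfl
    have heq : V ⊓ cz y = V := Subgroup.eq_of_le_of_card_ge inf_le_left (by rw [hk, hVc])
    have hyV := I.self V hVe hVc (Subgroup.mem_centralizer_iff.mpr fun v hv =>
      (mem_cz.mp (heq.ge hv).2).eq)
    have := Subgroup.card_dvd_of_le (Subgroup.zpowers_le.mpr hyV)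
    rw [Nat.card_zpowers, h11, hVc] at this
    norm_num at this
  rw [hk]
  interval_cases k <;> simp_all

/-- `C(y)` has two classes of elements of order prime to eleven. -/
theorem eleven_second (C : Ctx z p x) (I : J4BigPrimes.Inputs z) (hU : Cent z x U)
    [IsSimpleGroup G] (hG : ¬ IsMulCommutative G) (hne : ∃ a ∈ U, ∃ b ∈ U, ¬ Commute a b)
    {y t : G} (hy : orderOf y = 11) (hxy : ¬ IsConj x y) (ht : orderOf t = 2) (hty : Commute t y) :
    classCount ↥(cz y) (fun c => ¬ 11 ∣ orderOf c) = 2 := by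
  have h11 : Nat.Prime 11 := by norm_num
  have := Fact.mk h11
  set n := Nat.card ↥(cz y) with hn
  have h3 : ¬ 3 ∣ n := fun h => by
    have := Fact.mk Nat.prime_three
    obtain ⟨⟨r, hr⟩, hro⟩ := exists_prime_orderOf_dvd_card' (G := ↥(cz y)) 3 h
    rw [Subgroup.orderOf_mk] at hro
    exact no_three C hG hy hxy hro (mem_cz.mp hr)
  have h4 : ¬ 2 ^ 2 ∣ n := fun h => by
    have := Fact.mk Nat.prime_two
    obtain ⟨R, hR⟩ := Sylow.exists_subgroup_card_pow_prime (G := ↥(cz y)) 2 h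
    have hd := two_part_second C I hy hxy ((IsPGroup.of_card hR).map (cz y).subtype)
      (Subgroup.map_subtype_le _)
    rw [Subgroup.card_map_of_injective (Subgroup.subtype_injective _), hR] at hd
    norm_num at hd
  obtain ⟨P⟩ := (inferInstance : Nonempty (Sylow 11 ↥(cz y)))
  set P' : Subgroup G := (P : Subgroup ↥(cz y)).map (cz y).subtype with hP'
  have hP'c : Nat.card ↥P' = Nat.card ↥(P : Subgroup ↥(cz y)) :=
    Subgroup.card_map_of_injective (Subgroup.subtype_injective _)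
  have hd := card_cz_eleven hG C.set I hy
  obtain ⟨k, hk⟩ := P.2.exists_card_eq
  have hidx : ¬ 11 ∣ (P : Subgroup ↥(cz y)).index := P.not_dvd_index
  have hmul := Subgroup.card_mul_index (P : Subgroup ↥(cz y))
  rw [hk, ← hn] at hmul
  have hk3 : k ≤ 3 := by
    by_contra hgt
    have h1 : 11 ^ 4 ∣ n := (pow_dvd_pow 11 (show 4 ≤ k by omega)).trans (Dvd.intro _ hmul)
    have h2 := h1.trans hd
    norm_num at h2
  have hi8 : (P : Subgroup ↥(cz y)).index ∣ 2 := by
    have hd' : (P : Subgroup ↥(cz y)).index ∣ 2 ^ 3 * 3 * 11 ^ 3 := (Dvd.intro_left _ hmul).trans hd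
    have h24 : (P : Subgroup ↥(cz y)).index ∣ 3 * 2 ^ 3 :=
      (Nat.Coprime.dvd_of_dvd_mul_right ((h11.coprime_iff_not_dvd.mpr hidx).symm.pow_right 3) hd').trans
        (dvd_of_eq (by norm_num))
    have h8 : (P : Subgroup ↥(cz y)).index ∣ 2 ^ 3 := Nat.Coprime.dvd_of_dvd_mul_left
      (Nat.prime_three.coprime_iff_not_dvd.mpr fun h => h3 (h.trans (Dvd.intro_left _ hmul))).symm h24
    obtain ⟨m, hm, hme⟩ := (Nat.dvd_prime_pow Nat.prime_two).mp h8
    rcases Nat.lt_or_ge m 2 with h | h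
    · rw [hme, show (2 : ℕ) = 2 ^ 1 from rfl]
      exact pow_dvd_pow 2 (by omega)
    · exact absurd ((hme ▸ pow_dvd_pow 2 h).trans (Dvd.intro_left _ hmul)) h4
  have h2n : 2 ∣ n := by
    have h := orderOf_dvd_natCard (⟨t, mem_cz.mpr hty⟩ : ↥(cz y))
    rwa [Subgroup.orderOf_mk, ht] at h
  have hidx2 : (P : Subgroup ↥(cz y)).index = 2 := by
    rcases (Nat.dvd_prime Nat.prime_two).mp hi8 with h | h
    · rw [h, mul_one] at hmul
      rw [← hmul] at h2n
      have := Nat.prime_two.dvd_of_dvd_pow h2n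
      norm_num at this
    · exact h
  have hPn : (P : Subgroup ↥(cz y)).Normal := Subgroup.normal_of_index_eq_two hidx2
  rw [classCount_quot h11 (P : Subgroup ↥(cz y)) P.2 hidx]
  have hcard : Nat.card (↥(cz y) ⧸ (P : Subgroup ↥(cz y))) = 2 := by
    rw [← Subgroup.index_eq_card, hidx2]
  rw [← hcard]
  have := Fact.mk Nat.prime_two
  have hcyc : IsCyclic (↥(cz y) ⧸ (P : Subgroup ↥(cz y))) := isCyclic_of_prime_card hcard
  refine (Nat.card_eq_of_bijective ConjClasses.mk ⟨fun a b h => ?_, ConjClasses.mk_surjective⟩).symm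
  obtain ⟨c, hc⟩ := isConj_iff.mp (ConjClasses.mk_eq_mk_iff_isConj.mp h)
  obtain ⟨g, hg⟩ := hcyc.exists_generator
  obtain ⟨u, rfl⟩ := Subgroup.mem_zpowers_iff.mp (hg c)
  obtain ⟨v, rfl⟩ := Subgroup.mem_zpowers_iff.mp (hg a)
  rw [← hc, (Commute.zpow_zpow_self g u v).eq, mul_inv_cancel_right]

/-- The count at eleven. -/
theorem eleven_count (C : Ctx z p x) (I : J4BigPrimes.Inputs z) (hU : Cent z x U)
    [IsSimpleGroup G] (hG : ¬ IsMulCommutative G) (hne : ∃ a ∈ U, ∃ b ∈ U, ¬ Commute a b)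
    (hsec : ∃ t : G, orderOf t = 2 ∧ ¬ IsConj z t) :
    classCount G (fun g => 11 ∣ orderOf g) = 9 := by
  have h11 : Nat.Prime 11 := by norm_num
  have := Fact.mk h11
  obtain ⟨t, ht, htn⟩ := hsec
  obtain ⟨⟨y, hy⟩, hyo⟩ := exists_prime_orderOf_dvd_card' (G := ↥(cz t)) 11
    (by rw [J4BigPrimes.card_cent_second autFacts I ht htn]; norm_num)
  rw [Subgroup.orderOf_mk] at hyo
  have hty : Commute t y := (mem_cz.mp hy).symm
  have hxy : ¬ IsConj x y := fun h => by
    obtain ⟨g, hg⟩ := isConj_iff.mp h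
    refine htn ?_
    have h1 := hty.map (MulAut.conj g⁻¹)
    simp only [MulAut.conj_apply, inv_inv] at h1
    rw [show g⁻¹ * y * g = x by rw [← hg]; group] at h1
    have h2 : orderOf (g⁻¹ * t * g) = 2 := by
      rw [show g⁻¹ * t * g = g⁻¹ * t * g⁻¹⁻¹ by group, orderOf_conj, ht]
    exact (C.involution_conj I hU h1 h2).trans (isConj_iff.mpr ⟨g, by group⟩)
  obtain ⟨a, b, -, -, -, hall⟩ := C.two_classes I hU hG hne ⟨t, ht, htn⟩
  have htwo : ∀ w, orderOf w = 11 → IsConj x w ∨ IsConj y w := by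
    intro w hw
    rcases hall x C.ord with hx | hx <;> rcases hall y hyo with hy' | hy'
    · exact absurd (hx.trans hy'.symm) hxy
    · exact (hall w hw).imp (fun h => hx.trans h.symm) fun h => hy'.trans h.symm
    · exact (hall w hw).symm.imp (fun h => hx.trans h.symm) fun h => hy'.trans h.symm
    · exact absurd (hx.trans hy'.symm) hxy
  have hsq : ∀ g : G, ¬ 11 ^ 2 ∣ orderOf g := fun g h => by
    obtain ⟨P, hP⟩ := hU.exists_sylow I
    set w := g ^ (orderOf g / 11 ^ 2) with hw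
    have hwo : orderOf w = 11 ^ 2 := by
      rw [hw, orderOf_pow_of_dvd (Nat.div_ne_zero_iff.mpr ⟨by norm_num,
        Nat.le_of_dvd (orderOf_pos g) h⟩) (Nat.div_dvd_of_dvd h),
        Nat.div_div_self h (orderOf_pos g).ne']
    obtain ⟨R, hR⟩ := (IsPGroup.of_card (n := 2) (by rw [Nat.card_zpowers, hwo]) :
      IsPGroup 11 ↥(Subgroup.zpowers w)).exists_le_sylow
    obtain ⟨c, hc⟩ := MulAction.exists_smul_eq G R P
    have hm : c * w * c⁻¹ ∈ U := by
      rw [← hP, ← hc, Sylow.coe_subgroup_smul]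
      exact Subgroup.smul_mem_pointwise_smul w (MulAut.conj c) _ (hR (Subgroup.mem_zpowers w))
    have hd := orderOf_dvd_of_pow_eq_one (hU.pow _ hm)
    rw [orderOf_conj, hwo] at hd
    norm_num at hd
  rw [classCount_dvd_two h11 C.ord hyo hxy hsq htwo, eleven_central C I hU hG hne,
    eleven_second C I hU hG hne hyo hxy ht hty]

end Cfsg.Agent.Lib.J4Classes92
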