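import Mathlib

/-!
# The group of `3 × 3` matrices over the field with two elements: classes
-/

set_option autoImplicit false

namespace Cfsg.Agent.Lib.J4Classes92.ExtData

/-- `3 × 3` matrices over the field with two elements. -/
abbrev M3 : Type := Matrix (Fin 3) (Fin 3) (ZMod 2)

/-- Vectors. -/
abbrev V3 : Type := Fin 3 → ZMod 2

/-- The matrix with a given code. -/
def mat (n : ℕ) : M3 := Matrix.of fun i j => if n.testBit (3 * i.val + j.val) then 1 else 0

/-- The code of a matrix. -/
def code (M : M3) : ℕ :=
  (M 0 0).val + 2 * (M 0 1).val + 4 * (M 0 2).val + 8 * (M 1 0).val + 16 * (M 1 1).val +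
    32 * (M 1 2).val + 64 * (M 2 0).val + 128 * (M 2 1).val + 256 * (M 2 2).val

/-- The determinant. -/
def det3 (M : M3) : ZMod 2 :=
  M 0 0 * (M 1 1 * M 2 2 + M 1 2 * M 2 1) + M 0 1 * (M 1 0 * M 2 2 + M 1 2 * M 2 0) +
    M 0 2 * (M 1 0 * M 2 1 + M 1 1 * M 2 0)

theorem det3_eq (M : M3) : det3 M = M.det := by
  rw [Matrix.det_fin_three]
  simp only [det3, CharTwo.sub_eq_add]
  ring

theorem code_mat : ∀ n : Fin 512, code (mat n) = n := by decide +kernel

theorem mat_surjective : Function.Surjective (fun n : Fin 512 => mat n) := by
  have hinj : Function.Injective (fun n : Fin 512 => mat n) := fun a b h =>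
    Fin.ext (by rw [← code_mat a, ← code_mat b]; exact congrArg code h)
  refine (hinj.bijective_of_nat_card_le ?_).2
  exact le_of_eq (by simp [Nat.card_eq_fintype_card, Matrix])

theorem forall_of_mat {P : M3 → Prop} (h : ∀ n : Fin 512, P (mat n)) (M : M3) : P M := by
  obtain ⟨n, rfl⟩ := mat_surjective M
  exact h n

/-- Invertible matrices. -/
def IsInv (M : M3) : Prop := det3 M = 1

instance : DecidablePred IsInv := fun _ => inferInstanceAs (Decidable (_ = _))

theorem card_inv : Fintype.card {n : Fin 512 // IsInv (mat n)} = 168 := by decide +kernel

/-- The class invariant. -/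
def cls (M : M3) : Fin 6 :=
  if M = 1 then 0 else if M * M = 1 then 1 else if M * M * (M * M) = 1 then 2
  else if M * (M * M) = 1 then 3 else if M 0 0 + M 1 1 + M 2 2 = 0 then 4 else 5

/-- Representatives. -/
def R : Fin 6 → M3 := ![mat 273, mat 277, mat 307, mat 417, mat 172, mat 396]

theorem R_spec : ∀ i, IsInv (R i) ∧ cls (R i) = i := by decide +kernel

/-- Conjugators. -/
def tabCode : ℕ := 49752850136615005910973081479990459156862423481074983615181739801637364029078769733536694084929730913529713707840822077857224010812678556124114959579049156153146979133095829810188997066967546658441845864744400975768581587567695116424887415961820896579660351079717760762992580652392880012367985935621908244931069508331156683103911836407984647241366622816721325335606995170087510007925154477765454009428637688465517177959607307240539313200201734864866302703660548281442128421154722121027306341591746440622775019143515162403577875839866128124413129229747162581046381393163599277582133499058781362741372530478017805130720523687274876075861686413883433432861542222975549510936612240140740609256634921335237188614498110492217087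50241028161361878365330632551647882770351168183864314711774486390679770034932159528556471082762569545599650059574550523924723563649723296116755388535827811991832319482283349132708693203839705736827926483668451921747178181392603362925926243718925850734983347077321368593293034406046820695181151307526000704998308076858790694475785891910337707542168581942855607802317374060047711320119205795224817796431858760592198228884152829451319837931506366016342138801833511315126793122656363406830330856773649597490262204710078510364252824594379562616321721510235090072800042396698334412515334339341518402553248737642279857632904925992455651561832448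

/-- The conjugator for a matrix. -/
def tab (n : ℕ) : M3 := mat (tabCode / 512 ^ n % 512)

theorem tab_spec : ∀ n : Fin 512, IsInv (mat n) →
    IsInv (tab n) ∧ tab n * mat n = R (cls (mat n)) * tab n := by decide +kernel

theorem exists_conj (M : M3) (hM : IsInv M) : ∃ N, IsInv N ∧ N * M = R (cls M) * N := by
  obtain ⟨n, rfl⟩ := mat_surjective M
  exact ⟨_, tab_spec n hM⟩

theorem cls_conj {A B M : M3} (hAB : A * B = 1) (hBA : B * A = 1) :
    cls (A * M * B) = cls M := by
  have hone : ∀ X : M3, A * X * B = 1 ↔ X = 1 := fun X => by
    constructor
    · intro h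
      have := congrArg (fun Y => B * Y * A) h
      simpa [mul_assoc, hBA, ← mul_assoc B A] using this
    · rintro rfl; rw [mul_one, hAB]
  have hmul : ∀ X Y : M3, A * X * B * (A * Y * B) = A * (X * Y) * B := fun X Y => by
    simp only [mul_assoc]
    rw [← mul_assoc B A, hBA, one_mul]
  have htr : (A * M * B).trace = M.trace := by
    rw [Matrix.trace_mul_comm, ← mul_assoc, hBA, one_mul]
  simp only [Matrix.trace_fin_three] at htr
  simp only [cls, hmul, hone, htr]

/-- The transvection with the line fixed. -/
def X : M3 := !![1, 1, 0; 0, 1, 0; 0, 0, 1]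

/-- The transvection moving the plane. -/
def Z : M3 := !![1, 0, 0; 0, 1, 1; 0, 0, 1]

/-- The element of order three fixing the point. -/
def T : M3 := !![1, 0, 0; 0, 0, 1; 0, 1, 1]

theorem gens_inv : IsInv X ∧ IsInv Z ∧ IsInv T := by decide +kernel

theorem cent_two : ∀ n : Fin 512, IsInv (mat n) → mat n * R 1 = R 1 * mat n →
    ∃ i j k : Fin 2, mat n = Z ^ (i : ℕ) * X ^ (j : ℕ) * R 1 ^ (k : ℕ) := by decide +kernel

theorem cent_cyclic : ∀ c : Fin 6, 2 ≤ c → ∀ n : Fin 512, IsInv (mat n) →
    mat n * R c = R c * mat n → ∃ k : Fin 7, mat n = R c ^ (k : ℕ) := by decide +kernel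

/-- Number of classes above each class. -/
def num : Fin 6 → ℕ := ![2, 3, 2, 2, 1, 1]

/-- The invariant on a coset. -/
def psi (c : Fin 6) (v : V3) : ℕ :=
  if c = 2 then (v 2).val else if c = 3 then (v 0).val else 0

theorem psi_spec : ∀ c : Fin 6, 2 ≤ c → ∀ v w : V3,
    psi c (v + (w + (R c).mulVec w)) = psi c v ∧ psi c ((R c).mulVec v) = psi c v ∧
      psi c v < num c := by decide +kernel

theorem psi_sep : ∀ c : Fin 6, 2 ≤ c → ∀ v v' : V3, psi c v = psi c v' →
    ∃ w : V3, v' = v + (w + (R c).mulVec w) := by decide +kernel

theorem psi_surj : ∀ c : Fin 6, 2 ≤ c → ∀ m : Fin (num c), ∃ v : V3, psi c v = m := by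
  decide +kernel

theorem transitive : ∀ v : V3, v ≠ 0 → ∃ n : Fin 512, IsInv (mat n) ∧
    (mat n).mulVec v = ![1, 0, 0] := by decide +kernel

end Cfsg.Agent.Lib.J4Classes92.ExtData
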