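import Mathlib

/-!
# Counting lemmas on conjugates in a subgroup
-/

set_option autoImplicit false

namespace Cfsg.Agent.Lib.J4Classes92

variable {H : Type*} [Group H] [Finite H]

/-- Fibres of a surjective homomorphism. -/
theorem card_preimage {A : Type*} [Group A] (φ : H →* A) (hφ : Function.Surjective φ) (P : A → Prop) :
    Nat.card {h : H // P (φ h)} = Nat.card ↥φ.ker * Nat.card {a : A // P a} := by
  choose σ hσ using hφ
  rw [← Nat.card_prod]
  refine Nat.card_congr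
    { toFun := fun h => (⟨(σ (φ h.1))⁻¹ * h.1, by simp [MonoidHom.mem_ker, hσ]⟩, ⟨φ h.1, h.2⟩)
      invFun := fun x => ⟨σ x.2.1 * x.1.1, by
        rw [map_mul, MonoidHom.mem_ker.mp x.1.2, mul_one, hσ]; exact x.2.2⟩
      left_inv := fun h => Subtype.ext (by simp)
      right_inv := fun x => ?_ }
  have e : φ (σ x.2.1 * x.1.1) = x.2.1 := by
    rw [map_mul, MonoidHom.mem_ker.mp x.1.2, mul_one, hσ]
  refine Prod.ext (Subtype.ext ?_) (Subtype.ext e)
  simp only [e, inv_mul_cancel_left]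

/-- The elements carrying `u` into `S`. -/
theorem card_into (S : Subgroup H) (u : H) :
    Nat.card {h : H // h * u * h⁻¹ ∈ S} = Nat.card ↥(Subgroup.centralizer ({u} : Set H)) *
      Nat.card {x : H // x ∈ S ∧ IsConj u x} := by
  have hc : ∀ x : {x : H // x ∈ S ∧ IsConj u x}, ∃ h, h * u * h⁻¹ = x.1 :=
    fun x => isConj_iff.mp x.2.2
  choose σ hσ using hc
  rw [← Nat.card_prod]
  let img : {h : H // h * u * h⁻¹ ∈ S} → {x : H // x ∈ S ∧ IsConj u x} := fun h =>
    ⟨h.1 * u * h.1⁻¹, h.2, isConj_iff.mpr ⟨h.1, rfl⟩⟩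
  refine Nat.card_congr
    { toFun := fun h => (⟨(σ (img h))⁻¹ * h.1, ?_⟩, img h)
      invFun := fun x => ⟨σ x.2 * x.1.1, ?_⟩
      left_inv := fun h => Subtype.ext (by simp)
      right_inv := fun x => ?_ }
  · rw [Subgroup.mem_centralizer_singleton_iff]
    have e : σ (img h) * u * (σ (img h))⁻¹ = h.1 * u * h.1⁻¹ := hσ (img h)
    calc (σ (img h))⁻¹ * h.1 * u = (σ (img h))⁻¹ * (h.1 * u * h.1⁻¹) * h.1 := by group
      _ = _ := by rw [← e]; group
  · have e : σ x.2 * x.1.1 * u * (σ x.2 * x.1.1)⁻¹ = x.2.1 := by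
      rw [← hσ x.2, mul_inv_rev, mul_assoc (σ x.2) x.1.1 u,
        Subgroup.mem_centralizer_singleton_iff.mp x.1.2]
      group
    rw [e]
    exact x.2.2.1
  · have e : σ x.2 * x.1.1 * u * (σ x.2 * x.1.1)⁻¹ = x.2.1 := by
      rw [← hσ x.2, mul_inv_rev, mul_assoc (σ x.2) x.1.1 u,
        Subgroup.mem_centralizer_singleton_iff.mp x.1.2]
      group
    have h2 : img ⟨σ x.2 * x.1.1, e.symm ▸ x.2.2.1⟩ = x.2 := Subtype.ext e
    refine Prod.ext (Subtype.ext ?_) h2
    simp only [h2, inv_mul_cancel_left]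

/-- A single class of `S`: the centraliser grows by the index. -/
theorem card_into_single (S : Subgroup H) {u : H} (hu : u ∈ S)
    (hone : ∀ x ∈ S, IsConj u x → ∃ s ∈ S, s * u * s⁻¹ = x) :
    Nat.card {h : H // h * u * h⁻¹ ∈ S} * Nat.card ↥(S ⊓ Subgroup.centralizer ({u} : Set H)) =
      Nat.card ↥(Subgroup.centralizer ({u} : Set H)) * Nat.card ↥S := by
  have h1 := card_into (⊤ : Subgroup ↥S) ⟨u, hu⟩
  have e0 : Nat.card {h : ↥S // h * ⟨u, hu⟩ * h⁻¹ ∈ (⊤ : Subgroup ↥S)} = Nat.card ↥S :=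
    Nat.card_congr ((Equiv.subtypeEquivRight fun _ => iff_true_intro trivial).trans
      (Equiv.subtypeUnivEquiv fun _ => trivial))
  have e1 : Nat.card ↥(Subgroup.centralizer ({(⟨u, hu⟩ : ↥S)} : Set ↥S)) =
      Nat.card ↥(S ⊓ Subgroup.centralizer ({u} : Set H)) :=
    Nat.card_congr
      { toFun := fun c => ⟨c.1.1, c.1.2, Subgroup.mem_centralizer_singleton_iff.mpr
          (congrArg Subtype.val (Subgroup.mem_centralizer_singleton_iff.mp c.2))⟩
        invFun := fun c => ⟨⟨c.1, c.2.1⟩, Subgroup.mem_centralizer_singleton_iff.mpr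
          (Subtype.ext (Subgroup.mem_centralizer_singleton_iff.mp c.2.2))⟩
        left_inv := fun _ => rfl
        right_inv := fun _ => rfl }
  have e2 : Nat.card {x : ↥S // x ∈ (⊤ : Subgroup ↥S) ∧ IsConj ⟨u, hu⟩ x} =
      Nat.card {x : H // x ∈ S ∧ IsConj u x} := by
    refine Nat.card_congr
      { toFun := fun x => ⟨x.1.1, x.1.2, ?_⟩
        invFun := fun x => ⟨⟨x.1, x.2.1⟩, trivial, ?_⟩
        left_inv := fun _ => rfl
        right_inv := fun _ => rfl }
    · obtain ⟨s, hs⟩ := isConj_iff.mp x.2.2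
      exact isConj_iff.mpr ⟨s.1, congrArg Subtype.val hs⟩
    · obtain ⟨s, hs, e⟩ := hone x.1 x.2.1 x.2.2
      exact isConj_iff.mpr ⟨⟨s, hs⟩, Subtype.ext e⟩
  rw [e0, e1, e2] at h1
  rw [card_into, h1]
  ring

/-- An equivalence on a finite set whose classes have weights in a range. -/
theorem classes_bounds {ι : Type*} [Fintype ι] (r : Setoid ι) (w : ι → ℕ) {lo hi : ℕ}
    (h : ∀ i, ∀ A : Finset ι, (∀ j, j ∈ A ↔ r i j) → lo ≤ ∑ j ∈ A, w j ∧ ∑ j ∈ A, w j ≤ hi) :
    lo * Nat.card (Quotient r) ≤ ∑ j, w j ∧ ∑ j, w j ≤ hi * Nat.card (Quotient r) := by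
  classical
  have := Fintype.ofFinite (Quotient r)
  have hs : ∑ j, w j = ∑ q : Quotient r, ∑ j ∈ Finset.univ.filter (fun j => Quotient.mk r j = q), w j :=
    (Finset.sum_fiberwise _ _ _).symm
  have hq : ∀ q : Quotient r, lo ≤ ∑ j ∈ Finset.univ.filter (fun j => Quotient.mk r j = q), w j ∧
      ∑ j ∈ Finset.univ.filter (fun j => Quotient.mk r j = q), w j ≤ hi := by
    intro q
    induction q using Quotient.inductionOn with
    | h i =>
      refine h i _ fun j => ?_
      simp only [Finset.mem_filter, Finset.mem_univ, true_and, Quotient.eq]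
      exact ⟨fun e => r.iseqv.symm e, fun e => r.iseqv.symm e⟩
  rw [hs, Nat.card_eq_fintype_card]
  constructor
  · calc lo * Fintype.card (Quotient r) = ∑ _q : Quotient r, lo := by simp [mul_comm]
      _ ≤ _ := Finset.sum_le_sum fun q _ => (hq q).1
  · calc _ ≤ ∑ _q : Quotient r, hi := Finset.sum_le_sum fun q _ => (hq q).2
      _ = _ := by simp [mul_comm]

end Cfsg.Agent.Lib.J4Classes92
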