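import Cfsg.Agent.Lib.J4Order.AzCalc
import Cfsg.Agent.Lib.J4Classes92.HexData

/-!
# The checks on the hexad subgroups normalised by elements of order four and eight
-/

set_option autoImplicit false

namespace Cfsg.Agent.Lib.J4Classes92.HexCalc

open Cfsg.Agent.Lib.Golay Cfsg.Agent.Lib.Computation Cfsg.Agent.Lib.J4Big
open Cfsg.Agent.Lib.J4Big.Codes
open Cfsg.Agent.Lib.J4Local

/-- The code of an index. -/
def code (i : ℕ) : ℕ := SylData.els.getD i 0

/-- The index of the square. -/
def sqI (i : ℕ) : ℕ := getW 8 (SylData.rows.getD i 0) i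

/-- Order eight, or inner of order four. -/
def target (i : ℕ) : Bool :=
  forceNat (sqI i) fun j => !Nat.beq j 0 && (!Nat.beq (sqI j) 0 || Nat.beq (getW 5 (code i) 23) 23)

/-- The normalised conjugates of a representative. -/
def hexP (r : ℕ × ℕ) : ℕ :=
  forceNat (code r.1) fun a => forceNat (code r.2) fun b =>
    ((List.range 77).filter fun j => forceNat j fun j =>
      Nat.beq (keyOf2 (a, b) (Data2.hRep.getD j (0, 0)) Data.uhL)
        (keyOf (Data2.hRep.getD j (0, 0)) Data.uhL)).length

/-- The orders. -/
def ordersOk : Bool := (List.range 256).all fun i => Nat.beq (sqI (sqI (sqI i))) 0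

/-- The conjugators. -/
def witOk : Bool :=
  ((List.range 256).all fun i => !target i || HexData.wit.any fun q => Nat.beq q.1 i) &&
    HexData.wit.all fun q => Nat.blt q.1 256 && Nat.blt q.2.1 4 && pairOk q.2.2 &&
      forceNat (code (HexData.reps.getD q.2.1 (0, 0)).1) fun r =>
        Nat.beq (mulP 24 5 q.2.2.1 (code q.1)) (mulP 24 5 r q.2.2.1)

/-- The numbers of the representatives. -/
def repsOk : Bool :=
  Nat.beq HexData.reps.length 4 && (List.range 4).all fun k =>
    let r := HexData.reps.getD k (0, 0)
    Nat.blt r.1 256 && Nat.blt r.2 256 && pairOk (code r.1, code r.2) && forceNat (hexP r) fun f =>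
      bif Nat.beq (sqI (sqI r.1)) 0 then Nat.beq f 1 || Nat.beq f 5
      else Nat.beq f 1 && HexData.wit.any fun q =>
        Nat.beq q.1 (sqI r.1) && Nat.beq (hexP (HexData.reps.getD q.2.1 (0, 0))) 5

theorem orders_ok : ordersOk = true := by decide +kernel

theorem wit_ok : witOk = true := by decide +kernel

theorem reps_ok : repsOk = true := by decide +kernel

end Cfsg.Agent.Lib.J4Classes92.HexCalc
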