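import Cfsg.Agent.Lib.J4Classes92.HexCalc
import Cfsg.Agent.Lib.J4Order.AzPairs
import Cfsg.Agent.Lib.J4Local.AutSylow

/-!
# Conjugates of the hexad subgroup normalised by elements of order four and eight
-/

set_option autoImplicit false
set_option linter.unusedSectionVars false
set_option linter.style.haveILetI false
set_option maxRecDepth 8000

namespace Cfsg.Agent.Lib.J4Classes92

open Cfsg Cfsg.Agent.Lib.Golay Cfsg.Agent.Lib.Computation Cfsg.Agent.Lib.J4Local Cfsg.Agent.Lib.J4Big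
open Cfsg.Agent.Lib.J4Big.Codes Cfsg.Agent.Lib.J4Order.AzPairs
open HexCalc

attribute [local irreducible] hexP target sqI code keyOf keyOf2 mulP Data2.hRep Data.uhL SylData.els
  SylData.rows HexData.wit HexData.reps

/-- The count for a code with its inverse. -/
theorem incid_pair {q : ℕ × ℕ} (hq : pairOk q = true) :
    incid (au q.1) (au q.1) = 11520 * ((List.range 77).filter fun j =>
      Nat.beq (keyOf2 q (Data2.hRep.getD j (0, 0)) Data.uhL)
        (keyOf (Data2.hRep.getD j (0, 0)) Data.uhL)).length := by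
  classical
  haveI := Fintype.ofFinite AutM22
  have hiff : ∀ {j}, j < 77 →
      (au q.1 ∈ Subgroup.normalizer (rmc Data2.hRep Cert2.Uh j : Set AutM22) ↔
        Nat.beq (keyOf2 q (Data2.hRep.getD j (0, 0)) Data.uhL)
          (keyOf (Data2.hRep.getD j (0, 0)) Data.uhL) = true) := fun {j} hj => by
    rw [Nat.beq_eq]
    refine ⟨fun h => key2_eq Cert2.uh_closed hq (hrep_pair hj) (hrep_pair hj) (mc_eq_self h),
      fun h => mem_normalizer_of_mc ?_⟩
    obtain ⟨t, ht, e⟩ := Cert2.hRep_cover (au q.1 * au (Data2.hRep.getD j (0, 0)).1)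
    rw [mc_mul] at e
    have hk := key2_eq Cert2.uh_closed hq (hrep_pair hj) (hrep_pair ht) e
    rw [h] at hk
    exact e.trans (congrArg _ (rep_inj hj ht hk).symm)
  set L := ((List.range 77).filter fun j => Nat.beq (keyOf2 q (Data2.hRep.getD j (0, 0)) Data.uhL)
        (keyOf (Data2.hRep.getD j (0, 0)) Data.uhL)).toFinset with hL
  rw [← List.toFinset_card_of_nodup (List.nodup_range.filter _), ← hL]
  choose J hJ hJe using fun g : AutM22 => Cert2.hRep_cover g⁻¹
  have hmem : ∀ {x g : AutM22}, g * x * g⁻¹ ∈ NU ↔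
      x ∈ Subgroup.normalizer (rmc Data2.hRep Cert2.Uh (J g) : Set AutM22) := fun {x g} => by
    rw [← hJe g]
    refine Iff.symm (mem_normalizer_map.trans ?_)
    rw [inv_inv]
  have hfib : ∀ j ∈ L, (Finset.univ.filter fun g => J g = j).card = 11520 := by
    intro j hj
    rw [hL, List.mem_toFinset, List.mem_filter, List.mem_range] at hj
    rw [← Cert2.card_norm, Nat.card_eq_fintype_card, ← Finset.card_univ]
    refine (Finset.card_bij (fun (n : ↥NU) _ => n.1⁻¹ * (au (Data2.hRep.getD j (0, 0)).1)⁻¹)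
      (fun n _ => ?_) (fun n _ m _ e => Subtype.ext (inv_injective (mul_right_cancel e)))
      (fun g hg => ?_)).symm
    · simp only [Finset.mem_filter, Finset.mem_univ, true_and]
      refine rep_inj (hJ _) hj.1 (key_eq Cert2.uh_closed (hrep_pair (hJ _)) (hrep_pair hj.1) ?_)
      show rmc _ _ (J _) = rmc Data2.hRep Cert2.Uh j
      rw [← hJe, mul_inv_rev, inv_inv, inv_inv, mc_mul, rmc,
        show mc n.1 Cert2.Uh = Cert2.Uh from mc_eq_self n.2]
    · simp only [Finset.mem_filter, Finset.mem_univ, true_and] at hg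
      set r := au (Data2.hRep.getD j (0, 0)).1 with hr
      refine ⟨⟨r⁻¹ * g⁻¹, mem_normalizer_of_mc ?_⟩, Finset.mem_univ _, ?_⟩
      · rw [mc_mul, hJe g, hg, rmc, ← hr, ← mc_mul, inv_mul_cancel, mc_one]
      · show (r⁻¹ * g⁻¹)⁻¹ * r⁻¹ = g
        group
  rw [incid, Nat.card_eq_fintype_card, Fintype.card_subtype, mul_comm,
    ← smul_eq_mul, ← Finset.sum_const, ← Finset.sum_congr rfl hfib,
    ← Finset.card_biUnion fun i _ j _ hij => Finset.disjoint_left.mpr fun g h1 h2 => hij (by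
      simp only [Finset.mem_filter] at h1 h2; exact h1.2.symm.trans h2.2)]
  congr 1
  ext g
  simp only [Finset.mem_filter, Finset.mem_univ, true_and, Finset.mem_biUnion, hL, List.mem_toFinset,
    List.mem_filter, List.mem_range, exists_eq_right']
  rw [and_self, hmem, hiff (hJ g)]
  exact ⟨fun h => ⟨hJ g, h⟩, fun h => h.2⟩

theorem au_eq_aut {c : ℕ} (h : good c = true) : au c = AutSylow.aut c := by
  obtain ⟨hb, e⟩ := au_of h
  rw [e]
  exact (AutSylow.aut_eq hb).symm

theorem val_sq {i : ℕ} (hi : i < 256) :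
    sqI i < 256 ∧ AutSylow.val (sqI i) = AutSylow.val i * AutSylow.val i := by
  rw [sqI]
  exact AutSylow.model.row i hi i hi

theorem val_eq_one {i : ℕ} (hi : i < 256) : AutSylow.val i = 1 ↔ i = 0 := by
  rw [← AutSylow.val_zero]
  exact ⟨AutSylow.model.inj i hi 0 (by norm_num), fun h => h ▸ rfl⟩

/-- A 2-element is a conjugate of a listed one. -/
theorem exists_index {α : AutM22} {k : ℕ} (h : orderOf α = 2 ^ k) :
    ∃ i < 256, ∃ g, α = g * AutSylow.val i * g⁻¹ := by
  have := Fact.mk Nat.prime_two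
  obtain ⟨P, hP⟩ := (IsPGroup.of_card (p := 2) (n := k)
    (show Nat.card ↥(Subgroup.zpowers α) = 2 ^ k by rw [Nat.card_zpowers, h])).exists_le_sylow
  let T : Sylow 2 AutM22 := Sylow.ofCard AutSylow.model.syl (by
    rw [AutSylow.model.card_syl, autFacts.card_aut,
      Nat.factorization_def _ Nat.prime_two, show (887040 : ℕ) = 2 ^ 8 * 3465 by norm_num,
      padicValNat.mul (by norm_num) (by norm_num), padicValNat.prime_pow,
      padicValNat.eq_zero_of_not_dvd (by norm_num), show (256 : ℕ) = 2 ^ 8 by norm_num])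
  obtain ⟨g, hg⟩ := MulAction.exists_smul_eq AutM22 T P
  have hm : α ∈ (g • T : Sylow 2 AutM22) := hg ▸ hP (Subgroup.mem_zpowers α)
  rw [← SetLike.mem_coe, Sylow.coe_smul, Set.mem_smul_set] at hm
  obtain ⟨x, hx, e⟩ := hm
  obtain ⟨i, hi, rfl⟩ := AutSylow.model.mem_syl.mp hx
  exact ⟨i, hi, g, by rw [← e]; rfl⟩

theorem incid_of_index {i : ℕ} (hi : i < 256) (ht : target i = true) :
    ∃ q ∈ HexData.wit, q.1 = i ∧ q.2.1 < 4 ∧ (HexData.reps.getD q.2.1 (0, 0)).1 < 256 ∧
      AutSylow.val (HexData.reps.getD q.2.1 (0, 0)).1 =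
        au q.2.2.1 * AutSylow.val i * (au q.2.2.1)⁻¹ ∧
      incid (AutSylow.val i) (AutSylow.val i) = 11520 * hexP (HexData.reps.getD q.2.1 (0, 0)) := by
  have h := wit_ok
  simp only [witOk, Bool.and_eq_true, List.all_eq_true, List.mem_range, Bool.or_eq_true,
    Bool.not_eq_true', List.any_eq_true, forceNat_eq, Nat.beq_eq, Nat.blt_eq] at h
  obtain ⟨q, hq, hqi⟩ := (h.1 i hi).resolve_left (by simp [ht])
  obtain ⟨⟨⟨-, hk⟩, hw⟩, he⟩ := h.2 q hq
  have hr := reps_ok
  simp only [repsOk, Bool.and_eq_true, List.all_eq_true, List.mem_range, forceNat_eq, Nat.beq_eq,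
    Nat.blt_eq] at hr
  obtain ⟨⟨⟨hr1, -⟩, hrp⟩, -⟩ := hr.2 _ hk
  refine ⟨q, hq, hqi, hk, hr1, ?_⟩
  rw [hqi] at he
  set r := (HexData.reps.getD q.2.1 (0, 0))
  have hwg : good q.2.2.1 = true := by simp only [pairOk, Bool.and_eq_true] at hw; exact hw.1.1
  have hrg : good (code r.1) = true := by simp only [pairOk, Bool.and_eq_true] at hrp; exact hrp.1.1
  obtain ⟨hwb, hwe⟩ := au_of hwg
  obtain ⟨hrb, hre⟩ := au_of hrg
  have hib : AutModel.inBig (SylData.els.getD i 0) = true := (AutSylow.els_spec hi).1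
  have hval : AutSylow.val r.1 = au (code r.1) := by rw [au_eq_aut hrg, code]; rfl
  have hc : au q.2.2.1 * AutSylow.val i = au (code r.1) * au q.2.2.1 := by
    rw [hwe, hre, AutSylow.val, AutSylow.aut_eq hib, ← map_mul, ← map_mul]
    refine congrArg AutModel.toAut (Subtype.ext ?_)
    show gperm q.2.2.1 * gperm (SylData.els.getD i 0) = gperm (code r.1) * gperm q.2.2.1
    have e' : mulP 24 5 q.2.2.1 (SylData.els.getD i 0) = mulP 24 5 (code r.1) q.2.2.1 := by
      rw [← he, code]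
    rw [← gperm_mul (AutModel.inBig_spec hwb).1 (AutModel.inBig_spec hib).1,
      ← gperm_mul (AutModel.inBig_spec hrb).1 (AutModel.inBig_spec hwb).1, e']
  refine ⟨by rw [hc, mul_inv_cancel_right, hval], ?_⟩
  rw [← incid_conj (au q.2.2.1), hc, mul_inv_cancel_right, incid_pair (q := (code r.1, code r.2)) hrp,
    hexP]
  simp only [forceNat_eq]

theorem orderOf_index {i : ℕ} (hi : i < 256) :
    (orderOf (AutSylow.val i) = 4 ↔ sqI i ≠ 0 ∧ sqI (sqI i) = 0) ∧
      (orderOf (AutSylow.val i) = 8 ↔ sqI (sqI i) ≠ 0) := by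
  obtain ⟨h1, e1⟩ := val_sq hi
  obtain ⟨h2, e2⟩ := val_sq h1
  obtain ⟨h3, e3⟩ := val_sq h2
  have h := orders_ok
  simp only [ordersOk, List.all_eq_true, List.mem_range, Nat.beq_eq] at h
  set x := AutSylow.val i
  have p2 : AutSylow.val (sqI i) = x ^ 2 := by rw [e1, pow_two]
  have p4 : AutSylow.val (sqI (sqI i)) = x ^ 4 := by rw [e2, p2, ← pow_add]
  have p8 : x ^ 2 ^ 3 = 1 := by
    have e : AutSylow.val (sqI (sqI (sqI i))) = x ^ 2 ^ 3 := by rw [e3, p4, ← pow_add]; norm_num
    rw [← e, h i hi, AutSylow.val_zero]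
  have q2 : sqI i = 0 ↔ x ^ 2 = 1 := by rw [← p2]; exact (val_eq_one h1).symm
  have q4 : sqI (sqI i) = 0 ↔ x ^ 4 = 1 := by rw [← p4]; exact (val_eq_one h2).symm
  rw [Ne, Ne, q2, q4]
  have key : ∀ {n : ℕ}, orderOf x = n → ∀ m, x ^ m = 1 ↔ n ∣ m := fun {n} h m =>
    h ▸ orderOf_dvd_iff_pow_eq_one.symm
  obtain ⟨j, hj, hjo⟩ := (Nat.dvd_prime_pow Nat.prime_two).mp (orderOf_dvd_of_pow_eq_one p8)
  rw [key hjo 2, key hjo 4, hjo]
  interval_cases j <;> norm_num

theorem orderOf_conj_aut (g x : AutM22) : orderOf (g * x * g⁻¹) = orderOf x :=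
  orderOf_injective (MulAut.conj g).toMonoidHom (MulAut.conj g).injective _

/-- The conjugates normalised by an inner element of order four. -/
theorem incid_four {α : AutM22} (hi : α ∈ inn) (ho : orderOf α = 4) :
    incid α α = 11520 * 1 ∨ incid α α = 11520 * 5 := by
  obtain ⟨i, hlt, g, rfl⟩ := exists_index (k := 2) ho
  rw [orderOf_conj_aut] at ho
  rw [mem_inn_conj, AutSylow.val, AutSylow.aut_mem_inn (AutSylow.els_spec hlt).1] at hi
  obtain ⟨h2, h4⟩ := (orderOf_index hlt).1.mp ho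
  obtain ⟨q, hq, hqi, hk, hr1, hconj, e⟩ := incid_of_index hlt (by
    simp only [target, forceNat_eq, code, Bool.and_eq_true, Bool.or_eq_true, Bool.not_eq_true',
      ← Bool.not_eq_true, Nat.beq_eq]
    exact ⟨h2, Or.inr hi⟩)
  have ho' : orderOf (AutSylow.val (HexData.reps.getD q.2.1 (0, 0)).1) = 4 := by
    rw [hconj, orderOf_conj_aut, ho]
  have h4' := ((orderOf_index hr1).1.mp ho').2
  have hr := reps_ok
  simp only [repsOk, Bool.and_eq_true, List.all_eq_true, List.mem_range, forceNat_eq,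
    Nat.blt_eq] at hr
  have hf := (hr.2 _ hk).2
  rw [h4', show Nat.beq 0 0 = true from rfl] at hf
  simp only [cond_true, Bool.or_eq_true, Nat.beq_eq] at hf
  rw [incid_conj, e]
  rcases hf with h | h
  · exact Or.inl (by rw [h])
  · exact Or.inr (by rw [h])

/-- The conjugates normalised by an element of order eight, and by its square. -/
theorem incid_eight {β : AutM22} (ho : orderOf β = 8) :
    incid β β = 11520 * 1 ∧ incid (β * β) (β * β) = 11520 * 5 := by
  obtain ⟨i, hlt, g, rfl⟩ := exists_index (k := 3) ho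
  rw [orderOf_conj_aut] at ho
  have h8 := (orderOf_index hlt).2.mp ho
  obtain ⟨hs, hse⟩ := val_sq hlt
  have h2 : sqI i ≠ 0 := fun h => by
    rw [h, AutSylow.val_zero, ← pow_two] at hse
    have := orderOf_dvd_of_pow_eq_one hse.symm
    rw [ho] at this
    norm_num at this
  obtain ⟨q, hq, hqi, hk, hr1, hconj, e⟩ := incid_of_index hlt (by
    simp only [target, forceNat_eq, Bool.and_eq_true, Bool.or_eq_true, Bool.not_eq_true',
      ← Bool.not_eq_true, Nat.beq_eq]
    exact ⟨h2, Or.inl h8⟩)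
  set r := (HexData.reps.getD q.2.1 (0, 0)).1
  have ho' : orderOf (AutSylow.val r) = 8 := by rw [hconj, orderOf_conj_aut, ho]
  have h8' := (orderOf_index hr1).2.mp ho'
  have hr := reps_ok
  simp only [repsOk, Bool.and_eq_true, List.all_eq_true, List.mem_range, forceNat_eq,
    Nat.blt_eq] at hr
  have hf := (hr.2 _ hk).2
  rw [show Nat.beq (sqI (sqI r)) 0 = false from Bool.eq_false_iff.mpr fun h => h8' (Nat.beq_eq.mp h)] at hf
  simp only [cond_false, Bool.and_eq_true, List.any_eq_true, Nat.beq_eq] at hf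
  obtain ⟨hf1, q', hq', hq'i, hf5⟩ := hf
  obtain ⟨hrs, hrse⟩ := val_sq hr1
  have hsq4 : orderOf (AutSylow.val r * AutSylow.val r) = 4 := by
    rw [← pow_two, orderOf_pow' _ (by norm_num), ho']; norm_num
  obtain ⟨-, h4b⟩ := (orderOf_index hrs).1.mp (by rw [hrse]; exact hsq4)
  have hw := wit_ok
  simp only [witOk, Bool.and_eq_true, List.all_eq_true, forceNat_eq, Nat.beq_eq, Nat.blt_eq] at hw
  obtain ⟨⟨⟨-, hk'⟩, hw'⟩, he'⟩ := hw.2 q' hq'
  obtain ⟨⟨⟨hr1', -⟩, hrp'⟩, -⟩ := hr.2 _ hk'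
  refine ⟨by rw [incid_conj, e, hf1], ?_⟩
  rw [conj_mul_conj, incid_conj]
  set r' := (HexData.reps.getD q'.2.1 (0, 0))
  rw [hq'i] at he'
  have hwg : good q'.2.2.1 = true := by simp only [pairOk, Bool.and_eq_true] at hw'; exact hw'.1.1
  have hrg : good (code r'.1) = true := by simp only [pairOk, Bool.and_eq_true] at hrp'; exact hrp'.1.1
  obtain ⟨hwb, hwe⟩ := au_of hwg
  obtain ⟨hrb, hre⟩ := au_of hrg
  have hib : AutModel.inBig (SylData.els.getD (sqI r) 0) = true := (AutSylow.els_spec hrs).1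
  have hc : au q'.2.2.1 * AutSylow.val (sqI r) = au (code r'.1) * au q'.2.2.1 := by
    rw [hwe, hre, AutSylow.val, AutSylow.aut_eq hib, ← map_mul, ← map_mul]
    refine congrArg AutModel.toAut (Subtype.ext ?_)
    show gperm q'.2.2.1 * gperm (SylData.els.getD (sqI r) 0) = gperm (code r'.1) * gperm q'.2.2.1
    have e' : mulP 24 5 q'.2.2.1 (SylData.els.getD (sqI r) 0) = mulP 24 5 (code r'.1) q'.2.2.1 := by
      rw [← he', code]
    rw [← gperm_mul (AutModel.inBig_spec hwb).1 (AutModel.inBig_spec hib).1,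
      ← gperm_mul (AutModel.inBig_spec hrb).1 (AutModel.inBig_spec hwb).1, e']
  rw [← incid_conj (au q.2.2.1), ← conj_mul_conj, ← hconj, ← hrse,
    ← incid_conj (au q'.2.2.1), hc, mul_inv_cancel_right,
    incid_pair (q := (code r'.1, code r'.2)) hrp']
  rw [hexP] at hf5
  simp only [forceNat_eq] at hf5
  rw [hf5]

end Cfsg.Agent.Lib.J4Classes92
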