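import Cfsg.Agent.Lib.J4Classes92.Count
import Cfsg.Agent.Lib.J4Classes92.ExtData

/-!
# An extension of a natural module of order eight by its full automorphism group has 11 classes
-/

set_option autoImplicit false

namespace Cfsg.Agent.Lib.J4Classes92

open ExtData Matrix

/-- An extension of the natural module by `GL(3,2)`, in coordinates. -/
structure Ext (J : Type*) [Group J] where
  ι : V3 → J
  map_add : ∀ v w, ι (v + w) = ι v * ι w
  inj : Function.Injective ι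
  ρ : J →* M3
  act : ∀ h v, h * ι v * h⁻¹ = ι (ρ h *ᵥ v)
  ker : ∀ h, ρ h = 1 ↔ ∃ v, h = ι v
  surj : ∀ M, IsInv M → ∃ h, ρ h = M

namespace Ext

variable {J : Type*} [Group J] (E : Ext J)

theorem map_zero : E.ι 0 = 1 := by
  have h := E.map_add 0 0
  rwa [add_zero, left_eq_mul] at h

theorem mul_self (v : V3) : E.ι v * E.ι v = 1 := by
  rw [← E.map_add, CharTwo.add_self_eq_zero, E.map_zero]

theorem inv_eq (v : V3) : (E.ι v)⁻¹ = E.ι v := inv_eq_of_mul_eq_one_right (E.mul_self v)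

theorem rho_iota (v : V3) : E.ρ (E.ι v) = 1 := (E.ker _).mpr ⟨v, rfl⟩

theorem rho_inv (h : J) : E.ρ h * E.ρ h⁻¹ = 1 ∧ E.ρ h⁻¹ * E.ρ h = 1 := by
  simp [← map_mul]

/-- Pushing a module element to the left. -/
theorem push (h : J) (v : V3) : h * E.ι v = E.ι (E.ρ h *ᵥ v) * h := by
  rw [← E.act, inv_mul_cancel_right]

/-- Pushing a module element to the right. -/
theorem pull (h : J) (v : V3) : E.ι (E.ρ h *ᵥ v) * h = h * E.ι v := (E.push h v).symm

theorem exists_coord {g u : J} (h : E.ρ g = E.ρ u) : ∃ v, g = u * E.ι v := by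
  obtain ⟨v, hv⟩ := (E.ker (u⁻¹ * g)).mp (by rw [map_mul, h, (E.rho_inv u).2])
  exact ⟨v, by rw [← hv, mul_inv_cancel_left]⟩

theorem rho_conj (a g : J) : E.ρ (a * g * a⁻¹) = E.ρ a * E.ρ g * E.ρ a⁻¹ := by
  rw [map_mul, map_mul]

theorem comm_of_conj {a g h : J} (hc : a * g * a⁻¹ = h) (e : E.ρ g = E.ρ h) :
    E.ρ a * E.ρ g = E.ρ g * E.ρ a := by
  conv_rhs => rw [e, ← hc, ← map_mul, inv_mul_cancel_right]
  rw [map_mul]

theorem inv_rho (h : J) : IsInv (E.ρ h) := by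
  show det3 _ = 1
  rw [det3_eq]
  have h1 : (E.ρ h).det * (E.ρ h⁻¹).det = 1 := by rw [← det_mul, (E.rho_inv h).1, det_one]
  exact (show ∀ a b : ZMod 2, a * b = 1 → a = 1 by decide) _ _ h1

theorem cls_rho_conj (a g : J) : cls (E.ρ (a * g * a⁻¹)) = cls (E.ρ g) := by
  rw [E.rho_conj]
  exact cls_conj (E.rho_inv a).1 (E.rho_inv a).2

/-- Counting the classes above one class by an invariant on a coset. -/
theorem count_of_inv (i : Fin 6) {u : J} (hu : E.ρ u = R i) (N : ℕ) (F : V3 → ℕ)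
    (hlt : ∀ v, F v < N) (hsurj : ∀ m : Fin N, ∃ v, F v = m)
    (hinv : ∀ a v v', a * (u * E.ι v) * a⁻¹ = u * E.ι v' → F v = F v')
    (hsep : ∀ v v', F v = F v' → IsConj (u * E.ι v) (u * E.ι v')) :
    classCount J (fun g => cls (E.ρ g) = i) = N := by
  have hcls : ∀ v, cls (E.ρ (u * E.ι v)) = i := fun v => by
    rw [map_mul, E.rho_iota, mul_one, hu]; exact (R_spec i).2
  let up : Fin N → {C : ConjClasses J // ∃ g, ConjClasses.mk g = C ∧ cls (E.ρ g) = i} := fun m =>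
    ⟨ConjClasses.mk (u * E.ι (hsurj m).choose), _, rfl, hcls _⟩
  rw [classCount, ← Nat.card_eq_of_bijective up ⟨?_, ?_⟩, Nat.card_fin]
  · intro m m' h
    obtain ⟨a, ha⟩ := isConj_iff.mp (ConjClasses.mk_eq_mk_iff_isConj.mp (congrArg Subtype.val h))
    have h1 := hinv a _ _ ha
    rw [(hsurj m).choose_spec, (hsurj m').choose_spec] at h1
    exact Fin.ext h1
  · rintro ⟨C, g, rfl, hg⟩
    obtain ⟨N', hN', hN⟩ := exists_conj _ (E.inv_rho g)
    obtain ⟨a, ha⟩ := E.surj _ hN'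
    obtain ⟨v, hv⟩ := E.exists_coord (g := a * g * a⁻¹) (u := u) (by
      rw [E.rho_conj, ha, hN, hg, hu, mul_assoc, ← ha, (E.rho_inv a).1, mul_one])
    refine ⟨⟨F v, hlt v⟩, Subtype.ext (ConjClasses.mk_eq_mk_iff_isConj.mpr ?_)⟩
    exact (hsep _ v (hsurj ⟨F v, hlt v⟩).choose_spec).trans (isConj_iff.mpr ⟨a, hv⟩).symm

/-- Conjugating a coset element by the module. -/
theorem conj_iota (u : J) (v w : V3) :
    E.ι (E.ρ u *ᵥ w) * (u * E.ι v) * (E.ι (E.ρ u *ᵥ w))⁻¹ =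
      u * E.ι (v + (w + E.ρ u *ᵥ w)) := by
  rw [← mul_assoc, E.pull, E.inv_eq, E.map_add, E.map_add]
  have hc : ∀ a b, E.ι a * E.ι b = E.ι b * E.ι a := fun a b => by
    rw [← E.map_add, ← E.map_add, add_comm]
  rw [mul_assoc u, mul_assoc u, hc w, mul_assoc (E.ι v)]

theorem count_cyclic (c : Fin 6) (hc : 2 ≤ c) {u : J} (hu : E.ρ u = R c) :
    classCount J (fun g => cls (E.ρ g) = c) = num c := by
  refine E.count_of_inv c hu (num c) (psi c) (fun v => (psi_spec c hc v 0).2.2)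
    (psi_surj c hc) (fun a v v' h => ?_) fun v v' h => ?_
  · have hcomm := E.comm_of_conj h (by simp [E.rho_iota])
    rw [map_mul, E.rho_iota, mul_one, hu] at hcomm
    obtain ⟨k, hk⟩ : ∃ k : Fin 7, E.ρ a = R c ^ (k : ℕ) :=
      forall_of_mat (P := fun M => IsInv M → M * R c = R c * M → ∃ k : Fin 7, M = R c ^ (k : ℕ))
        (cent_cyclic c hc) _ (E.inv_rho a) hcomm
    obtain ⟨w, rfl⟩ := E.exists_coord (g := a) (u := u ^ (k : ℕ)) (by rw [map_pow, hu, hk])
    obtain ⟨w', rfl⟩ : ∃ w', w = E.ρ u *ᵥ w' :=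
      ⟨E.ρ u⁻¹ *ᵥ w, by rw [mulVec_mulVec, (E.rho_inv u).1, one_mulVec]⟩
    have key : ∀ (n : ℕ) (x : V3),
        u ^ n * (u * E.ι x) * (u ^ n)⁻¹ = u * E.ι (R c ^ n *ᵥ x) := fun n x => by
      have e := E.act (u ^ n) x
      rw [map_pow, hu] at e
      rw [← e, ← mul_assoc, ← pow_succ, pow_succ', mul_assoc u, mul_assoc u]
    have hconj : u * E.ι (R c ^ (k : ℕ) *ᵥ (v + (w' + R c *ᵥ w'))) = u * E.ι v' := by
      rw [← key, ← h, ← hu, ← E.conj_iota]
      group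
    have hψ : ∀ (n : ℕ) (x : V3), psi c (R c ^ n *ᵥ x) = psi c x := by
      intro n
      induction n with
      | zero => simp
      | succ m ih =>
        intro x
        rw [pow_succ', ← mulVec_mulVec, (psi_spec c hc _ 0).2.1, ih]
    rw [← E.inj (mul_left_cancel hconj), hψ, (psi_spec c hc v w').1]
  · obtain ⟨w, rfl⟩ := psi_sep c hc v v' h
    exact isConj_iff.mpr ⟨_, by rw [E.conj_iota, hu]⟩

theorem count_one : classCount J (fun g => cls (E.ρ g) = 0) = 2 := by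
  have hu : E.ρ (1 : J) = R 0 := by
    rw [map_one]; decide +kernel
  refine E.count_of_inv 0 hu 2 (fun v => if v = 0 then 0 else 1) (fun v => ?_) (fun m => ?_)
    (fun a v v' h => ?_) fun v v' h => ?_
  · show (if v = 0 then 0 else 1) < 2; split <;> omega
  · fin_cases m
    · exact ⟨0, by simp⟩
    · exact ⟨![1, 0, 0], by simp⟩
  · rw [one_mul, one_mul, E.act] at h
    have hv := E.inj h
    have : v = 0 ↔ v' = 0 := by
      refine ⟨fun e => by rw [← hv, e, mulVec_zero], fun e => ?_⟩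
      have h2 := congrArg (E.ρ a⁻¹ *ᵥ ·) hv
      rwa [mulVec_mulVec, (E.rho_inv a).2, one_mulVec, e, mulVec_zero] at h2
    simp only [this]
  · have hto : ∀ x : V3, x ≠ 0 → IsConj (1 * E.ι x) (E.ι ![1, 0, 0]) := fun x hx => by
      obtain ⟨n, hn, hnx⟩ := transitive x hx
      obtain ⟨a, ha⟩ := E.surj _ hn
      exact isConj_iff.mpr ⟨a, by rw [one_mul, E.act, ha, hnx]⟩
    by_cases h1 : v = 0 <;> by_cases h2 : v' = 0
    · rw [h1, h2]
    · simp [h1, h2] at h
    · simp [h1, h2] at h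
    · exact (hto v h1).trans (hto v' h2).symm

/-- The invariant above the involution. -/
def invF (b : ZMod 2) (v : V3) : ℕ :=
  if v 2 = 0 then (if b = 0 then (v 1).val else 0) else (if b = 0 then 2 else 1 + (v 1).val)

theorem invF_spec : ∀ n : Fin 512, IsInv (mat n) → mat n * R 1 = R 1 * mat n → ∀ v t : V3,
    ∀ b : ZMod 2, t 2 = 0 → t 1 = mat n 1 2 * b → invF b (t + mat n *ᵥ v) = invF b v := by
  decide +kernel

set_option synthInstance.maxHeartbeats 200000 in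
set_option synthInstance.maxSize 2000 in
theorem invF_sep : ∀ (b : ZMod 2) (v v' t : V3), t 2 = 0 → t 1 = b → invF b v = invF b v' →
    (∃ w : V3, v' = v + (w + R 1 *ᵥ w)) ∨
      ∃ w : V3, v' = t + Z *ᵥ v + (w + R 1 *ᵥ w) := by decide +kernel

theorem invF_range : ∀ b : ZMod 2, (∀ v : V3, invF b v < 3) ∧
    ∀ m : Fin 3, ∃ v : V3, invF b v = m := by decide +kernel

theorem flat_calc : ∀ t a b : V3,
    X *ᵥ t + X *ᵥ b + a = R 1 *ᵥ (X *ᵥ (a + T *ᵥ t)) + b → t 1 = 0 ∧ t 2 = 0 := by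
  decide +kernel

theorem shape_two : ∀ n : Fin 512, IsInv (mat n) → mat n * R 1 = R 1 * mat n →
    mat n 1 0 = 0 ∧ mat n 1 1 = 1 ∧ mat n 2 0 = 0 ∧ mat n 2 1 = 0 ∧ mat n 2 2 = 1 := by
  decide +kernel

theorem mat_facts : T * R 1 = X * T ∧ T * X = X * R 1 * T ∧ X * X = 1 ∧ R 1 * R 1 = 1 ∧
    Z * Z = 1 ∧ X * R 1 = R 1 * X ∧ Z * R 1 = R 1 * Z ∧ X 1 2 = 0 ∧ Z 1 2 = 1 ∧ R 1 1 2 = 0 := by
  decide +kernel

theorem Z_calc : ∀ t w : V3, t + Z *ᵥ t = w + R 1 *ᵥ w → t 2 = 0 := by decide +kernel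

theorem iota_calc : ∀ w : V3, (w + R 1 *ᵥ w) 1 = 0 ∧ (w + R 1 *ᵥ w) 2 = 0 := by decide +kernel

/-- Elements of the involution centraliser acting on the coset as the parameter predicts. -/
def Good (u : J) (b : ZMod 2) (a : J) : Prop :=
  E.ρ a * R 1 = R 1 * E.ρ a ∧
    ∃ t, a * u * a⁻¹ = u * E.ι t ∧ t 2 = 0 ∧ t 1 = E.ρ a 1 2 * b

theorem good_mul {u : J} {b : ZMod 2} {a a' : J} (h : E.Good u b a) (h' : E.Good u b a') :
    E.Good u b (a * a') := by
  obtain ⟨hc, t, ht, ht2, ht1⟩ := h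
  obtain ⟨hc', t', ht', ht2', ht1'⟩ := h'
  refine ⟨by rw [map_mul, mul_assoc, hc', ← mul_assoc, hc, mul_assoc], t + E.ρ a *ᵥ t', ?_, ?_, ?_⟩
  · calc a * a' * u * (a * a')⁻¹ = a * (a' * u * a'⁻¹) * a⁻¹ := by group
      _ = (a * u * a⁻¹) * (a * E.ι t' * a⁻¹) := by rw [ht']; group
      _ = _ := by rw [ht, E.act, mul_assoc, ← E.map_add]
  all_goals
    obtain ⟨s10, s11, s20, s21, s22⟩ :=
      forall_of_mat (P := fun M => IsInv M → M * R 1 = R 1 * M →
        M 1 0 = 0 ∧ M 1 1 = 1 ∧ M 2 0 = 0 ∧ M 2 1 = 0 ∧ M 2 2 = 1) shape_two _ (E.inv_rho a) hc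
    obtain ⟨r10, r11, r20, r21, r22⟩ :=
      forall_of_mat (P := fun M => IsInv M → M * R 1 = R 1 * M →
        M 1 0 = 0 ∧ M 1 1 = 1 ∧ M 2 0 = 0 ∧ M 2 1 = 0 ∧ M 2 2 = 1) shape_two _ (E.inv_rho a') hc'
  · simp [mulVec, dotProduct, Fin.sum_univ_three, s20, s21, s22, ht2, ht2']
  · simp [mulVec, dotProduct, Fin.sum_univ_three, Matrix.mul_apply, s10, s11, r22, ht2', ht1,
      ht1']
    ring

theorem count_two : classCount J (fun g => cls (E.ρ g) = 1) = 3 := by
  obtain ⟨eTR, eTX, eXX, eRR, eZZ, eXR, eZR, eX, eZ, eR⟩ := mat_facts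
  obtain ⟨u, hu⟩ := E.surj _ (R_spec 1).1
  obtain ⟨x, hx⟩ := E.surj _ gens_inv.1
  obtain ⟨g, hg⟩ := E.surj _ gens_inv.2.1
  obtain ⟨r, hr⟩ := E.surj _ gens_inv.2.2
  have coord : ∀ a, E.ρ a * R 1 = R 1 * E.ρ a → ∃ t, a * u * a⁻¹ = u * E.ι t := fun a ha =>
    E.exists_coord (by
      rw [E.rho_conj, hu, ha, mul_assoc, (E.rho_inv a).1, mul_one])
  have hxinv : ∀ v, E.ι v * x = x * E.ι (X *ᵥ v) := fun v => by
    rw [E.push, hx, mulVec_mulVec, eXX, one_mulVec]
  have huinv : ∀ v, E.ι v * u = u * E.ι (R 1 *ᵥ v) := fun v => by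
    rw [E.push, hu, mulVec_mulVec, eRR, one_mulVec]
  have giota : ∀ w, E.ι w * u * (E.ι w)⁻¹ = u * E.ι (w + R 1 *ᵥ w) := fun w => by
    rw [huinv, E.inv_eq, mul_assoc, ← E.map_add, add_comm]
  -- the preimage of the translations is flat
  obtain ⟨tx, htx⟩ := coord x (by rw [hx, eXR])
  obtain ⟨htx1, htx2⟩ : tx 1 = 0 ∧ tx 2 = 0 := by
    have conjT : ∀ (h : J) {M : M3}, T * E.ρ h = M * T → E.ρ (r * h * r⁻¹) = M := fun h M e => by
      rw [E.rho_conj, hr, e, mul_assoc, ← hr, (E.rho_inv r).1, mul_one]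
    obtain ⟨a, ha⟩ := E.exists_coord (g := r * u * r⁻¹) (u := x)
      (by rw [conjT u (M := X) (by rw [hu, eTR]), hx])
    obtain ⟨b, hb⟩ := E.exists_coord (g := r * x * r⁻¹) (u := x * u)
      (by rw [conjT x (M := X * R 1) (by rw [hx, eTX]), map_mul, hx, hu])
    have h1 : r * (x * u) * r⁻¹ = r * (u * E.ι tx * x) * r⁻¹ := by
      rw [← htx, inv_mul_cancel_right]
    have h2 : x * u * E.ι b * (x * E.ι a) = x * E.ι a * E.ι (T *ᵥ tx) * (x * u * E.ι b) := by
      calc x * u * E.ι b * (x * E.ι a) = r * (x * u) * r⁻¹ := by rw [← hb, ← ha]; group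
        _ = r * u * r⁻¹ * (r * E.ι tx * r⁻¹) * (r * x * r⁻¹) := by rw [h1]; group
        _ = _ := by rw [ha, hb, E.act, hr]
    have h3 : u * x = x * u * E.ι (X *ᵥ tx) := by
      have e : x * u = u * E.ι tx * x := by rw [← htx, inv_mul_cancel_right]
      rw [e, mul_assoc u (E.ι tx), hxinv, mul_assoc, mul_assoc, E.mul_self, mul_one]
    refine flat_calc tx a b (E.inj (mul_left_cancel (a := x * x * u) ?_))
    calc x * x * u * E.ι (X *ᵥ tx + X *ᵥ b + a)
        = x * (x * u * E.ι (X *ᵥ tx)) * E.ι (X *ᵥ b) * E.ι a := by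
          rw [E.map_add, E.map_add]; simp only [mul_assoc]
      _ = x * u * E.ι b * (x * E.ι a) := by
          rw [← h3]
          simp only [mul_assoc]
          rw [← mul_assoc (E.ι b) x, hxinv, mul_assoc]
      _ = _ := by
          rw [h2, mul_assoc x (E.ι a), ← E.map_add, E.map_add _ b]
          simp only [mul_assoc]
          rw [← mul_assoc (E.ι _) x, hxinv, mul_assoc, ← mul_assoc (E.ι _) u, huinv, mul_assoc]
  obtain ⟨tg, htg⟩ := coord g (by rw [hg, eZR])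
  have htg2 : tg 2 = 0 := by
    obtain ⟨w, hw⟩ := (E.ker (g * g)).mp (by rw [map_mul, hg, eZZ])
    refine Z_calc tg w (E.inj (mul_left_cancel (a := u) ?_))
    calc u * E.ι (tg + Z *ᵥ tg) = (g * u * g⁻¹) * (g * E.ι tg * g⁻¹) := by
          rw [htg, E.act, hg, mul_assoc, ← E.map_add]
      _ = g * (u * E.ι tg) * g⁻¹ := by group
      _ = g * g * u * (g * g)⁻¹ := by rw [← htg]; group
      _ = _ := by rw [hw, giota]
  set b := tg 1 with hb
  have good_g : E.Good u b g := ⟨by rw [hg, eZR], tg, htg, htg2, by rw [hg, eZ, one_mul]⟩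
  have good_x : E.Good u b x := ⟨by rw [hx, eXR], tx, htx, htx2, by rw [hx, eX, zero_mul, htx1]⟩
  have good_u : E.Good u b u := ⟨by rw [hu], 0, by rw [mul_inv_cancel_right, E.map_zero, mul_one],
    rfl, by rw [hu, eR, zero_mul]; rfl⟩
  have good_iota : ∀ w, E.Good u b (E.ι w) := fun w => ⟨by rw [E.rho_iota, one_mul, mul_one],
    w + R 1 *ᵥ w, giota w, (iota_calc w).2, by
      rw [E.rho_iota, (iota_calc w).1]; simp⟩
  have good_one : E.Good u b 1 := by simpa [E.map_zero] using good_iota 0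
  have good_pow : ∀ {a : J}, E.Good u b a → ∀ n : ℕ, E.Good u b (a ^ n) := fun {a} ha n => by
    induction n with
    | zero => simpa using good_one
    | succ m ih => rw [pow_succ]; exact E.good_mul ih ha
  have good_all : ∀ a, E.ρ a * R 1 = R 1 * E.ρ a → E.Good u b a := fun a ha => by
    obtain ⟨i, j, k, hijk⟩ := forall_of_mat (P := fun M => IsInv M → M * R 1 = R 1 * M →
      ∃ i j k : Fin 2, M = Z ^ (i : ℕ) * X ^ (j : ℕ) * R 1 ^ (k : ℕ)) cent_two _ (E.inv_rho a) ha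
    obtain ⟨w, rfl⟩ := E.exists_coord (g := a)
      (u := g ^ (i : ℕ) * x ^ (j : ℕ) * u ^ (k : ℕ)) (by simp [hg, hx, hu, hijk])
    exact E.good_mul (E.good_mul (E.good_mul (good_pow good_g _) (good_pow good_x _))
      (good_pow good_u _)) (good_iota w)
  refine E.count_of_inv 1 hu 3 (invF b) (invF_range b).1 (invF_range b).2 (fun a v v' h => ?_)
    fun v v' h => ?_
  · have hcomm := E.comm_of_conj h (by simp [E.rho_iota])
    rw [map_mul, E.rho_iota, mul_one, hu] at hcomm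
    obtain ⟨-, t, ht, ht2, ht1⟩ := good_all a hcomm
    have hv : u * E.ι (t + E.ρ a *ᵥ v) = u * E.ι v' := by
      rw [← h, E.map_add, ← mul_assoc, ← ht, ← E.act]; group
    rw [← E.inj (mul_left_cancel hv)]
    exact (forall_of_mat (P := fun M => IsInv M → M * R 1 = R 1 * M → ∀ v t : V3,
      ∀ b : ZMod 2, t 2 = 0 → t 1 = M 1 2 * b → invF b (t + M *ᵥ v) = invF b v)
      invF_spec _ (E.inv_rho a) hcomm v t b ht2 ht1).symm
  · rcases invF_sep b v v' tg htg2 rfl h with ⟨w, rfl⟩ | ⟨w, rfl⟩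
    · exact isConj_iff.mpr ⟨_, by rw [E.conj_iota, hu]⟩
    · refine IsConj.trans (b := u * E.ι (tg + Z *ᵥ v)) (isConj_iff.mpr ⟨g, ?_⟩)
        (isConj_iff.mpr ⟨_, by rw [E.conj_iota, hu]⟩)
      rw [E.map_add, ← mul_assoc u, ← htg, ← hg, ← E.act]; group

/-- The class number. -/
theorem card_conjClasses [Finite J] (E : Ext J) : Nat.card (ConjClasses J) = 11 := by
  classical
  let c : ConjClasses J → Fin 6 := Quotient.lift (fun g => cls (E.ρ g))
    fun g h (hgh : IsConj g h) => by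
      obtain ⟨a, rfl⟩ := isConj_iff.mp hgh
      exact (E.cls_rho_conj a g).symm
  have hfib : ∀ i, Nat.card {C // c C = i} = classCount J (fun g => cls (E.ρ g) = i) := fun i =>
    Nat.card_congr (Equiv.subtypeEquivRight fun C => by
      constructor
      · intro h
        obtain ⟨g, rfl⟩ := ConjClasses.mk_surjective C
        exact ⟨g, rfl, h⟩
      · rintro ⟨g, rfl, h⟩
        exact h)
  have hnum : ∀ i : Fin 6, classCount J (fun g => cls (E.ρ g) = i) = num i := by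
    intro i
    by_cases hi : 2 ≤ i
    · obtain ⟨u, hu⟩ := E.surj _ (R_spec i).1
      exact E.count_cyclic i hi hu
    · rcases (show i = 0 ∨ i = 1 by revert hi; revert i; decide) with rfl | rfl
      · exact E.count_one
      · exact E.count_two
  rw [← Nat.card_congr (Equiv.sigmaFiberEquiv c), Nat.card_sigma]
  simp only [hfib, hnum]
  rfl

end Ext

end Cfsg.Agent.Lib.J4Classes92
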