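import Cfsg.Agent.Lib.J4Classes92.JClasses
import Cfsg.Agent.Lib.J4Five.Main

/-!
# The classes of elements of order divisible by five and not by seven
-/

set_option autoImplicit false
set_option linter.unusedSectionVars false

namespace Cfsg.Agent.Lib.J4Classes92

open ExtData Matrix
open Cfsg.Agent.Lib.J4Local
open Cfsg.Agent.Lib.LargeExtraspecial.Basic

variable {H : Type*} [Group H]

theorem card_inv_mat : Nat.card {M : M3 // IsInv M} = 168 := by
  let j : {n : Fin 512 // IsInv (mat n)} → {M : M3 // IsInv M} := fun n => ⟨mat n.1, n.2⟩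
  have hj : Function.Bijective j := by
    refine ⟨fun a b h => ?_, fun M => ?_⟩
    · have h' : mat a.1 = mat b.1 := congrArg Subtype.val h
      exact Subtype.ext (Fin.ext (by rw [← code_mat a.1, ← code_mat b.1, h']))
    · obtain ⟨n, hn⟩ := mat_surjective M.1
      have hn' : mat n = M.1 := hn
      exact ⟨⟨n, hn'.symm ▸ M.2⟩, Subtype.ext hn'⟩
  exact (Nat.card_eq_of_bijective j hj).symm.trans (Nat.card_eq_fintype_card.trans card_inv)

/-- Coordinates from a normal copy of the module which is self-centralising. -/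
theorem Ext.exists_of_module [Finite H] (ι : V3 → H) (hadd : ∀ v w, ι (v + w) = ι v * ι w)
    (hinj : Function.Injective ι) (hnorm : ∀ h v, ∃ w, h * ι v * h⁻¹ = ι w)
    (hcent : ∀ h, (∀ v, Commute h (ι v)) → ∃ v, h = ι v) (hcard : Nat.card H = 1344) :
    Nonempty (Ext H) := by
  classical
  choose f hf using hnorm
  have fadd : ∀ h v w, f h (v + w) = f h v + f h w := fun h v w => hinj (by
    rw [← hf, hadd, hadd, ← hf, ← hf]; group)
  let L : H → (V3 →ₗ[ZMod 2] V3) := fun h => (AddMonoidHom.mk' (f h) (fadd h)).toZModLinearMap 2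
  let m : H → M3 := fun h => LinearMap.toMatrix' (L h)
  have hm : ∀ h v, m h *ᵥ v = f h v := fun h v => LinearMap.toMatrix'_mulVec (L h) v
  have ext' : ∀ A B : M3, (∀ v, A *ᵥ v = B *ᵥ v) → A = B := fun A B h =>
    Matrix.ext_of_mulVec_single fun j => h _
  let ρ : H →* M3 :=
    { toFun := m
      map_one' := ext' _ _ fun v => by
        rw [hm, one_mulVec]; exact hinj (by rw [← hf]; group)
      map_mul' := fun a b => ext' _ _ fun v => by
        rw [hm, ← mulVec_mulVec, hm, hm]; exact hinj (by rw [← hf, ← hf, ← hf]; group) }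
  have act : ∀ h v, h * ι v * h⁻¹ = ι (ρ h *ᵥ v) := fun h v => by
    show _ = ι (m h *ᵥ v)
    rw [hm, hf]
  have hcomm : ∀ v w, Commute (ι v) (ι w) := fun v w => by
    show ι v * ι w = ι w * ι v
    rw [← hadd, ← hadd, add_comm]
  have ker : ∀ h, ρ h = 1 ↔ ∃ v, h = ι v := fun h => by
    constructor
    · intro e
      refine hcent h fun v => mul_inv_eq_iff_eq_mul.mp ?_
      rw [act, e, one_mulVec]
    · rintro ⟨w, rfl⟩
      exact ext' _ _ fun v => hinj (by
        rw [← act, one_mulVec, (hcomm w v).eq, mul_inv_cancel_right])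
  have hdet : ∀ h, IsInv (ρ h) := fun h => by
    show det3 _ = 1
    rw [det3_eq]
    have h1 : (ρ h).det * (ρ h⁻¹).det = 1 := by
      rw [← det_mul, ← map_mul, mul_inv_cancel, map_one, det_one]
    exact (show ∀ a b : ZMod 2, a * b = 1 → a = 1 by decide) _ _ h1
  let ψ : H →* M3ˣ := ρ.toHomUnits
  have hψker : Nat.card ↥ψ.ker = 8 := by
    have e : ↥ψ.ker ≃ V3 := (Equiv.ofBijective (fun v : V3 => (⟨ι v, by
        rw [MonoidHom.mem_ker]; exact Units.ext ((ker _).mpr ⟨v, rfl⟩)⟩ : ↥ψ.ker))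
      ⟨fun a b h => hinj (congrArg Subtype.val h), fun k => by
        obtain ⟨v, hv⟩ := (ker k.1).mp (congrArg Units.val (MonoidHom.mem_ker.mp k.2) :)
        exact ⟨v, Subtype.ext hv.symm⟩⟩).symm
    rw [Nat.card_congr e]
    simp [Nat.card_eq_fintype_card]
  have hrange : Nat.card ↥ψ.range = 168 := by
    have h := Subgroup.card_mul_index ψ.ker
    rw [Subgroup.index_ker, hψker, hcard] at h
    omega
  have hM := card_inv_mat
  refine ⟨⟨ι, hadd, hinj, ρ, act, ker, fun M hMi => ?_⟩⟩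
  let j : ↥ψ.range → {M : M3 // IsInv M} := fun u => ⟨(u.1 : M3), by
    obtain ⟨h, hh⟩ := u.2; rw [← hh]; exact hdet h⟩
  have hj : Function.Injective j := fun a b h =>
    Subtype.ext (Units.ext (congrArg Subtype.val h))
  obtain ⟨⟨u, h, rfl⟩, hu⟩ := (hj.bijective_of_nat_card_le (by rw [hM, hrange])).2 ⟨M, hMi⟩
  exact ⟨h, congrArg Subtype.val hu⟩

namespace Ext

theorem pow_facts : ∀ c : Fin 6, if 4 ≤ c then R c ^ 7 = 1 ∧ R c ≠ 1 else R c ^ 12 = 1 := by
  decide +kernel

/-- Divisibility of the order by seven is seen in the quotient. -/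
theorem seven_iff [Finite H] (E : Ext H) (g : H) : 7 ∣ orderOf g ↔ 4 ≤ cls (E.ρ g) := by
  obtain ⟨N, hN, hNc⟩ := exists_conj _ (E.inv_rho g)
  obtain ⟨a, ha⟩ := E.surj _ hN
  have hc : E.ρ (a * g * a⁻¹) = R (cls (E.ρ g)) := by
    rw [E.rho_conj, ha, hNc, mul_assoc, ← ha, (E.rho_inv a).1, mul_one]
  rw [← orderOf_conj a g]
  have hp := pow_facts (cls (E.ρ g))
  by_cases h4 : 4 ≤ cls (E.ρ g)
  · rw [if_pos h4, ← hc, ← map_pow] at hp
    refine iff_of_true ?_ h4
    have : Fact (Nat.Prime 7) := ⟨by norm_num⟩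
    have h7 : orderOf (E.ρ (a * g * a⁻¹)) = 7 := orderOf_eq_prime (by rw [← map_pow]; exact hp.1) hp.2
    exact h7 ▸ orderOf_map_dvd E.ρ _
  · rw [if_neg h4, ← hc, ← map_pow] at hp
    refine iff_of_false (fun h => ?_) h4
    obtain ⟨v, hv⟩ := (E.ker _).mp hp
    have h24 : (a * g * a⁻¹) ^ 24 = 1 := by
      rw [show 24 = 12 * 2 from rfl, pow_mul, hv, pow_two, E.mul_self]
    have := h.trans (orderOf_dvd_of_pow_eq_one h24)
    norm_num at this

/-- The classes outside the two classes of order seven. -/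
theorem card_not_seven [Finite H] (E : Ext H) : classCount H (fun g => ¬ 7 ∣ orderOf g) = 9 := by
  have hsum : classCount H (fun g => (¬ 7 ∣ orderOf g) ∨ 7 ∣ orderOf g) = 11 := by
    rw [← E.card_conjClasses, ← classCount_top]
    exact classCount_iff fun g => ⟨fun _ => trivial, fun _ => (em _).symm⟩
  rw [classCount_add (conjInv_order (fun n => ¬ 7 ∣ n)) (fun _ h => h)] at hsum
  have hseven : classCount H (fun g => 7 ∣ orderOf g) = 2 := by
    obtain ⟨u, hu⟩ := E.surj _ (R_spec 4).1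
    obtain ⟨v, hv⟩ := E.surj _ (R_spec 5).1
    rw [classCount_iff (Q := fun g => cls (E.ρ g) = 4 ∨ cls (E.ρ g) = 5) fun g => by
        rw [E.seven_iff]; revert g; intro g; generalize cls (E.ρ g) = c; revert c; decide,
      classCount_add (fun a g (h : cls (E.ρ g) = 4) => by rw [← h]; exact E.cls_rho_conj a g)
        (fun g h h' => by rw [h] at h'; exact absurd h' (by decide)),
      E.count_cyclic 4 (by decide) hu, E.count_cyclic 5 (by decide) hv]
    rfl
  omega

end Ext

variable {G : Type*} [Group G] [Finite G] {z p x e : G}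

open J4Five in
/-- Above an element of order five. -/
theorem five_count (D : Five z p x e) (F : AutFacts) (F5 : FiveFacts) (I : J4Five.Inputs z) :
    classCount ↥(cz x) (fun c => ¬ 5 ∣ orderOf c ∧ ¬ 7 ∣ orderOf c) = 9 := by
  classical
  set L := line z p e with hL
  set f := p * e * p⁻¹ with hf
  let ι : V3 → G := fun v => z ^ (v 0).val * e ^ (v 1).val * f ^ (v 2).val
  have hzL : z ∈ L := z_mem_line _ _ _
  have heL : e ∈ L := e_mem_line _ _ _
  have hfL : f ∈ L := pe_mem_line _ _ _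
  have hιmem : ∀ v, ι v ∈ L := fun v =>
    mul_mem (mul_mem (pow_mem hzL _) (pow_mem heL _)) (pow_mem hfL _)
  have hpow : ∀ {a : G}, a ∈ L → ∀ s t : ZMod 2, a ^ (s + t).val = a ^ s.val * a ^ t.val :=
    fun {a} ha s t => by
      rw [← pow_add]
      have h2 : a ^ 2 = 1 := by rw [pow_two, D.sq_L F ha]
      rw [ZMod.val_add, ← pow_eq_pow_mod _ h2]
  have hadd : ∀ v w, ι (v + w) = ι v * ι w := fun v w => by
    show z ^ (v 0 + w 0).val * e ^ (v 1 + w 1).val * f ^ (v 2 + w 2).val = _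
    rw [hpow hzL, hpow heL, hpow hfL]
    have c1 : Commute (z ^ (w 0).val) (e ^ (v 1).val) := D.comm_L F (pow_mem hzL _) (pow_mem heL _)
    have c2 : Commute (z ^ (w 0).val * e ^ (w 1).val) (f ^ (v 2).val) :=
      D.comm_L F (mul_mem (pow_mem hzL _) (pow_mem heL _)) (pow_mem hfL _)
    calc z ^ (v 0).val * z ^ (w 0).val * (e ^ (v 1).val * e ^ (w 1).val) *
          (f ^ (v 2).val * f ^ (w 2).val)
        = z ^ (v 0).val * (z ^ (w 0).val * e ^ (v 1).val) * e ^ (w 1).val *
          (f ^ (v 2).val * f ^ (w 2).val) := by simp only [mul_assoc]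
      _ = z ^ (v 0).val * e ^ (v 1).val * (z ^ (w 0).val * e ^ (w 1).val * f ^ (v 2).val) *
          f ^ (w 2).val := by rw [c1.eq]; simp only [mul_assoc]
      _ = _ := by rw [c2.eq]; simp only [ι, mul_assoc]
  have hrange : ∀ l ∈ L, ∃ v, ι v = l := by
    have h0 : ι 0 = 1 := by simp [ι]
    intro l hl
    rw [hL, line] at hl
    induction hl using Subgroup.closure_induction with
    | mem w hw =>
      rcases hw with rfl | rfl | rfl
      · exact ⟨![1, 0, 0], by simp [ι, show (1 : ZMod 2).val = 1 from rfl]⟩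
      · exact ⟨![0, 1, 0], by simp [ι, show (1 : ZMod 2).val = 1 from rfl]⟩
      · exact ⟨![0, 0, 1], by simp [ι, hf, show (1 : ZMod 2).val = 1 from rfl]⟩
    | one => exact ⟨0, h0⟩
    | mul a b _ _ ha hb =>
      obtain ⟨v, rfl⟩ := ha
      obtain ⟨w, rfl⟩ := hb
      exact ⟨v + w, hadd v w⟩
    | inv a _ ha =>
      obtain ⟨v, rfl⟩ := ha
      exact ⟨v, eq_inv_of_mul_eq_one_left (D.sq_L F (hιmem v))⟩
  let ιL : V3 → ↥L := fun v => ⟨ι v, hιmem v⟩
  have hsurjL : Function.Surjective ιL := fun l => by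
    obtain ⟨v, hv⟩ := hrange l l.2; exact ⟨v, Subtype.ext hv⟩
  have hinjL : Function.Injective ι := fun a b h => by
    refine (hsurjL.bijective_of_nat_card_le ?_).1 (Subtype.ext h : ιL a = ιL b)
    rw [hL, D.card_L F]; simp [Nat.card_eq_fintype_card]
  set σ : ↥(cz x) := ⟨x, mem_cz.mpr (Commute.refl x)⟩ with hσ
  have hσo : orderOf σ = 5 := (orderOf_coe σ).symm.trans D.ord
  set X := Subgroup.zpowers σ with hX
  have hXn : X.Normal := ⟨fun a ha b => by
    obtain ⟨i, rfl⟩ := Subgroup.mem_zpowers_iff.mp ha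
    have : Commute b σ := Subtype.ext (mem_cz.mp b.2).eq
    rw [(this.zpow_right i).eq, mul_inv_cancel_right]
    exact ha⟩
  have hX5 : Nat.card ↥X = 5 := by rw [hX, Nat.card_zpowers, hσo]
  have hidx : X.index = 1344 := by
    have h := Subgroup.card_mul_index X
    rw [hX5, D.card_cx F F5 I] at h
    omega
  have hXG : ∀ {c : ↥(cz x)}, c ∈ X → (c : G) ∈ L → (c : G) = 1 := fun {c} hc hcL => by
    have h1 := orderOf_dvd_natCard (⟨c, hc⟩ : ↥X)
    rw [hX5, Subgroup.orderOf_mk, ← orderOf_coe] at h1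
    have h2 : orderOf (c : G) ∣ 2 := orderOf_dvd_of_pow_eq_one (by rw [pow_two, D.sq_L F hcL])
    exact orderOf_eq_one_iff.mp (Nat.dvd_one.mp
      ((show Nat.gcd 5 2 = 1 by norm_num) ▸ Nat.dvd_gcd h1 h2))
  let ι₀ : V3 → ↥(cz x) := fun v => ⟨ι v, mem_cz.mpr (D.commute_line F (hιmem v)).symm⟩
  have hadd₀ : ∀ v w, ι₀ (v + w) = ι₀ v * ι₀ w := fun v w => Subtype.ext (hadd v w)
  have hne : ∀ {a b : G}, a ∈ L → b ∈ L → ∀ {c d : ↥(cz x)}, (c : G) = a → (d : G) = b →
      QuotientGroup.mk' X c = QuotientGroup.mk' X d → a = b := fun {a b} ha hb {c d} hc hd h => by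
    have hmem : c⁻¹ * d ∈ X := QuotientGroup.eq.mp h
    have := hXG hmem (by rw [Subgroup.coe_mul, Subgroup.coe_inv, hc, hd]; exact mul_mem (inv_mem ha) hb)
    rw [Subgroup.coe_mul, Subgroup.coe_inv, hc, hd] at this
    exact inv_mul_eq_one.mp this
  have hN := D.cz_le_normalizer F F5 I
  obtain ⟨E⟩ := Ext.exists_of_module (fun v => QuotientGroup.mk' X (ι₀ v))
    (fun v w => by rw [hadd₀, map_mul])
    (fun a b h => hinjL (hne (hιmem a) (hιmem b) rfl rfl h))
    (fun h v => by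
      obtain ⟨c, rfl⟩ := QuotientGroup.mk'_surjective X h
      obtain ⟨w, hw⟩ := hrange _ ((Subgroup.mem_normalizer_iff.mp (hN c.2) (ι v)).mp (hιmem v))
      refine ⟨w, ?_⟩
      rw [← map_inv, ← map_mul, ← map_mul]
      exact congrArg _ (Subtype.ext hw.symm))
    (fun h hh => by
      obtain ⟨c, rfl⟩ := QuotientGroup.mk'_surjective X h
      have hcl : ∀ l ∈ L, Commute (c : G) l := fun l hl => by
        obtain ⟨v, rfl⟩ := hrange l hl
        refine mul_inv_eq_iff_eq_mul.mp (hne ((Subgroup.mem_normalizer_iff.mp (hN c.2) (ι v)).mp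
          (hιmem v)) (hιmem v) (c := c * ι₀ v * c⁻¹) (d := ι₀ v) rfl rfl ?_)
        rw [map_mul, map_mul, map_inv, (hh v).eq, mul_inv_cancel_right]
      obtain ⟨i, l, hl, hcil⟩ := D.cent_line F F5 I (mem_cz.mp c.2) hcl
      obtain ⟨v, rfl⟩ := hrange l hl
      refine ⟨v, ?_⟩
      have : c = σ ^ i * ι₀ v := Subtype.ext (by rw [Subgroup.coe_mul, SubgroupClass.coe_zpow]; exact hcil)
      rw [this, map_mul, QuotientGroup.mk'_apply X (σ ^ i),
        (QuotientGroup.eq_one_iff _).mpr (Subgroup.zpow_mem_zpowers σ i), one_mul])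
    (by rw [← Subgroup.index_eq_card, hidx])
  rw [classCount_quot_and (by norm_num : Nat.Prime 5) X
    (IsPGroup.of_card (p := 5) (n := 1) (by rw [hX5, pow_one])) (by rw [hidx]; norm_num)
    (fun n => ¬ 7 ∣ n)]
  exact E.card_not_seven

end Cfsg.Agent.Lib.J4Classes92
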