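import Cfsg.Agent.Lib.J4Classes92.Big
import Cfsg.Prelude.Def_TwoFusion

/-!
# The classes at the prime seven
-/

set_option autoImplicit false

namespace Cfsg.Agent.Lib.J4Classes92

open Cfsg.Agent.Lib.J4Local

namespace SymFive

/-- Fixed points of a permutation. -/
def fix (σ : Equiv.Perm (Fin 5)) : ℕ := (Finset.univ.filter fun i => σ i = i).card

/-- The class invariant. -/
def inv (σ : Equiv.Perm (Fin 5)) : ℕ × ℕ := (fix σ, fix (σ * σ))

/-- Representatives. -/
def rep : Fin 7 → Equiv.Perm (Fin 5) :=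
  ![1, Equiv.swap 0 1, Equiv.swap 0 1 * Equiv.swap 2 3, Equiv.swap 0 1 * Equiv.swap 1 2,
    Equiv.swap 0 1 * Equiv.swap 1 2 * Equiv.swap 2 3,
    Equiv.swap 0 1 * Equiv.swap 1 2 * Equiv.swap 2 3 * Equiv.swap 3 4,
    Equiv.swap 0 1 * Equiv.swap 1 2 * Equiv.swap 3 4]

theorem rep_inj : ∀ i j, inv (rep i) = inv (rep j) → i = j := by decide +kernel

theorem cover : ∀ σ : Equiv.Perm (Fin 5), ∃ i, ∃ h : Equiv.Perm (Fin 5), h * rep i = σ * h := by
  decide +kernel

theorem fix_conj (h σ : Equiv.Perm (Fin 5)) : fix (h * σ * h⁻¹) = fix σ := by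
  unfold fix
  refine Finset.card_equiv h⁻¹ fun i => ?_
  rw [Finset.mem_filter, Finset.mem_filter]
  simp only [Finset.mem_univ, true_and]
  show h (σ (h.symm i)) = i ↔ σ (h.symm i) = h.symm i
  exact ⟨fun e => h.injective (e.trans (h.apply_symm_apply i).symm), fun e =>
    (congrArg h e).trans (h.apply_symm_apply i)⟩

theorem inv_conj (h σ : Equiv.Perm (Fin 5)) : inv (h * σ * h⁻¹) = inv σ := by
  rw [inv, inv, show h * σ * h⁻¹ * (h * σ * h⁻¹) = h * (σ * σ) * h⁻¹ by group, fix_conj, fix_conj]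

theorem card_classes : Nat.card (ConjClasses (Equiv.Perm (Fin 5))) = 7 := by
  rw [← Nat.card_fin 7]
  refine (Nat.card_eq_of_bijective (fun i => ConjClasses.mk (rep i)) ⟨fun i j h => ?_, fun C => ?_⟩).symm
  · obtain ⟨a, ha⟩ := isConj_iff.mp (ConjClasses.mk_eq_mk_iff_isConj.mp h)
    exact rep_inj i j (by rw [← ha, inv_conj])
  · obtain ⟨σ, rfl⟩ := ConjClasses.mk_surjective C
    obtain ⟨i, h, hh⟩ := cover σ
    exact ⟨i, ConjClasses.mk_eq_mk_iff_isConj.mpr
      (isConj_iff.mpr ⟨h, by rw [hh, mul_inv_cancel_right]⟩)⟩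

end SymFive

variable {G : Type*} [Group G] [Finite G]

theorem card_conjClasses_mulEquiv {A B : Type*} [Group A] [Group B] (e : A ≃* B) :
    Nat.card (ConjClasses A) = Nat.card (ConjClasses B) := by
  rw [← classCount_top, ← classCount_top, ← classCount_mulEquiv e]

/-- Classes of `q'`-elements of `⟨x⟩ × B`. -/
theorem classCount_of_prod {q : ℕ} (hq : q.Prime) {x : G} (hx : orderOf x = q) {B : Subgroup G}
    (h : Cfsg.IsInternalDirectProduct (Subgroup.zpowers x) B (cz x)) (hB : ¬ q ∣ Nat.card ↥B) :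
    classCount ↥(cz x) (fun c => ¬ q ∣ orderOf c) = Nat.card (ConjClasses ↥B) := by
  obtain ⟨hX, hBle, hcomm, hinf, hsup⟩ := h
  set σ : ↥(cz x) := ⟨x, mem_cz.mpr (Commute.refl x)⟩
  set X := Subgroup.zpowers σ with hXdef
  have hσ : orderOf σ = q := (orderOf_coe σ).symm.trans hx
  have hXn : X.Normal := ⟨fun a ha b => by
    obtain ⟨i, rfl⟩ := Subgroup.mem_zpowers_iff.mp ha
    have : Commute b σ := Subtype.ext (mem_cz.mp b.2).eq
    rw [(this.zpow_right i).eq, mul_inv_cancel_right]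
    exact ha⟩
  let φ : ↥B →* ↥(cz x) ⧸ X := (QuotientGroup.mk' X).comp (Subgroup.inclusion hBle)
  have hinj : Function.Injective φ := by
    rw [injective_iff_map_eq_one]
    intro b hb
    obtain ⟨i, hi⟩ := Subgroup.mem_zpowers_iff.mp ((QuotientGroup.eq_one_iff _).mp hb : Subgroup.inclusion hBle b ∈ X)
    have hmem : (b : G) ∈ Subgroup.zpowers x ⊓ B :=
      ⟨⟨i, congrArg Subtype.val hi⟩, b.2⟩
    rw [hinf, Subgroup.mem_bot] at hmem
    exact Subtype.ext hmem
  have hsurj : Function.Surjective φ := by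
    intro w
    obtain ⟨c, rfl⟩ := QuotientGroup.mk'_surjective X w
    obtain ⟨a, ha, b, hb, hab⟩ : ∃ a ∈ Subgroup.zpowers x, ∃ b ∈ B, (c : G) = a * b := by
      have hc : (c : G) ∈ Subgroup.closure ((Subgroup.zpowers x : Set G) ∪ B) := by
        rw [Subgroup.closure_union, Subgroup.closure_eq, Subgroup.closure_eq, hsup]; exact c.2
      generalize (c : G) = d at hc ⊢
      induction hc using Subgroup.closure_induction with
      | mem w hw =>
        rcases hw with hw | hw
        · exact ⟨w, hw, 1, one_mem _, (mul_one w).symm⟩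
        · exact ⟨1, one_mem _, w, hw, (one_mul w).symm⟩
      | one => exact ⟨1, one_mem _, 1, one_mem _, (one_mul 1).symm⟩
      | mul u v _ _ hu hv =>
        obtain ⟨a, ha, b, hb, rfl⟩ := hu
        obtain ⟨a', ha', b', hb', rfl⟩ := hv
        refine ⟨a * a', mul_mem ha ha', b * b', mul_mem hb hb', ?_⟩
        rw [mul_assoc, ← mul_assoc b, ← hcomm a' ha' b hb, mul_assoc a', ← mul_assoc a]
      | inv u _ hu =>
        obtain ⟨a, ha, b, hb, rfl⟩ := hu
        refine ⟨a⁻¹, inv_mem ha, b⁻¹, inv_mem hb, ?_⟩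
        rw [mul_inv_rev, hcomm _ (inv_mem ha) _ (inv_mem hb)]
    refine ⟨⟨b, hb⟩, QuotientGroup.eq.mpr ?_⟩
    obtain ⟨i, rfl⟩ := Subgroup.mem_zpowers_iff.mp ha
    refine ⟨i, Subtype.ext ?_⟩
    show ((σ ^ i : ↥(cz x)) : G) = b⁻¹ * (c : G)
    rw [hab, hcomm _ (Subgroup.zpow_mem_zpowers x i) b hb, inv_mul_cancel_left,
      SubgroupClass.coe_zpow]
  have hidx : ¬ q ∣ X.index := by
    rw [Subgroup.index_eq_card, ← Nat.card_eq_of_bijective φ ⟨hinj, hsurj⟩]; exact hB
  rw [classCount_quot hq X (IsPGroup.of_card (p := q) (n := 1) (by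
    rw [hXdef, Nat.card_zpowers, hσ, pow_one])) hidx,
    card_conjClasses_mulEquiv (MulEquiv.ofBijective φ ⟨hinj, hsurj⟩)]

/-- The count at seven, from the structure of the centralizer and the normalizer. -/
theorem seven_count {s : G} (hs : orderOf s = 7) (h49 : ¬ 49 ∣ Nat.card G)
    (hI : ∃ I : Subgroup G, Cfsg.IsInternalDirectProduct (Subgroup.zpowers s) I (cz s) ∧
      Nonempty (↥I ≃* Equiv.Perm (Fin 5)))
    (hN : Nat.card ↥(Subgroup.normalizer (Subgroup.zpowers s : Set G)) = 3 * Nat.card ↥(cz s)) :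
    classCount G (fun g => 7 ∣ orderOf g) = 14 := by
  have h7 : Nat.Prime 7 := by norm_num
  have := Fact.mk h7
  have hsq : ¬ 7 ^ 2 ∣ Nat.card G := by simpa using h49
  have h2 : classCount G (fun g => orderOf g = 7) = 2 := by
    have h := classCount_order_mul hsq hs hN
    omega
  obtain ⟨x, y, hx, hy, hxy, hall⟩ := exists_two_of_count h2
  rw [classCount_dvd_two h7 hx hy hxy (fun g h => hsq (h.trans (orderOf_dvd_natCard g))) hall]
  have key : ∀ w : G, orderOf w = 7 → classCount ↥(cz w) (fun c => ¬ 7 ∣ orderOf c) = 7 := by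
    intro w hw
    obtain ⟨a, ha⟩ := J4BigPrimes.conj_of_cyclic hsq hs hw
    obtain ⟨I, ⟨h1, h2, h3, h4, h5⟩, ⟨iso⟩⟩ := hI
    let e : G ≃* G := MulAut.conj a
    have hcz : cz w = (cz s).map e.toMonoidHom := by
      rw [← J4BigPrimes.cz_eq_of_zpowers ha]
      ext v
      rw [Subgroup.mem_map_equiv, mem_cz, mem_cz]
      constructor
      · intro h; simpa [e, mul_assoc] using h.map e.symm
      · intro h; simpa [e, mul_assoc] using h.map e
    have hz : Subgroup.zpowers w = (Subgroup.zpowers s).map e.toMonoidHom := by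
      rw [MonoidHom.map_zpowers, ← ha]; rfl
    have hdp : Cfsg.IsInternalDirectProduct (Subgroup.zpowers w) (I.map e.toMonoidHom) (cz w) := by
      rw [hz, hcz]
      refine ⟨Subgroup.map_mono h1, Subgroup.map_mono h2, ?_, ?_, ?_⟩
      · rintro _ ⟨u, hu, rfl⟩ _ ⟨v, hv, rfl⟩
        rw [← map_mul, ← map_mul, h3 u hu v hv]
      · rw [← Subgroup.map_inf _ _ _ e.injective, h4, Subgroup.map_bot]
      · rw [← Subgroup.map_sup, h5]
    have iso' := (I.equivMapOfInjective e.toMonoidHom e.injective).symm.trans iso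
    rw [classCount_of_prod h7 hw hdp (by
      rw [Nat.card_congr iso'.toEquiv, Nat.card_eq_fintype_card, Fintype.card_perm, Fintype.card_fin]
      decide), card_conjClasses_mulEquiv iso', SymFive.card_classes]
  rw [key x hx, key y hy]

end Cfsg.Agent.Lib.J4Classes92
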