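import Cfsg.Agent.Lib.J4Classes92.Count
import Cfsg.Agent.Lib.J4Local.RowsG
import Cfsg.Agent.Lib.J4Local.AutFacts
import Cfsg.Agent.S5565
import Cfsg.Agent.Lib.J4Order.CardEq

/-!
# The classes at the prime three
-/

set_option autoImplicit false

namespace Cfsg.Agent.Lib.J4Classes92

open Cfsg.Agent.Lib.J4Local

variable {G : Type*} [Group G] [Finite G] [IsSimpleGroup G]

/-- No element has order divisible by nine. -/
theorem not_nine {z p : G} (hG : ¬ IsMulCommutative G) (hJ : Cfsg.IsOfJankoFourTypeAt z)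
    (S : Setting z p) (g : G) : ¬ 3 ^ 2 ∣ orderOf g := by
  intro h
  have := Fact.mk Nat.prime_three
  obtain ⟨R, hR, hc, -⟩ := S.exists_sylow_three autFacts S.p_mem_cz ⟨1, by simpa using S.p_cube⟩
  have hfac : (Nat.card G).factorization 3 = 3 := by
    rw [J4Order.card_eq_of_type hG ⟨z, hJ⟩,
      show (86775571046077562880 : ℕ) = 3 ^ 3 * 3213910038743613440 by norm_num,
      Nat.factorization_mul (by norm_num) (by norm_num), Finsupp.add_apply,
      Nat.prime_three.factorization_pow, Finsupp.single_eq_same,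
      Nat.factorization_eq_zero_of_not_dvd (by norm_num : ¬ 3 ∣ 3213910038743613440)]
  let P : Sylow 3 G := Sylow.ofCard R (by rw [hc, hfac]; norm_num)
  obtain ⟨-, -, hexp, -⟩ := Cfsg.Agent.S5565.result hG z hJ P hR
  set y := g ^ (orderOf g / 9) with hy
  have h9 : (9 : ℕ) ∣ orderOf g := h
  have hyo : orderOf y = 9 := by
    rw [hy, orderOf_pow_of_dvd
      (Nat.div_ne_zero_iff.mpr ⟨by norm_num, Nat.le_of_dvd (orderOf_pos g) h9⟩)
      (Nat.div_dvd_of_dvd h9), Nat.div_div_self h9 (orderOf_pos g).ne']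
  have hp : IsPGroup 3 ↥(Subgroup.zpowers y) := IsPGroup.of_card (n := 2)
    (by rw [Nat.card_zpowers, hyo]; norm_num)
  obtain ⟨P', hP'⟩ := hp.exists_le_sylow
  obtain ⟨a, ha⟩ := MulAction.exists_smul_eq G P' P
  have hm : a * y * a⁻¹ ∈ (P : Subgroup G) := by
    rw [← ha, Sylow.coe_subgroup_smul]
    exact Subgroup.smul_mem_pointwise_smul y (MulAut.conj a) _ (hP' (Subgroup.mem_zpowers y))
  have h3 := Monoid.order_dvd_exponent (⟨a * y * a⁻¹, hm⟩ : ↥(P : Subgroup G))
  rw [hexp, Subgroup.orderOf_mk] at h3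
  have he : orderOf (a * y * a⁻¹) = orderOf y := MulEquiv.orderOf_eq (MulAut.conj a) y
  rw [he, hyo] at h3
  norm_num at h3

/-- Only the primes two and three. -/
def OnlyTwoThree (g : G) : Prop := ∀ r : ℕ, r.Prime → r ∣ orderOf g → r = 2 ∨ r = 3

omit [IsSimpleGroup G] in
theorem twoElt_iff (c : G) : IsTwoElt c ↔ ∀ r : ℕ, r.Prime → r ∣ orderOf c → r = 2 := by
  constructor
  · rintro ⟨k, hk⟩ r hr hd
    rw [hk] at hd
    exact (Nat.prime_dvd_prime_iff_eq hr Nat.prime_two).mp (hr.dvd_of_dvd_pow hd)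
  · intro h
    refine ⟨(orderOf c).factorization 2, ?_⟩
    have hc : orderOf c / 2 ^ (orderOf c).factorization 2 = 1 := by
      by_contra hne
      obtain ⟨r, hr, hd⟩ := Nat.exists_prime_and_dvd hne
      have h2 := h r hr (hd.trans (Nat.ordCompl_dvd _ 2))
      subst h2
      exact Nat.not_dvd_ordCompl Nat.prime_two (orderOf_pos c).ne' hd
    have := Nat.ordProj_mul_ordCompl_eq_self (orderOf c) 2
    rw [hc, mul_one] at this
    exact this.symm

/-- The count at three. -/
theorem three_count {z p : G} (hG : ¬ IsMulCommutative G) (hJ : Cfsg.IsOfJankoFourTypeAt z)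
    (S : Setting z p) :
    classCount G (fun g => 3 ∣ orderOf g ∧ OnlyTwoThree g) =
      classCount ↥(cz z ⊓ cz p) IsTwoElt := by
  have hP : ConjInv (OnlyTwoThree : G → Prop) := fun a g h r hr hd =>
    h r hr (orderOf_conj a g ▸ hd)
  rw [classCount_dvd_and Nat.prime_three S.ord_p (not_nine hG hJ S)
    (fun y hy => S.three_conj hG autFacts hy) hP]
  have he : cz p = cz z ⊓ cz p :=
    (inf_eq_right.mpr fun c hc => mem_cz.mpr (S.centralizer_p_le hG autFacts (mem_cz.mp hc))).symm
  rw [← classCount_mulEquiv (MulEquiv.subgroupCongr he) (P := IsTwoElt)]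
  refine classCount_iff fun c => ?_
  have hcoe : IsTwoElt (MulEquiv.subgroupCongr he c) ↔ IsTwoElt c := by
    show (∃ k, orderOf (MulEquiv.subgroupCongr he c) = 2 ^ k) ↔ ∃ k, orderOf c = 2 ^ k
    rw [MulEquiv.orderOf_eq]
  rw [hcoe, twoElt_iff]
  have hcp : Commute p (c : G) := (mem_cz.mp c.2).symm
  constructor
  · rintro ⟨h3, hP'⟩ r hr hd
    have ho : orderOf (p * (c : G)) = 3 * orderOf c := by
      rw [hcp.orderOf_mul_eq_mul_orderOf_of_coprime (by
        rw [S.ord_p, orderOf_coe]; exact Nat.prime_three.coprime_iff_not_dvd.mpr h3), S.ord_p,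
        orderOf_coe]
    refine (hP' r hr (ho ▸ hd.trans (dvd_mul_left _ _))).resolve_right ?_
    rintro rfl
    exact h3 hd
  · intro h
    have h3 : ¬ 3 ∣ orderOf c := fun hd => absurd (h 3 Nat.prime_three hd) (by norm_num)
    refine ⟨h3, fun r hr hd => ?_⟩
    rw [hcp.orderOf_mul_eq_mul_orderOf_of_coprime (by
        rw [S.ord_p, orderOf_coe]; exact Nat.prime_three.coprime_iff_not_dvd.mpr h3), S.ord_p,
        orderOf_coe] at hd
    rcases hr.dvd_mul.mp hd with hd | hd
    · exact Or.inr ((Nat.prime_dvd_prime_iff_eq hr Nat.prime_three).mp hd)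
    · exact Or.inl (h r hr hd)

end Cfsg.Agent.Lib.J4Classes92
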