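import Cfsg.Agent.Lib.J4Classes92.Count

/-!
# The classes of two-elements through their involution
-/

set_option autoImplicit false

namespace Cfsg.Agent.Lib.J4Classes92

open Cfsg.Agent.Lib.J4Local

variable {G : Type*} [Group G]

/-- The involution in the cyclic group of a two-element. -/
noncomputable def invPow (g : G) : G := g ^ (orderOf g / 2)

theorem invPow_conj (a g : G) : invPow (a * g * a⁻¹) = a * invPow g * a⁻¹ := by
  rw [invPow, invPow, orderOf_conj, conj_pow]

variable [Finite G]

theorem orderOf_invPow {g : G} (h : IsTwoElt g) (h1 : g ≠ 1) : orderOf (invPow g) = 2 := by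
  obtain ⟨k, hk⟩ := h
  have hd : 2 ∣ orderOf g := by
    rw [hk]
    refine dvd_pow_self 2 fun hk0 => h1 (orderOf_eq_one_iff.mp ?_)
    rw [hk, hk0, pow_zero]
  rw [invPow, orderOf_pow_of_dvd
    (Nat.div_ne_zero_iff.mpr ⟨two_ne_zero, Nat.le_of_dvd (orderOf_pos g) hd⟩)
    (Nat.div_dvd_of_dvd hd), Nat.div_div_self hd (orderOf_pos g).ne']

theorem invPow_eq_iff {w g : G} (hw : orderOf w = 2) (h : IsTwoElt g) :
    invPow g = w ↔ w ∈ Subgroup.zpowers g := by
  constructor
  · rintro rfl
    exact Subgroup.npow_mem_zpowers g _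
  · intro hm
    obtain ⟨k, hk⟩ := h
    obtain ⟨n, hn⟩ := (mem_powers_iff_mem_zpowers.mpr hm : w ∈ Submonoid.powers g)
    have hw2 : g ^ (n * 2) = 1 := by
      rw [pow_mul]
      show (g ^ n) ^ 2 = 1
      have hn' : g ^ n = w := hn
      rw [hn', ← hw, pow_orderOf_eq_one]
    have hd := orderOf_dvd_of_pow_eq_one hw2
    rcases k with _ | k
    · rw [pow_zero, orderOf_eq_one_iff] at hk
      exfalso
      have hn' : g ^ n = w := hn
      rw [hk, one_pow] at hn'
      rw [← hn', orderOf_one] at hw
      norm_num at hw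
    · rw [invPow]
      have hhalf : orderOf g / 2 = 2 ^ k := by rw [hk, pow_succ]; omega
      rw [hhalf]
      rw [hk, pow_succ] at hd
      obtain ⟨m, rfl⟩ := Nat.dvd_of_mul_dvd_mul_right (by norm_num : 0 < 2) hd
      have hn' : (g ^ 2 ^ k) ^ m = w := by rw [← pow_mul]; exact hn
      have hu : (g ^ 2 ^ k) ^ 2 = 1 := by rw [← pow_mul, ← pow_succ, ← hk, pow_orderOf_eq_one]
      rcases Nat.even_or_odd' m with ⟨j, rfl | rfl⟩
      · exfalso
        rw [pow_mul, hu, one_pow] at hn'
        rw [← hn', orderOf_one] at hw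
        norm_num at hw
      · rw [← hn', pow_succ, pow_mul, hu, one_pow, one_mul]

/-- The classes of two-elements above one class of involutions. -/
theorem classCount_invPow {w : G} (hw : orderOf w = 2) :
    classCount G (fun g => IsTwoElt g ∧ IsConj w (invPow g)) = powCount w := by
  rw [classCount_fiber invPow_conj (fun g => Commute.self_pow g _) conjInv_twoElt w, powCount]
  refine classCount_iff fun c => ?_
  exact ⟨fun h => ⟨h.1, (invPow_eq_iff hw h.1).mp h.2⟩,
    fun h => ⟨h.1, (invPow_eq_iff hw h.1).mpr h.2⟩⟩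

/-- All two-elements, when there are two classes of involutions. -/
theorem classCount_twoElt {z t : G} (hz : orderOf z = 2) (ht : orderOf t = 2) (hzt : ¬ IsConj z t)
    (htwo : ∀ w : G, orderOf w = 2 → IsConj z w ∨ IsConj t w) :
    classCount G IsTwoElt = 1 + powCount z + powCount t := by
  have hinv : ∀ w : G, ConjInv (fun g => IsTwoElt g ∧ IsConj w (invPow g)) := fun w a g h =>
    ⟨conjInv_twoElt a g h.1, by rw [invPow_conj]; exact h.2.trans (isConj_iff.mpr ⟨a, rfl⟩)⟩
  have hone : ¬ (orderOf (1 : G) = 2) := by rw [orderOf_one]; norm_num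
  have hne : ∀ {w : G}, orderOf w = 2 → ¬ IsConj w (invPow (1 : G)) := fun {w} hw h => by
    rw [invPow, one_pow] at h
    obtain ⟨a, ha⟩ := isConj_iff.mp h
    rw [conj_eq_one_iff] at ha
    exact hone (ha ▸ hw)
  rw [← classCount_invPow hz, ← classCount_invPow ht,
    ← classCount_eq_one (P := fun g : G => g = 1) rfl (fun g h => h ▸ IsConj.refl _),
    ← classCount_add (fun a g (h : g = 1) => by subst h; simp)
      (fun g h h' => hne hz (h ▸ h'.2)),
    ← classCount_add (P := fun g : G => g = 1 ∨ IsTwoElt g ∧ IsConj z (invPow g))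
      (fun a g h => h.imp (fun e => by subst e; simp) (hinv z a g))
      (fun g h h' => h.elim (fun e => hne ht (e ▸ h'.2)) fun h => hzt (h.2.trans h'.2.symm))]
  refine classCount_iff fun g => ?_
  constructor
  · intro h
    by_cases h1 : g = 1
    · exact Or.inl (Or.inl h1)
    · exact (htwo _ (orderOf_invPow h h1)).elim (fun e => Or.inl (Or.inr ⟨h, e⟩))
        fun e => Or.inr ⟨h, e⟩
  · rintro ((rfl | h) | h)
    exacts [⟨0, by rw [orderOf_one, pow_zero]⟩, h.1, h.1]

end Cfsg.Agent.Lib.J4Classes92
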