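import Cfsg.Agent.Lib.J4Classes92.Eleven
import Cfsg.Agent.Lib.J4Classes92.Three
import Cfsg.Agent.Lib.J4Classes92.Two
import Cfsg.Agent.Lib.J4Classes92.Seven
import Cfsg.Agent.Lib.J4Classes92.JFive
import Cfsg.Agent.Lib.J4Five.Rows
import Cfsg.Agent.Lib.J4Seven.Rows
import Cfsg.Agent.Lib.J4Recog76.Classes
import Cfsg.Agent.S5567
import Cfsg.Agent.S5568
import Cfsg.Agent.S5569
import Cfsg.Agent.S5570
import Cfsg.Agent.S5572
import Cfsg.Agent.S5573
import Cfsg.Agent.S5575

/-!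
# The class number from the three counts at two-elements
-/

set_option autoImplicit false

namespace Cfsg.Agent.Lib.J4Classes92

open Cfsg.Agent.Lib
open Cfsg.Agent.Lib.J4Local

variable {G : Type*} [Group G] [Finite G] [IsSimpleGroup G] {z p : G}

theorem big_inputs (hG : ¬ IsMulCommutative G) (hJ : Cfsg.IsOfJankoFourTypeAt z) :
    J4BigPrimes.Inputs z := by
  have cen : ∀ x : G, cz x ≤ Subgroup.normalizer
      ((Subgroup.zpowers x : Subgroup G) : Set G) := fun x => J4BigPrimes.cz_le_nz x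
  refine ⟨J4Order.card_eq_of_type hG ⟨z, hJ⟩, ?_, ?_, fun x hx hxz => ?_, fun x hx hxz => ?_,
    fun V hV hc => (Cfsg.Agent.S5567.result hG ⟨z, hJ⟩ V hV hc).1,
    Cfsg.Agent.S5569.result hG z hJ⟩
  · obtain ⟨T⟩ := (inferInstance : Nonempty (Sylow 2 G))
    obtain ⟨V, hV, -⟩ := Cfsg.Agent.S5566.result hG ⟨z, hJ⟩ T
    obtain ⟨-, K, -, -, -, ⟨iso⟩⟩ := Cfsg.Agent.S5567.result hG ⟨z, hJ⟩ V hV.2.1 hV.2.2
    exact ⟨K.subtype.comp iso.symm.toMonoidHom, Subtype.coe_injective.comp iso.symm.injective⟩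
  · obtain ⟨⟨A, hA, hc, hs⟩, -, hall⟩ := Cfsg.Agent.S5570.result hG ⟨z, hJ⟩
    obtain ⟨⟨B, -, -, -, ⟨iso⟩⟩, -⟩ := hall A hA hc hs
    exact ⟨B.subtype.comp iso.symm.toMonoidHom, Subtype.coe_injective.comp iso.symm.injective⟩
  · obtain ⟨-, -, -, hN⟩ := Cfsg.Agent.S5572.result hG z hJ (Subgroup.zpowers x)
      (by rw [Nat.card_zpowers, hx]) (Subgroup.zpowers_le.mpr hxz)
    exact (Subgroup.card_dvd_of_le (cen x)).trans (dvd_of_eq (hN.trans (by norm_num)))
  · obtain ⟨-, -, -, hN⟩ := Cfsg.Agent.S5573.result hG z hJ (Subgroup.zpowers x)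
      (by rw [Nat.card_zpowers, hx]) (Subgroup.zpowers_le.mpr hxz)
    exact (Subgroup.card_dvd_of_le (cen x)).trans (dvd_of_eq (hN.trans (by norm_num)))

theorem five_inputs (hG : ¬ IsMulCommutative G) (hJ : Cfsg.IsOfJankoFourTypeAt z) :
    J4Five.Inputs z := by
  refine ⟨?_, fun V hV hc => Cfsg.Agent.S5567.result hG ⟨z, hJ⟩ V hV hc,
    Cfsg.Agent.S5568.result hG z hJ, Cfsg.Agent.S5569.result hG z hJ⟩
  obtain ⟨T⟩ := (inferInstance : Nonempty (Sylow 2 G))
  obtain ⟨V, hV, -⟩ := Cfsg.Agent.S5566.result hG ⟨z, hJ⟩ T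
  exact ⟨V, hV.2.1, hV.2.2⟩

omit [IsSimpleGroup G] in
theorem exists_in_cz (S : Setting z p) {q : ℕ} (hq : q.Prime) (h : q ∣ 3 * 2 ^ 13 * 887040) :
    ∃ x : G, orderOf x = q ∧ x ∈ cz z := by
  have := Fact.mk hq
  obtain ⟨⟨x, hx⟩, hxo⟩ := exists_prime_orderOf_dvd_card' (G := ↥(cz z)) q
    (by rw [S.card_cz autFacts]; exact h)
  rw [Subgroup.orderOf_mk] at hxo
  exact ⟨x, hxo, hx⟩

/-- Nine classes of order divisible by five but not by seven. -/
theorem count_five (hG : ¬ IsMulCommutative G) (hJ : Cfsg.IsOfJankoFourTypeAt z) (S : Setting z p) :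
    classCount G (fun g => 5 ∣ orderOf g ∧ ¬ 7 ∣ orderOf g) = 9 := by
  have h5 : Nat.Prime 5 := by norm_num
  have := Fact.mk h5
  obtain ⟨x, hx, hxz⟩ := exists_in_cz S h5 (by norm_num)
  obtain ⟨p', e, D⟩ := J4Five.exists_five_data hG S autFacts hxz hx
  have I := five_inputs hG hJ
  have hsq : ¬ 5 ^ 2 ∣ Nat.card G := by simpa using D.not_dvd autFacts J4Five.fiveFacts I
  have hcx := D.card_cx autFacts J4Five.fiveFacts I
  obtain ⟨-, -, -, hN⟩ := Cfsg.Agent.S5572.result hG z hJ (Subgroup.zpowers x)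
    (by rw [Nat.card_zpowers, hx]) (Subgroup.zpowers_le.mpr hxz)
  have hone : ∀ y, orderOf y = 5 → IsConj x y := by
    have h := classCount_order_mul hsq hx (r := 4) (by rw [hcx, hN]; norm_num)
    exact fun y hy => isConj_of_count_one (P := fun g : G => orderOf g = 5) (by omega) hx hy
  rw [classCount_dvd_and h5 hx (fun g h => hsq (h.trans (orderOf_dvd_natCard g))) hone
      (conjInv_order fun n => ¬ 7 ∣ n),
    ← five_count D autFacts J4Five.fiveFacts I]
  refine classCount_iff fun c => and_congr_right fun hc => not_congr ?_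
  have hcc : Commute x (c : G) := (mem_cz.mp c.2).symm
  rw [hcc.orderOf_mul_eq_mul_orderOf_of_coprime (by
    rw [hx, orderOf_coe]; exact h5.coprime_iff_not_dvd.mpr hc), hx, orderOf_coe]
  exact (by norm_num : Nat.Coprime 7 5).dvd_mul_left

/-- Fourteen classes of order divisible by seven. -/
theorem count_seven (hG : ¬ IsMulCommutative G) (hJ : Cfsg.IsOfJankoFourTypeAt z)
    (S : Setting z p) : classCount G (fun g => 7 ∣ orderOf g) = 14 := by
  obtain ⟨s, hs, hsz⟩ := exists_in_cz S (by norm_num : Nat.Prime 7) (by norm_num)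
  obtain ⟨h49, hI, hN, -⟩ := Cfsg.Agent.S5573.result hG z hJ (Subgroup.zpowers s)
    (by rw [Nat.card_zpowers, hs]) (Subgroup.zpowers_le.mpr hsz)
  have hcz : Subgroup.centralizer (Subgroup.zpowers s : Set G) = cz s := by
    rw [Subgroup.zpowers_eq_closure, Subgroup.centralizer_closure]
  rw [hcz] at hI hN
  exact seven_count hs h49 hI hN

/-- Orders at a large prime. -/
theorem big_selfCent (hG : ¬ IsMulCommutative G) (hJ : Cfsg.IsOfJankoFourTypeAt z)
    (S : Setting z p) {q : ℕ} (hq : q ∈ J4BigPrimes.Arith.primes) :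
    ∃ u, SelfCent (G := G) q (J4BigPrimes.Arith.target q).2 u ∧
      (J4BigPrimes.Arith.target q).1 = q := by
  obtain ⟨hqp, hqq, hqd, -, -⟩ := J4BigPrimes.mem_primes hq
  have I := big_inputs hG hJ
  have := Fact.mk hqp
  have hsq : ¬ q ^ 2 ∣ Nat.card G := by rw [I.order]; exact hqq
  obtain ⟨u, hu⟩ := exists_prime_orderOf_dvd_card' (G := G) q (by rw [I.order]; exact hqd)
  obtain ⟨P, hP⟩ := J4BigPrimes.sylow_of_order hsq hu
  obtain ⟨hc, hn⟩ := J4BigPrimes.sylow_structure hG S autFacts I hq P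
  rw [hP] at hc hn
  have ht : (J4BigPrimes.Arith.target q).1 = q := by
    simp only [J4BigPrimes.Arith.primes, List.mem_cons, List.not_mem_nil, or_false] at hq
    rcases hq with rfl | rfl | rfl | rfl | rfl <;> rfl
  refine ⟨u, ⟨hu, hsq, ?_, ?_⟩, ht⟩
  · rw [← hc, Subgroup.zpowers_eq_closure, Subgroup.centralizer_closure]
  · rw [hn, ht]

theorem big_count (hG : ¬ IsMulCommutative G) (hJ : Cfsg.IsOfJankoFourTypeAt z)
    (S : Setting z p) {q r k : ℕ} (hq : q ∈ J4BigPrimes.Arith.primes)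
    (hr : (J4BigPrimes.Arith.target q).2 = r) (hr0 : 0 < r) (hk : k * r = q - 1) :
    classCount G (fun g => q ∣ orderOf g) = k ∧
      ∀ g : G, q ∣ orderOf g → orderOf g = q := by
  obtain ⟨hqp, -, -, -, -⟩ := J4BigPrimes.mem_primes hq
  have := Fact.mk hqp
  obtain ⟨u, A, -⟩ := big_selfCent hG hJ S hq
  refine ⟨?_, fun g => A.order_eq⟩
  have h := A.classCount_mul
  rw [hr, ← hk] at h
  exact Nat.eq_of_mul_eq_mul_right hr0 h

theorem commute_of_dvd {W : Type*} [Group W] [Finite W] {g : W} {a b : ℕ} (ha : a ∣ orderOf g)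
    (hb : b ∣ orderOf g) :
    ∃ v w : W, orderOf v = a ∧ orderOf w = b ∧ Commute v w := by
  have key : ∀ {n : ℕ}, n ∣ orderOf g → orderOf (g ^ (orderOf g / n)) = n := fun {n} hn =>
    orderOf_pow_orderOf_div (orderOf_pos g).ne' hn
  exact ⟨_, _, key ha, key hb, Commute.pow_pow_self g _ _⟩

/-- The first true flag. -/
def slotB (a b c d e f g h i : Bool) : Fin 10 :=
  bif a then 0 else bif b then 1 else bif c then 2 else bif d then 3
  else bif e then 4 else bif f then 5 else bif g then 6 else bif h then 7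
  else bif i then 8 else 9

/-- The position of an order in the partition. -/
def slot (n : ℕ) : Fin 10 :=
  slotB (decide (11 ∣ n)) (decide (7 ∣ n)) (decide (5 ∣ n)) (decide (23 ∣ n)) (decide (29 ∣ n)) (decide (31 ∣ n)) (decide (37 ∣ n)) (decide (43 ∣ n)) (decide (3 ∣ n))

set_option synthInstance.maxHeartbeats 200000 in
set_option synthInstance.maxSize 5000 in
theorem slotB_spec : ∀ a b c d e f g h i : Bool,
    (slotB a b c d e f g h i = 0 ↔ a = true) ∧
    (slotB a b c d e f g h i = 1 ↔ a = false ∧ b = true) ∧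
    (slotB a b c d e f g h i = 2 ↔ a = false ∧ b = false ∧ c = true) ∧
    (slotB a b c d e f g h i = 3 ↔ a = false ∧ b = false ∧ c = false ∧ d = true) ∧
    (slotB a b c d e f g h i = 4 ↔ a = false ∧ b = false ∧ c = false ∧ d = false ∧ e = true) ∧
    (slotB a b c d e f g h i = 5 ↔ a = false ∧ b = false ∧ c = false ∧ d = false ∧ e = false ∧ f = true) ∧
    (slotB a b c d e f g h i = 6 ↔ a = false ∧ b = false ∧ c = false ∧ d = false ∧ e = false ∧ f = false ∧ g = true) ∧
    (slotB a b c d e f g h i = 7 ↔ a = false ∧ b = false ∧ c = false ∧ d = false ∧ e = false ∧ f = false ∧ g = false ∧ h = true) ∧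
    (slotB a b c d e f g h i = 8 ↔ a = false ∧ b = false ∧ c = false ∧ d = false ∧ e = false ∧ f = false ∧ g = false ∧ h = false ∧ i = true) ∧
    (slotB a b c d e f g h i = 9 ↔ a = false ∧ b = false ∧ c = false ∧ d = false ∧ e = false ∧ f = false ∧ g = false ∧ h = false ∧ i = false) := by
  decide +kernel

theorem slot_spec (n : ℕ) :
    (slot n = 0 ↔ 11 ∣ n) ∧
    (slot n = 1 ↔ ¬ 11 ∣ n ∧ 7 ∣ n) ∧
    (slot n = 2 ↔ ¬ 11 ∣ n ∧ ¬ 7 ∣ n ∧ 5 ∣ n) ∧
    (slot n = 3 ↔ ¬ 11 ∣ n ∧ ¬ 7 ∣ n ∧ ¬ 5 ∣ n ∧ 23 ∣ n) ∧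
    (slot n = 4 ↔ ¬ 11 ∣ n ∧ ¬ 7 ∣ n ∧ ¬ 5 ∣ n ∧ ¬ 23 ∣ n ∧ 29 ∣ n) ∧
    (slot n = 5 ↔ ¬ 11 ∣ n ∧ ¬ 7 ∣ n ∧ ¬ 5 ∣ n ∧ ¬ 23 ∣ n ∧ ¬ 29 ∣ n ∧ 31 ∣ n) ∧
    (slot n = 6 ↔ ¬ 11 ∣ n ∧ ¬ 7 ∣ n ∧ ¬ 5 ∣ n ∧ ¬ 23 ∣ n ∧ ¬ 29 ∣ n ∧ ¬ 31 ∣ n ∧ 37 ∣ n) ∧
    (slot n = 7 ↔ ¬ 11 ∣ n ∧ ¬ 7 ∣ n ∧ ¬ 5 ∣ n ∧ ¬ 23 ∣ n ∧ ¬ 29 ∣ n ∧ ¬ 31 ∣ n ∧ ¬ 37 ∣ n ∧ 43 ∣ n) ∧
    (slot n = 8 ↔ ¬ 11 ∣ n ∧ ¬ 7 ∣ n ∧ ¬ 5 ∣ n ∧ ¬ 23 ∣ n ∧ ¬ 29 ∣ n ∧ ¬ 31 ∣ n ∧ ¬ 37 ∣ n ∧ ¬ 43 ∣ n ∧ 3 ∣ n) ∧
    (slot n = 9 ↔ ¬ 11 ∣ n ∧ ¬ 7 ∣ n ∧ ¬ 5 ∣ n ∧ ¬ 23 ∣ n ∧ ¬ 29 ∣ n ∧ ¬ 31 ∣ n ∧ ¬ 37 ∣ n ∧ ¬ 43 ∣ n ∧ ¬ 3 ∣ n) := by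
  have h := slotB_spec (decide (11 ∣ n)) (decide (7 ∣ n)) (decide (5 ∣ n)) (decide (23 ∣ n)) (decide (29 ∣ n)) (decide (31 ∣ n)) (decide (37 ∣ n)) (decide (43 ∣ n)) (decide (3 ∣ n))
  simp only [decide_eq_true_eq, decide_eq_false_iff_not] at h
  exact h

/-- The class number, from the counts of two-elements. -/
theorem card_classes_of_counts (hG : ¬ IsMulCommutative G) (hJ : Cfsg.IsOfJankoFourTypeAt z)
    (S : Setting z p) (hz : powCount z = 7)
    (ht : ∀ t : G, orderOf t = 2 → ¬ IsConj z t → powCount t = 2)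
    (hx : classCount ↥(cz z ⊓ cz p) IsTwoElt = 9) :
    Nat.card (ConjClasses G) = 62 := by
  classical
  have I := big_inputs hG hJ
  -- the involutions
  obtain ⟨t, hto, htn, htwo⟩ : ∃ t : G, orderOf t = 2 ∧ ¬ IsConj z t ∧
      ∀ w : G, orderOf w = 2 → IsConj z w ∨ IsConj t w := by
    obtain ⟨a, b, ha, hb, hab, hall⟩ := J4Recog76.two_classes hG S.ord_z hJ
      (fun V hV hc => (Cfsg.Agent.S5567.result hG ⟨z, hJ⟩ V hV hc).1)
      (fun V hV hc => by
        obtain ⟨z', t, h1, h2, h3, h4, h5, h6, h7, -⟩ := Cfsg.Agent.S5568.result hG z hJ V hV hc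
        exact ⟨z', t, h1, h2, h3, h4, h5, h6, h7⟩)
      (fun u hu hn => by
        obtain ⟨V, K, h1, -, -, h2, h3, -⟩ := Cfsg.Agent.S5569.result hG z hJ u hu hn
        exact ⟨V, h1, h2, h3⟩)
    rcases hall z S.ord_z with h | h
    · exact ⟨b, hb, fun h' => hab (h.symm.trans h'),
        fun w hw => (hall w hw).imp (fun e => h.trans e.symm) IsConj.symm⟩
    · exact ⟨a, ha, fun h' => hab (h'.symm.trans h),
        fun w hw => (hall w hw).symm.imp (fun e => h.trans e.symm) IsConj.symm⟩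
  -- eleven
  obtain ⟨x, C⟩ := J4Eleven49.exists_ctx S
  obtain ⟨U, hU⟩ := C.exists_cent I hG
  have hne : ∃ a ∈ U, ∃ b ∈ U, ¬ Commute a b := by
    obtain ⟨P, hP⟩ := hU.exists_sylow I
    obtain ⟨⟨-, hcen⟩, hPc, -⟩ := Cfsg.Agent.S5575.result hG ⟨z, hJ⟩ P
    by_contra hcon
    push Not at hcon
    have htop : Subgroup.center ↥(P : Subgroup G) = ⊤ := by
      refine eq_top_iff.mpr fun a _ => Subgroup.mem_center_iff.mpr fun b => Subtype.ext ?_
      exact (hcon b (hP ▸ b.2) a (hP ▸ a.2)).eq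
    rw [htop, Subgroup.card_top, hPc] at hcen
    norm_num at hcen
  have h11 := eleven_count C I hU hG hne ⟨t, hto, htn⟩
  have h7 := count_seven hG hJ S
  have h5 := count_five hG hJ S
  obtain ⟨h23, o23⟩ := big_count hG hJ S (q := 23) (by decide) rfl (r := 22) (k := 1) (by norm_num) rfl
  obtain ⟨h29, o29⟩ := big_count hG hJ S (q := 29) (by decide) rfl (r := 28) (k := 1) (by norm_num) rfl
  obtain ⟨h31, o31⟩ := big_count hG hJ S (q := 31) (by decide) rfl (r := 10) (k := 3) (by norm_num) rfl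
  obtain ⟨h37, o37⟩ := big_count hG hJ S (q := 37) (by decide) rfl (r := 12) (k := 3) (by norm_num) rfl
  obtain ⟨h43, o43⟩ := big_count hG hJ S (q := 43) (by decide) rfl (r := 14) (k := 3) (by norm_num) rfl
  have h3 := (three_count hG hJ S).trans hx
  have h2 : classCount G IsTwoElt = 10 := by
    rw [classCount_twoElt S.ord_z hto htn htwo, hz, ht t hto htn]
  -- incompatible divisors
  have no711 : ∀ g : G, 11 ∣ orderOf g → ¬ 7 ∣ orderOf g := fun g ha hb => by
    obtain ⟨v, w, hv, hw, hc⟩ := commute_of_dvd ha hb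
    have h' := (Subgroup.card_dvd_of_le
      (Subgroup.zpowers_le.mpr (mem_cz.mpr hc) : Subgroup.zpowers v ≤ cz w)).trans
      (J4BigPrimes.cent_seven S autFacts I hw)
    rw [Nat.card_zpowers, hv] at h'
    norm_num at h'
  have no511 : ∀ g : G, 11 ∣ orderOf g → ¬ 5 ∣ orderOf g := fun g ha hb => by
    obtain ⟨v, w, hv, hw, hc⟩ := commute_of_dvd ha hb
    exact J4Eleven49.no_five hG S I hv hw hc.symm
  have hprimes : ∀ (g : G) (r : ℕ), r.Prime → r ∣ orderOf g →
      r = 2 ∨ r = 3 ∨ r = 5 ∨ r = 7 ∨ r = 11 ∨ r = 23 ∨ r = 29 ∨ r = 31 ∨ r = 37 ∨ r = 43 := by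
    intro g r hr hd
    have h := hd.trans (orderOf_dvd_natCard g)
    rw [I.order, show (86775571046077562880 : ℕ) =
      2 ^ 21 * 3 ^ 3 * 5 * 7 * 11 ^ 3 * 23 * 29 * 31 * 37 * 43 by norm_num] at h
    have e : ∀ {n k : ℕ}, n.Prime → r ∣ n ^ k → r = n := fun hn h =>
      (Nat.prime_dvd_prime_iff_eq hr hn).mp (hr.dvd_of_dvd_pow h)
    have e1 : ∀ {n : ℕ}, n.Prime → r ∣ n → r = n := fun hn h =>
      (Nat.prime_dvd_prime_iff_eq hr hn).mp h
    rcases hr.dvd_mul.mp h with h | h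
    · rcases hr.dvd_mul.mp h with h | h
      · rcases hr.dvd_mul.mp h with h | h
        · rcases hr.dvd_mul.mp h with h | h
          · rcases hr.dvd_mul.mp h with h | h
            · rcases hr.dvd_mul.mp h with h | h
              · rcases hr.dvd_mul.mp h with h | h
                · rcases hr.dvd_mul.mp h with h | h
                  · rcases hr.dvd_mul.mp h with h | h
                    · left; exact e Nat.prime_two h
                    · right; left; exact e Nat.prime_three h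
                  · right; right; left; exact e1 Nat.prime_five h
                · right; right; right; left; exact e1 (by norm_num) h
              · right; right; right; right; left; exact e (by norm_num) h
            · right; right; right; right; right; left; exact e1 (by norm_num) h
          · right; right; right; right; right; right; left; exact e1 (by norm_num) h
        · right; right; right; right; right; right; right; left; exact e1 (by norm_num) h
      · right; right; right; right; right; right; right; right; left; exact e1 (by norm_num) h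
    · right; right; right; right; right; right; right; right; right; exact e1 (by norm_num) h
  -- the ten parts
  let F : ConjClasses G → Fin 10 := Quotient.lift (fun g => slot (orderOf g))
    fun g h (hgh : IsConj g h) => by
      obtain ⟨a, rfl⟩ := isConj_iff.mp hgh
      show slot _ = slot _
      rw [orderOf_conj]
  have hfib : ∀ i, Nat.card {C // F C = i} = classCount G (fun g => slot (orderOf g) = i) :=
    fun i => Nat.card_congr (Equiv.subtypeEquivRight fun C => by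
      constructor
      · intro h
        obtain ⟨g, rfl⟩ := ConjClasses.mk_surjective C
        exact ⟨g, rfl, h⟩
      · rintro ⟨g, rfl, h⟩
        exact h)
  have f0 : classCount G (fun g => slot (orderOf g) = 0) = 9 := by
    refine Eq.trans (classCount_iff fun g => ?_) h11
    rw [(slot_spec (orderOf g)).1]
  have f1 : classCount G (fun g => slot (orderOf g) = 1) = 14 := by
    refine Eq.trans (classCount_iff fun g => ?_) h7
    rw [(slot_spec (orderOf g)).2.1]
    exact ⟨fun h => h.2, fun h => ⟨fun e => no711 g e h, h⟩⟩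
  have f2 : classCount G (fun g => slot (orderOf g) = 2) = 9 := by
    refine Eq.trans (classCount_iff fun g => ?_) h5
    rw [(slot_spec (orderOf g)).2.2.1]
    exact ⟨fun h => ⟨h.2.2, h.2.1⟩, fun h => ⟨fun e => no511 g e h.1, h.2, h.1⟩⟩
  have f3 : classCount G (fun g => slot (orderOf g) = 3) = 1 := by
    refine Eq.trans (classCount_iff fun g => ?_) h23
    rw [(slot_spec (orderOf g)).2.2.2.1]
    refine ⟨fun h => h.2.2.2, fun h => ?_⟩
    rw [o23 g h]
    norm_num
  have f4 : classCount G (fun g => slot (orderOf g) = 4) = 1 := by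
    refine Eq.trans (classCount_iff fun g => ?_) h29
    rw [(slot_spec (orderOf g)).2.2.2.2.1]
    refine ⟨fun h => h.2.2.2.2, fun h => ?_⟩
    rw [o29 g h]
    norm_num
  have f5 : classCount G (fun g => slot (orderOf g) = 5) = 3 := by
    refine Eq.trans (classCount_iff fun g => ?_) h31
    rw [(slot_spec (orderOf g)).2.2.2.2.2.1]
    refine ⟨fun h => h.2.2.2.2.2, fun h => ?_⟩
    rw [o31 g h]
    norm_num
  have f6 : classCount G (fun g => slot (orderOf g) = 6) = 3 := by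
    refine Eq.trans (classCount_iff fun g => ?_) h37
    rw [(slot_spec (orderOf g)).2.2.2.2.2.2.1]
    refine ⟨fun h => h.2.2.2.2.2.2, fun h => ?_⟩
    rw [o37 g h]
    norm_num
  have f7 : classCount G (fun g => slot (orderOf g) = 7) = 3 := by
    refine Eq.trans (classCount_iff fun g => ?_) h43
    rw [(slot_spec (orderOf g)).2.2.2.2.2.2.2.1]
    refine ⟨fun h => h.2.2.2.2.2.2.2, fun h => ?_⟩
    rw [o43 g h]
    norm_num
  have f8 : classCount G (fun g => slot (orderOf g) = 8) = 9 := by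
    refine Eq.trans (classCount_iff fun g => ?_) h3
    rw [(slot_spec (orderOf g)).2.2.2.2.2.2.2.2.1]
    constructor
    · rintro ⟨n11, n7, n5, n23, n29, n31, n37, n43, h⟩
      refine ⟨h, fun r hr hd => ?_⟩
      rcases hprimes g r hr hd with rfl | rfl | rfl | rfl | rfl | rfl | rfl | rfl | rfl | rfl <;>
        first | exact Or.inl rfl | exact Or.inr rfl | exact absurd hd (by assumption)
    · rintro ⟨h, ho⟩
      have hn : ∀ q, q.Prime → q ≠ 2 → q ≠ 3 → ¬ q ∣ orderOf g := fun q hq h2 h3 hd =>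
        (ho q hq hd).elim h2 h3
      refine ⟨?_, ?_, ?_, ?_, ?_, ?_, ?_, ?_, h⟩ <;>
        exact hn _ (by norm_num) (by norm_num) (by norm_num)
  have f9 : classCount G (fun g => slot (orderOf g) = 9) = 10 := by
    refine Eq.trans (classCount_iff fun g => ?_) h2
    rw [(slot_spec (orderOf g)).2.2.2.2.2.2.2.2.2]
    rw [twoElt_iff]
    constructor
    · rintro ⟨n11, n7, n5, n23, n29, n31, n37, n43, n3⟩ r hr hd
      rcases hprimes g r hr hd with rfl | rfl | rfl | rfl | rfl | rfl | rfl | rfl | rfl | rfl <;>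
        first | rfl | exact absurd hd (by assumption)
    · intro ho
      have hn : ∀ q, q.Prime → q ≠ 2 → ¬ q ∣ orderOf g := fun q hq h2 hd => h2 (ho q hq hd)
      refine ⟨?_, ?_, ?_, ?_, ?_, ?_, ?_, ?_, ?_⟩ <;>
        exact hn _ (by norm_num) (by norm_num)
  rw [← Nat.card_congr (Equiv.sigmaFiberEquiv F), Nat.card_sigma]
  simp only [hfib]
  rw [Fin.sum_univ_succ, Fin.sum_univ_succ, Fin.sum_univ_succ, Fin.sum_univ_succ, Fin.sum_univ_succ,
    Fin.sum_univ_succ, Fin.sum_univ_succ, Fin.sum_univ_succ, Fin.sum_univ_succ, Fin.sum_univ_succ,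
    Fin.sum_univ_zero]
  show classCount G (fun g => slot (orderOf g) = 0) + (classCount G (fun g => slot (orderOf g) = 1) +
    (classCount G (fun g => slot (orderOf g) = 2) + (classCount G (fun g => slot (orderOf g) = 3) +
    (classCount G (fun g => slot (orderOf g) = 4) + (classCount G (fun g => slot (orderOf g) = 5) +
    (classCount G (fun g => slot (orderOf g) = 6) + (classCount G (fun g => slot (orderOf g) = 7) +
    (classCount G (fun g => slot (orderOf g) = 8) + (classCount G (fun g => slot (orderOf g) = 9) +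
    0))))))))) = 62
  rw [f0, f1, f2, f3, f4, f5, f6, f7, f8, f9]

end Cfsg.Agent.Lib.J4Classes92
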