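import Cfsg.Agent.Lib.J4Classes92.Defs
import Cfsg.Agent.Lib.J4Classes92.Group
import Cfsg.Agent.Lib.J4Order.AzModelCount
import Cfsg.Agent.S5567

/-!
# The model of the hexad normaliser inside the centraliser of the involution, for counting classes
-/

set_option autoImplicit false
set_option linter.unusedSectionVars false

namespace Cfsg.Agent.Lib.J4Classes92

open Cfsg Cfsg.Agent.Lib.Golay Cfsg.Agent.Lib.J4Local Cfsg.Agent.Lib.J4Big Cfsg.Agent.Lib.J4Order
open AzPairs

variable {G : Type*} [Group G] [Finite G] {z p : G}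

theorem exists_model [IsSimpleGroup G] (hG : ¬ IsMulCommutative G)
    (hJ : Cfsg.IsOfJankoFourTypeAt z) (S : Setting z p) :
    (∃ e ∈ Q z, IsConj z e ∧ e ≠ z) ∧
      ∃ M : NModel z, M.V = vv S Cert2.normConfig.toBigConfig ∧ M.ψ 7 = z := by
  have F := autFacts
  obtain ⟨hc, h2, -⟩ := vv_facts S F Cert2.normConfig.toBigConfig
  obtain ⟨-, K, -, hKV, hsup, -⟩ := Cfsg.Agent.S5567.result hG ⟨z, hJ⟩ _
    ⟨⟨⟨fun a b => Subtype.ext (comm_of_sq h2 a.2 b.2)⟩⟩,
      fun v hv => by rw [pow_two]; exact h2 v hv⟩ hc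
  have hE := S.exists_fused hG F
  exact ⟨hE, exists_nModel_seven S F Cert2.normConfig Cert2.meetConfig hE hKV hsup⟩

theorem isTwoElt_iff {H : Type*} [Group H] {g : H} : IsTwoElt g ↔ ∃ k, g ^ 2 ^ k = 1 := by
  constructor
  · rintro ⟨k, hk⟩
    exact ⟨k, hk ▸ pow_orderOf_eq_one g⟩
  · rintro ⟨k, hk⟩
    obtain ⟨i, -, hi⟩ := (Nat.dvd_prime_pow Nat.prime_two).mp (orderOf_dvd_of_pow_eq_one hk)
    exact ⟨i, hi⟩

theorem isTwoElt_conj {H : Type*} [Group H] {g h : H} (hg : IsTwoElt g) :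
    IsTwoElt (h * g * h⁻¹) := by
  obtain ⟨k, hk⟩ := hg
  exact ⟨k, (orderOf_injective (MulAut.conj h).toMonoidHom (MulAut.conj h).injective g).trans hk⟩

theorem isTwoElt_coe {H : Type*} [Group H] {K : Subgroup H} {g : ↥K} :
    IsTwoElt g ↔ IsTwoElt (g : H) := by rw [IsTwoElt, IsTwoElt, Subgroup.orderOf_coe]

/-- A 2-element lies in a conjugate of a subgroup of odd index. -/
theorem exists_conj_mem_of_odd {H : Type*} [Group H] [Finite H] (K : Subgroup H)
    (hodd : ¬ 2 ∣ K.index) {g : H} (hg : IsTwoElt g) : ∃ h, h * g * h⁻¹ ∈ K := by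
  have := Fact.mk Nat.prime_two
  obtain ⟨k, hk⟩ := hg
  have hP : IsPGroup 2 ↥(Subgroup.zpowers g) := IsPGroup.of_card (n := k) (by rw [Nat.card_zpowers, hk])
  obtain ⟨x, hx⟩ := hP.nonempty_fixed_point_of_prime_not_dvd_card (H ⧸ K) hodd
  induction x using QuotientGroup.induction_on with
  | H a =>
    have h := hx ⟨g, Subgroup.mem_zpowers g⟩
    refine ⟨a⁻¹, ?_⟩
    have h' : (QuotientGroup.mk (g * a) : H ⧸ K) = QuotientGroup.mk a := h
    rw [inv_inv]
    have := inv_mem (QuotientGroup.eq.mp h')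
    simpa [mul_assoc] using this

/-- Half of the solutions of a condition invariant under the hexad normaliser are inner. -/
theorem half_inn (P : AutM22 → Prop) (hP : ∀ n ∈ NU, ∀ g, P (n * g) ↔ P g) :
    2 * Nat.card {g : AutM22 // g ∈ inn ∧ P g} = Nat.card {g : AutM22 // P g} := by
  classical
  obtain ⟨n, hn, hno⟩ : ∃ n ∈ NU, n ∉ inn := by
    by_contra h
    push Not at h
    have := Subgroup.card_dvd_of_le (show NU ≤ inn from h)
    rw [Cert2.card_norm, autFacts.card_inn] at this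
    norm_num at this
  have h2 : inn.index = 2 := by
    have h := Subgroup.card_mul_index inn
    rw [autFacts.card_inn, autFacts.card_aut] at h
    omega
  have hm : ∀ g, n * g ∈ inn ↔ g ∉ inn := fun g => by
    rw [Subgroup.mul_mem_iff_of_index_two h2]; simp [hno]
  have e : Nat.card {g : AutM22 // g ∉ inn ∧ P g} = Nat.card {g : AutM22 // g ∈ inn ∧ P g} :=
    Nat.card_congr ((Equiv.mulLeft n).subtypeEquiv fun g => by
      rw [Equiv.coe_mulLeft, hm, hP n hn])
  rw [two_mul]
  conv_lhs => arg 2; rw [← e]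
  rw [← Nat.card_sum]
  refine (Nat.card_congr ((Equiv.subtypeEquivRight (q := fun g =>
    (g ∈ inn ∧ P g) ∨ (g ∉ inn ∧ P g)) fun g => ?_).trans
    (subtypeOrEquiv _ _ ?_))).symm
  · by_cases hg : g ∈ inn <;> simp [hg]
  · rw [Pi.disjoint_iff]
    exact fun g => by rw [Prop.disjoint_iff]; tauto

theorem incid_inn (α : AutM22) :
    2 * Nat.card {g : AutM22 // g ∈ inn ∧ g * α * g⁻¹ ∈ NU} = incid α α := by
  rw [half_inn (fun g => g * α * g⁻¹ ∈ NU) fun n hn g => by
    rw [show n * g * α * (n * g)⁻¹ = n * (g * α * g⁻¹) * n⁻¹ by group,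
      Subgroup.mul_mem_cancel_right _ (inv_mem hn), Subgroup.mul_mem_cancel_left _ hn], incid]
  simp only [and_self]

theorem card_NU_inn : Nat.card {g : AutM22 // g ∈ inn ∧ g ∈ NU} = 5760 := by
  have h := half_inn (fun g => g ∈ NU) fun n hn g => Subgroup.mul_mem_cancel_left _ hn
  rw [show Nat.card {g : AutM22 // g ∈ NU} = 11520 from Cert2.card_norm] at h
  omega

variable (S : Setting z p) (M : NModel z) (hMV : M.V = vv S Cert2.normConfig.toBigConfig)
include hMV

theorem mem_mm_iff' (h : ↥(cz z)) : (h : G) ∈ M.mm ↔ S.phi h ∈ NU := by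
  rw [show (h : G) ∈ M.mm ↔ _ from J4Order.mem_mm_iff S M hMV, and_iff_right h.2, S.img_of_mem h.2]

/-- The elements carrying `u` into the hexad normaliser. -/
theorem card_into_mm (u : ↥(cz z)) :
    Nat.card {h : ↥(cz z) // h * u * h⁻¹ ∈ M.mm.subgroupOf (cz z)} =
      24576 * incid (S.phi u) (S.phi u) := by
  rw [show 24576 = Nat.card ↥S.phi.ker by rw [S.card_ker]; norm_num, incid,
    ← card_preimage S.phi S.phi_surjective]
  refine Nat.card_congr (Equiv.subtypeEquivRight fun h => ?_)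
  rw [Subgroup.mem_subgroupOf, mem_mm_iff' S M hMV, map_mul, map_mul, map_inv, and_self]

theorem card_mm : Nat.card ↥(M.mm.subgroupOf (cz z)) = 24576 * 11520 := by
  rw [show 24576 = Nat.card ↥S.phi.ker by rw [S.card_ker]; norm_num, ← Cert2.card_norm,
    ← card_preimage S.phi S.phi_surjective]
  refine Nat.card_congr (Equiv.subtypeEquivRight fun h => ?_)
  rw [Subgroup.mem_subgroupOf, mem_mm_iff' S M hMV]

theorem index_mm : (M.mm.subgroupOf (cz z)).index = 77 := by
  have h := Subgroup.card_mul_index (M.mm.subgroupOf (cz z))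
  rw [card_mm S M hMV, S.card_cz autFacts] at h
  omega

end Cfsg.Agent.Lib.J4Classes92
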