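import Cfsg.Agent.Lib.J4Classes92.TClasses
import Cfsg.Agent.Lib.J4Recog76.Classes
import Cfsg.Agent.S5568
import Cfsg.Agent.S5569

/-!
# Two classes of elements whose cyclic 2-group contains an involution of the second class
-/

set_option autoImplicit false
set_option linter.unusedSectionVars false

namespace Cfsg.Agent.Lib.J4Classes92

open Cfsg.Agent.Lib Cfsg.Agent.Lib.J4Local

variable {G : Type*} [Group G] [Finite G] [IsSimpleGroup G] {z p : G}

/-- The classes of 2-elements of the centraliser of an involution of the second class. -/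
theorem powCount_t (hG : ¬ IsMulCommutative G) (hJ : Cfsg.IsOfJankoFourTypeAt z) (S : Setting z p)
    {t : G} (ho : orderOf t = 2) (hzt : ¬ IsConj z t) : powCount t = 2 := by
  obtain ⟨-, M, -, -⟩ := exists_model hG hJ S
  have h1 : ¬ IsConj z (M.ψ 1) :=
    ((M.frame.mem_D 1 (by norm_num)).mpr (by decide +kernel)).2.2
  have ho1 : orderOf (M.ψ 1) = 2 := orderOf_eq_prime (by rw [pow_two, M.ψ_sq]) M.ψ_one_ne
  obtain ⟨a, b, -, -, -, hall⟩ := J4Recog76.two_classes hG S.ord_z hJ
    (fun V hV hc => (Cfsg.Agent.S5567.result hG ⟨z, hJ⟩ V hV hc).1)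
    (fun V hV hc => by
      obtain ⟨z', t, h1, h2, h3, h4, h5, h6, h7, -⟩ := Cfsg.Agent.S5568.result hG z hJ V hV hc
      exact ⟨z', t, h1, h2, h3, h4, h5, h6, h7⟩)
    (fun u hu hn => by
      obtain ⟨V, K, h1, -, -, h2, h3, -⟩ := Cfsg.Agent.S5569.result hG z hJ u hu hn
      exact ⟨V, h1, h2, h3⟩)
  have hc : IsConj (M.ψ 1) t := by
    rcases hall z S.ord_z with hza | hzb
    · exact ((hall _ ho1).resolve_left fun e => h1 (hza.trans e.symm)).trans
        ((hall t ho).resolve_left fun e => hzt (hza.trans e.symm)).symm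
    · exact ((hall _ ho1).resolve_right fun e => h1 (hzb.trans e.symm)).trans
        ((hall t ho).resolve_right fun e => hzt (hzb.trans e.symm)).symm
  obtain ⟨g, rfl⟩ := isConj_iff.mp hc
  rw [powCount_conj]
  exact powCount_psi_one M

end Cfsg.Agent.Lib.J4Classes92
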