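import Cfsg.Agent.Lib.J4Classes92.XClasses

/-!
# Nine classes of 2-elements centralise an element of order six
-/

set_option autoImplicit false
set_option linter.unusedSectionVars false
set_option linter.style.haveILetI false
set_option maxRecDepth 100000

namespace Cfsg.Agent.Lib.J4Classes92

open Cfsg Cfsg.Agent.Lib.Golay Cfsg.Agent.Lib.Computation Cfsg.Agent.Lib.J4Local Cfsg.Agent.Lib.J4Big Cfsg.Agent.Lib.J4Order

/-- The bounds on a centraliser which are used. -/
def lowB (j : Fin 13) : ℕ := if j.1 ∈ [2, 6, 7, 9, 11] then XData.cents.getD j.1 0 else 0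

/-- Possible numbers of normalised conjugates. -/
def fList (o : ℕ) : List ℕ := if o = 2 then [13] else if o = 4 then [1, 5] else [1]

/-- What holds of a set of classes fused with total weight `n`. -/
def CondX (o : ℕ) (A : Finset (Fin 13)) (f C : ℕ) : Prop :=
  C * (∑ k ∈ A, sizeJ k) = 34560 * f ∧ (o = 2 → ¬ 13 ∣ C) ∧ (o = 4 → ¬ 5 ∣ C) ∧
    (∀ k ∈ A, lowB k ≤ C) ∧ ((∃ k ∈ A, k.1 ∈ [7, 8]) → f = 5)

/-- The range of the totals. -/
def rangeX (o : ℕ) : ℕ × ℕ := if o = 2 then (195, 195) else if o = 4 then (720, 900) else (720, 720)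

/-- The classes of one image order. -/
def typeSet (o : ℕ) : Finset (Fin 13) := Finset.univ.filter fun j => ordJ j = o

/-- The classes of one image order as a list. -/
def typeL (o : ℕ) : List (Fin 13) := (List.finRange 13).filter fun j => Nat.beq (ordJ j) o

/-- The test of one possible fusion. -/
def fuseOk (o f : ℕ) (L : List (Fin 13)) : Bool :=
  forceNat ((L.map sizeJ).sum) fun n => forceNat (34560 * f / n) fun C =>
    Nat.beq n 0 || (Nat.ble (rangeX o).1 n && Nat.ble n (rangeX o).2) || !Nat.beq (n * C) (34560 * f) ||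
      (Nat.beq o 2 && Nat.beq (C % 13) 0) || (Nat.beq o 4 && Nat.beq (C % 5) 0) ||
      (L.any fun k => Nat.blt C (lowB k)) ||
      ((L.any fun k => Nat.beq k.1 7 || Nat.beq k.1 8) && !Nat.beq f 5)

theorem sums_ok : ([2, 4, 8].all fun o => (fList o).all fun f =>
    (typeL o).sublists.all (fuseOk o f)) = true := by
  decide +kernel

theorem range_of_cond {o : ℕ} (ho : o ∈ [2, 4, 8]) {A : Finset (Fin 13)} (hA : A ⊆ typeSet o)
    (hne : A.Nonempty) {f C : ℕ} (hf : f ∈ fList o) (h : CondX o A f C) :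
    (rangeX o).1 ≤ ∑ k ∈ A, sizeJ k ∧ ∑ k ∈ A, sizeJ k ≤ (rangeX o).2 := by
  classical
  obtain ⟨he, h13, h5, hlow, hroot⟩ := h
  set L := (typeL o).filter (fun k => decide (k ∈ A)) with hL
  have hmem : ∀ k, k ∈ L ↔ k ∈ A := fun k => by
    rw [hL, List.mem_filter, decide_eq_true_eq]
    refine ⟨fun h => h.2, fun h => ⟨List.mem_filter.mpr ⟨List.mem_finRange k, ?_⟩, h⟩⟩
    exact Nat.beq_eq.mpr (Finset.mem_filter.mp (hA h)).2
  have hnd : L.Nodup := ((List.nodup_finRange 13).filter _).filter _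
  have hsum : (L.map sizeJ).sum = ∑ k ∈ A, sizeJ k := by
    rw [← List.sum_toFinset _ hnd,
      show L.toFinset = A from Finset.ext fun k => by rw [List.mem_toFinset, hmem]]
  have hn : 0 < ∑ k ∈ A, sizeJ k := by
    have hpos : ∀ j : Fin 13, 0 < sizeJ j := by decide +kernel
    exact Finset.sum_pos (fun k _ => hpos k) hne
  have hC : 34560 * f / (∑ k ∈ A, sizeJ k) = C := by rw [← he, Nat.mul_div_cancel _ hn]
  have hs := sums_ok
  rw [List.all_eq_true] at hs
  have hs' := List.all_eq_true.mp (hs o ho) f hf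
  have hk := List.all_eq_true.mp hs' L (List.mem_sublists.mpr List.filter_sublist)
  simp only [fuseOk, forceNat_eq, hsum, hC, Bool.or_eq_true, Bool.and_eq_true, Bool.not_eq_true',
    ← Bool.not_eq_true, Nat.beq_eq, Nat.ble_eq, Nat.blt_eq, List.any_eq_true] at hk
  rcases hk with (((((h0 | h0) | h0) | ⟨ho', h0⟩) | ⟨ho', h0⟩) | ⟨k, hk, h0⟩) | ⟨⟨k, hk, hk'⟩, h0⟩
  · omega
  · exact h0
  · exact absurd (by rw [mul_comm]; exact he) h0
  · exact absurd (Nat.dvd_of_mod_eq_zero h0) (h13 ho')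
  · exact absurd (Nat.dvd_of_mod_eq_zero h0) (h5 ho')
  · exact absurd (hlow k ((hmem k).mp hk)) (Nat.not_le.mpr h0)
  · refine absurd (hroot ⟨k, (hmem k).mp hk, ?_⟩) h0
    rcases hk' with e | e <;> simp [e]

section
variable {G : Type*} [Group G] [Finite G] {z p : G}
variable (S : Setting z p) (M : NModel z)
variable (hMV : M.V = vv S Cert2.normConfig.toBigConfig) (h7 : M.ψ 7 = z)
variable (hE : ∃ e ∈ Q z, IsConj z e ∧ e ≠ z)
include hMV h7 hE

/-- The classes with one image order. -/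
theorem count_type {o : ℕ} (ho : o ∈ [2, 4, 8]) {lo hi : ℕ} (hr : rangeX o = (lo, hi)) :
    let n := classCount ↥(hx M) (fun g => IsTwoElt g ∧ orderOf (S.img (g : G)) = o)
    lo * n ≤ ∑ j ∈ typeSet o, sizeJ j ∧ ∑ j ∈ typeSet o, sizeJ j ≤ hi * n := by
  classical
  intro n
  have hn : n = Nat.card (Quotient ((IsConj.setoid ↥(hx M)).comap
      fun j : {j // j ∈ typeSet o} => repX S M hMV h7 hE j.1)) := by
    refine classCount_eq_quot _ (fun j => ⟨repX_two S M hMV h7 hE _, ?_⟩) fun g hg => ?_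
    · rw [img_rep]
      exact (Finset.mem_filter.mp j.2).2
    · obtain ⟨j, hj⟩ := exists_rep_conj S M hMV h7 hE hg.1
      refine ⟨⟨j, Finset.mem_filter.mpr ⟨Finset.mem_univ _, ?_⟩⟩, hj⟩
      rw [← img_rep S M hMV h7 hE j, ← isConj_img S M hMV h7 hE hj]
      exact hg.2
  rw [hn, ← Finset.sum_coe_sort (typeSet o) sizeJ]
  refine classes_bounds _ (fun j : {j // j ∈ typeSet o} => sizeJ j.1) fun i A hA => ?_
  have hAm : ∀ k, k ∈ A.map ⟨Subtype.val, Subtype.val_injective⟩ ↔
      IsConj (repX S M hMV h7 hE i.1) (repX S M hMV h7 hE k) := by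
    intro k
    constructor
    · intro hk
      obtain ⟨a, ha, rfl⟩ := Finset.mem_map.mp hk
      exact (hA a).mp ha
    · intro hk
      have hko : k ∈ typeSet o := Finset.mem_filter.mpr ⟨Finset.mem_univ _, by
        rw [← img_rep S M hMV h7 hE k, ← isConj_img S M hMV h7 hE hk, img_rep]
        exact (Finset.mem_filter.mp i.2).2⟩
      exact Finset.mem_map.mpr ⟨⟨k, hko⟩, (hA _).mpr hk, rfl⟩
  set B := A.map ⟨Subtype.val, Subtype.val_injective⟩ with hB
  have hiB : i.1 ∈ B := (hAm _).mpr (IsConj.refl _)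
  have hsub : B ⊆ typeSet o := fun k hk => by
    obtain ⟨a, -, rfl⟩ := Finset.mem_map.mp hk
    exact a.2
  have hsum : ∑ j ∈ A, sizeJ j.1 = ∑ k ∈ B, sizeJ k := by rw [hB, Finset.sum_map]; rfl
  rw [hsum]
  set u := repX S M hMV h7 hE i.1
  set α := S.img (u : G)
  set C := Nat.card ↥(Subgroup.centralizer ({u} : Set ↥(hx M))) with hCdef
  have hαo : orderOf α = o := (img_rep S M hMV h7 hE i.1).trans (Finset.mem_filter.mp i.2).2
  have hαi : α ∈ inn := img_inn S M hMV h7 hE u
  -- the number of conjugates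
  have hf : ∃ f ∈ fList o, AzPairs.incid α α = 11520 * f := by
    simp only [List.mem_cons, List.not_mem_nil, or_false] at ho
    rcases ho with rfl | rfl | rfl
    · refine ⟨13, List.mem_singleton.mpr rfl, (AzPairs.table_one ?_).1 hαi ?_⟩
      · rw [← pow_two, ← hαo, pow_orderOf_eq_one]
      · intro h; rw [h, orderOf_one] at hαo; norm_num at hαo
    · rcases incid_four hαi hαo with h | h
      · exact ⟨1, by simp [fList], h⟩
      · exact ⟨5, by simp [fList], h⟩
    · exact ⟨1, by simp [fList], (incid_eight hαo).1⟩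
  obtain ⟨f, hfm, hff⟩ := hf
  have hlow : ∀ k ∈ B, lowB k ≤ C := fun k hk => by
    rw [lowB]
    split_ifs with hk'
    · refine (cent_ge S M hMV h7 hE hk').trans (le_of_eq ?_)
      obtain ⟨g, hg⟩ := isConj_iff.mp ((hAm k).mp hk)
      rw [hCdef, ← hg]
      exact Nat.card_congr
        { toFun := fun c => ⟨g⁻¹ * c.1 * g, by
            have hc := Subgroup.mem_centralizer_singleton_iff.mp c.2
            rw [Subgroup.mem_centralizer_singleton_iff]
            calc g⁻¹ * c.1 * g * u = g⁻¹ * (c.1 * (g * u * g⁻¹)) * g := by group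
              _ = _ := by rw [hc]; group⟩
          invFun := fun c => ⟨g * c.1 * g⁻¹, by
            have hc := Subgroup.mem_centralizer_singleton_iff.mp c.2
            rw [Subgroup.mem_centralizer_singleton_iff]
            calc g * c.1 * g⁻¹ * (g * u * g⁻¹) = g * (c.1 * u) * g⁻¹ := by group
              _ = _ := by rw [hc]; group⟩
          left_inv := fun c => Subtype.ext (by dsimp; group)
          right_inv := fun c => Subtype.ext (by dsimp; group) }
    · exact Nat.zero_le _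
  have hcond : CondX o B f C := by
    refine ⟨class_eq S M hMV h7 hE i.1 B hAm hff, fun _ h13 => ?_, fun e h5 => ?_, hlow, ?_⟩
    · have := h13.trans (cent_dvd S M hMV h7 hE u)
      norm_num at this
    · exact five_not_dvd S M hMV h7 hE (hαo.trans e) h5
    · rintro ⟨k, hk, hk'⟩
      have h5 := incid_root S M hMV h7 hE k hk'
      obtain ⟨g, hg⟩ := isConj_iff.mp ((hAm k).mp hk)
      have hgk : S.img (repX S M hMV h7 hE k : G) = S.img (g : G) * α * (S.img (g : G))⁻¹ := by
        rw [← hg]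
        show S.img ((g : G) * (u : G) * (g : G)⁻¹) = _
        rw [S.img_mul (mul_mem g.2.1 u.2.1) (inv_mem g.2.1), S.img_mul g.2.1 u.2.1, S.img_inv g.2.1]
      rw [hgk, AzPairs.incid_conj, hff] at h5
      exact Nat.eq_of_mul_eq_mul_left (by norm_num) h5
  have := range_of_cond ho hsub ⟨_, hiB⟩ hfm hcond
  rw [hr] at this
  exact this

theorem img_ord_cases {g : ↥(hx M)} (hg : IsTwoElt g) :
    orderOf (S.img (g : G)) = 1 ∨ orderOf (S.img (g : G)) = 2 ∨ orderOf (S.img (g : G)) = 4 ∨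
      orderOf (S.img (g : G)) = 8 := by
  obtain ⟨j, hj⟩ := exists_rep_conj S M hMV h7 hE hg
  rw [isConj_img S M hMV h7 hE hj, img_rep]
  have hall : ∀ j, ordJ j = 1 ∨ ordJ j = 2 ∨ ordJ j = 4 ∨ ordJ j = 8 := by decide +kernel
  exact hall j

theorem count_hx : classCount ↥(hx M) IsTwoElt = 9 := by
  classical
  let P : ℕ → ↥(hx M) → Prop := fun o g => IsTwoElt g ∧ orderOf (S.img (g : G)) = o
  have hsplit : ∀ g, IsTwoElt g ↔ (P 1 g ∨ P 2 g) ∨ P 4 g ∨ P 8 g := fun g => by
    refine ⟨fun h => ?_, ?_⟩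
    · rcases img_ord_cases S M hMV h7 hE h with e | e | e | e
      exacts [Or.inl (Or.inl ⟨h, e⟩), Or.inl (Or.inr ⟨h, e⟩), Or.inr (Or.inl ⟨h, e⟩), Or.inr (Or.inr ⟨h, e⟩)]
    · rintro ((h | h) | h | h) <;> exact h.1
  have hne : ∀ {m n : ℕ}, m ≠ n → ∀ a b : ↥(hx M), P m a → P n b → ¬ IsConj a b :=
    fun hmn a b ha hb h => hmn (by rw [← ha.2, ← hb.2, isConj_img S M hMV h7 hE h])
  rw [classCount_congr hsplit, classCount_or, classCount_or (hne (m := 1) (n := 2) (by norm_num)),
    classCount_or (hne (m := 4) (n := 8) (by norm_num))]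
  swap
  · rintro a b (ha | ha) (hb | hb) <;> exact hne (by norm_num) a b ha hb
  have h1 : classCount ↥(hx M) (P 1) = 2 := by
    have e0 : repX S M hMV h7 hE 0 = 1 := by
      have h := XCalc.reps_ok
      simp only [XCalc.repsOk, Bool.and_eq_true, Nat.beq_eq] at h
      obtain ⟨⟨⟨⟨⟨hl, -⟩, ha⟩, hc⟩, -⟩, -⟩ := h
      have hlt : 0 < XData.reps.length := by rw [hl]; norm_num
      rw [List.getD_eq_getElem _ _ hlt, ← List.getD_eq_getElem _ (0, 0) hlt] at ha hc
      refine Subtype.ext ?_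
      show M.ev (XData.reps.getD 0 (0, 0)).1 (el (XData.reps.getD 0 (0, 0)).2) = 1
      rw [ha, hc, el_one, M.ev_one_eq, M.ψ_zero]
    have e1 : ((repX S M hMV h7 hE 1 : ↥(hx M)) : G) = z := by
      have h := XCalc.reps_ok
      simp only [XCalc.repsOk, Bool.and_eq_true, Nat.beq_eq] at h
      obtain ⟨⟨⟨⟨⟨hl, -⟩, -⟩, -⟩, ha⟩, hc⟩ := h
      have hlt : 1 < XData.reps.length := by rw [hl]; norm_num
      rw [List.getD_eq_getElem _ _ hlt, ← List.getD_eq_getElem _ (0, 0) hlt] at ha hc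
      show M.ev (XData.reps.getD 1 (0, 0)).1 (el (XData.reps.getD 1 (0, 0)).2) = z
      rw [ha, hc, el_one, M.ev_one_eq]
      exact h7
    have hord : ∀ i : Fin 2, ordJ ⟨i.1, by omega⟩ = 1 := by decide +kernel
    have hall : ∀ j, ordJ j = 1 → j.1 < 2 := by decide +kernel
    have hcov : ∀ g, P 1 g → ∃ i : Fin 2, IsConj g (repX S M hMV h7 hE ⟨i.1, by omega⟩) := by
      intro g hg
      obtain ⟨j, hj⟩ := exists_rep_conj S M hMV h7 hE hg.1
      exact ⟨⟨j.1, hall j (by
        rw [← img_rep S M hMV h7 hE j, ← isConj_img S M hMV h7 hE hj]; exact hg.2)⟩, hj⟩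
    rw [classCount_eq_card (fun i : Fin 2 => repX S M hMV h7 hE ⟨i.1, by omega⟩)
      (fun i => ⟨repX_two S M hMV h7 hE _, (img_rep S M hMV h7 hE _).trans (hord i)⟩) hcov
      (fun i j hij => ?_), Nat.card_fin]
    · have hone : ∀ x : ↥(hx M), IsConj 1 x → x = 1 := fun x h => isConj_one_right.mp h
      have hz1 : repX S M hMV h7 hE 1 ≠ 1 := fun h => S.z_ne_one (by
        rw [← e1, h]; rfl)
      fin_cases i <;> fin_cases j <;> first
        | rfl
        | (exfalso
           simp only [Fin.zero_eta, Fin.mk_one] at hij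
           first
            | exact hz1 (hone _ (e0 ▸ hij))
            | exact hz1 (hone _ (e0 ▸ hij.symm)))
  have h2 := count_type S M hMV h7 hE (o := 2) (by norm_num) (rfl : rangeX 2 = (195, 195))
  have h4 := count_type S M hMV h7 hE (o := 4) (by norm_num) (rfl : rangeX 4 = (720, 900))
  have h8 := count_type S M hMV h7 hE (o := 8) (by norm_num) (rfl : rangeX 8 = (720, 720))
  rw [show ∑ j ∈ typeSet 2, sizeJ j = 390 by decide +kernel] at h2
  rw [show ∑ j ∈ typeSet 4, sizeJ j = 2520 by decide +kernel] at h4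
  rw [show ∑ j ∈ typeSet 8, sizeJ j = 1440 by decide +kernel] at h8
  simp only [P] at h1 ⊢
  omega

end

variable {G : Type*} [Group G] [Finite G] [IsSimpleGroup G] {z p : G}

/-- The centraliser of an element of order six has nine classes of 2-elements. -/
theorem classCount_zp (hG : ¬ IsMulCommutative G) (hJ : Cfsg.IsOfJankoFourTypeAt z)
    (S : Setting z p) : classCount ↥(cz z ⊓ cz p) IsTwoElt = 9 := by
  obtain ⟨hE, M, hMV, h7⟩ := exists_model hG hJ S
  obtain ⟨g, -, hg⟩ := exists_move S M hMV h7 hE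
  rw [← count_hx S M hMV h7 hE]
  have hm : (hx M).map (MulAut.conj g⁻¹).toMonoidHom = cz z ⊓ cz p := by
    ext x
    constructor
    · rintro ⟨y, hy, rfl⟩
      simpa [mul_assoc] using (hg y).mp hy
    · intro hx'
      refine ⟨g * x * g⁻¹, (hg _).mpr ?_, by simp [mul_assoc]⟩
      rw [show g⁻¹ * (g * x * g⁻¹) * g = x by group]
      exact hx'
  refine (classCount_equiv (((MulAut.conj g⁻¹).subgroupMap (hx M)).trans
    (MulEquiv.subgroupCongr hm)) fun x => ?_).symm
  rw [isTwoElt_coe, isTwoElt_coe]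
  show _ ↔ IsTwoElt (g⁻¹ * (x : G) * g⁻¹⁻¹)
  refine ⟨fun h => isTwoElt_conj h, fun h => ?_⟩
  have := isTwoElt_conj (h := g) h
  simpa [mul_assoc] using this

end Cfsg.Agent.Lib.J4Classes92
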