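import Cfsg.Agent.Lib.J4Classes92.ZClasses
import Cfsg.Agent.Lib.J4Classes92.ClassList

/-!
# Seven classes of elements whose cyclic 2-group contains `z`
-/

set_option autoImplicit false
set_option linter.unusedSectionVars false
set_option linter.style.haveILetI false
set_option maxRecDepth 100000

namespace Cfsg.Agent.Lib.J4Classes92

open Cfsg Cfsg.Agent.Lib.Golay Cfsg.Agent.Lib.J4Local Cfsg.Agent.Lib.J4Big Cfsg.Agent.Lib.J4Order
open Cfsg.Agent.Lib.FusionAlperin.MathieuCert (canon)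
open AzPairs

attribute [local irreducible] ZData.reps ZData.parts

/-- The representatives of the seven classes. -/
def reps7 : Fin 7 → Fin 10 := ![0, 1, 3, 5, 7, 8, 9]

theorem types_ok :
    (∀ i j : Fin 7, (repD (reps7 i)).imgOrd = (repD (reps7 j)).imgOrd →
      (repD (reps7 i)).inner = (repD (reps7 j)).inner → i = j ∨ i = 0 ∨ j = 0) ∧
    (∀ j : Fin 10, (repD j).imgOrd = (repD 1).imgOrd → (repD j).inner = (repD 1).inner → j ≠ 0 →
      j = 1 ∨ j = 2) ∧
    (∀ j : Fin 10, (repD j).imgOrd = (repD 3).imgOrd → (repD j).inner = (repD 3).inner → j ≠ 0 →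
      j = 3 ∨ j = 4) ∧
    (∀ j : Fin 10, (repD j).imgOrd = (repD 5).imgOrd → (repD j).inner = (repD 5).inner → j ≠ 0 →
      j = 5 ∨ j = 6) ∧
    (repD 1).imgOrd = 1 ∧ (repD 3).imgOrd = 2 ∧ (repD 5).imgOrd = 4 ∧ (repD 9).imgOrd = 8 ∧
    (repD 3).inner = true ∧ (repD 5).inner = true ∧
    (∀ j : Fin 10, j ≠ 0 → ¬ ((repD j).code = oneCode)) ∧
    (∀ j : Fin 10, j = 2 ∨ j = 4 ∨ j = 6 ∨ ∃ i, reps7 i = j) := by
  refine ⟨?_, ?_, ?_, ?_, ?_, ?_, ?_, ?_, ?_, ?_, ?_, ?_⟩ <;> decide +kernel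

variable {G : Type*} [Group G] [Finite G] {z p : G}

section
variable (S : Setting z p) (M : NModel z)
variable (hMV : M.V = vv S Cert2.normConfig.toBigConfig) (h7 : M.ψ 7 = z)
variable (hE : ∃ e ∈ Q z, IsConj z e ∧ e ≠ z)
include hMV h7 hE

theorem repZ_zero : (repZ M h7 0 : G) = z := by
  have h := ZCalc.reps_ok
  simp only [ZCalc.repsOk, Bool.and_eq_true, Nat.beq_eq] at h
  obtain ⟨⟨⟨hl, -⟩, ha, hc⟩, -⟩ := h
  have hlt : 0 < ZData.reps.length := by rw [hl]; norm_num
  show M.ev (repD 0).vec (el (repD 0).code) = z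
  rw [show repD 0 = ZData.reps[0] from List.getD_eq_getElem _ _ hlt]
  rw [List.getD_eq_getElem _ _ hlt] at ha hc
  rw [ha, hc, el_one, M.ev_one_eq, h7]

/-- Only the first representative is conjugate to `z`. -/
theorem not_conj_zero {j : Fin 10} (hj : j ≠ 0) : ¬ IsConj (repZ M h7 j) (repZ M h7 0) := by
  intro h
  obtain ⟨g, hg⟩ := isConj_iff.mp h
  have hz : ((g * repZ M h7 j * g⁻¹ : ↥(cz z)) : G) = z := by rw [hg, repZ_zero S M hMV h7 hE]
  have hz' : (repZ M h7 j : G) = z := by
    calc (repZ M h7 j : G) = (g : G)⁻¹ * ((g * repZ M h7 j * g⁻¹ : ↥(cz z)) : G) * g := by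
          simp only [Subgroup.coe_mul, Subgroup.coe_inv]; group
      _ = z := by rw [hz, mul_assoc, ← (mem_cz.mp g.2).eq, inv_mul_cancel_left]
  have hd : M.ev (repD j).vec (el (repD j).code) = M.ev 7 1 :=
    hz'.trans (h7.symm.trans (M.ev_one_eq 7).symm)
  have he := (M.ev_inj (repD_good j).1 (by norm_num) hd).2
  rw [← el_one] at he
  have hk := repD_ok j
  simp only [ZCalc.repOk, Bool.and_eq_true, Nat.beq_eq] at hk
  refine types_ok.2.2.2.2.2.2.2.2.2.2.1 j hj ?_
  have hall : ∀ j, canon (repD j).code = (repD j).code := by decide +kernel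
  exact el_inj' (repD_good j).2.1 good_one (hall j) AzModel.canon_oneCode he

theorem img_ne_one {c : ↥(cz z)} {n : ℕ} (ho : orderOf c = n) (hn : Nat.Prime n)
    (hcop : ¬ n ∣ Nat.card ↥S.phi.ker) : orderOf (S.img (c : G)) = n := by
  rw [S.img_of_mem c.2]
  have hd : orderOf (S.phi c) ∣ n := ho ▸ orderOf_map_dvd _ _
  rcases (Nat.dvd_prime hn).mp hd with h | h
  · refine absurd ?_ hcop
    rw [orderOf_eq_one_iff] at h
    have := Subgroup.orderOf_dvd_natCard S.phi.ker (MonoidHom.mem_ker.mpr h)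
    rwa [ho] at this
  · exact h

/-- The elements of order four in the core form one class. -/
theorem merge_core : IsConj (repZ M h7 1) (repZ M h7 2) := by
  by_contra hab
  have h1 : S.img (repZ M h7 1 : G) = 1 := orderOf_eq_one_iff.mp
    ((img_type S M hMV h7 hE 1).1.trans types_ok.2.2.2.2.1)
  have hd := dvd_of_alone S M hMV h7 hE types_ok.2.1 (not_conj_zero S M hMV h7 hE (by decide)) hab
    (f := 77) (by rw [h1, incid_one])
  have := Fact.mk (by norm_num : Nat.Prime 7)
  obtain ⟨⟨c, hc⟩, ho⟩ := exists_prime_orderOf_dvd_card' (p := 7) ((by norm_num : 7 ∣ 77).trans hd)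
  rw [Subgroup.orderOf_mk] at ho
  have hcG : orderOf (c : G) = 7 := (Subgroup.orderOf_coe c).trans ho
  obtain ⟨p', S', hp'⟩ := J4Seven.exists_setting S autFacts c.2 hcG
  have T : J4Seven.Seven z p' (c : G) := ⟨S', mem_cz.mp c.2, hp', hcG⟩
  obtain ⟨k, hk⟩ := isTwoElt_iff.mp (repZ_zpow S M hMV h7 hE 1).1
  have hQ : (repZ M h7 1 : G) ∈ Q z := S.mem_Q_of_img_one (repZ M h7 1).2 h1 hk
  have hcomm : Commute (repZ M h7 1 : G) (c : G) :=
    (congrArg Subtype.val (Subgroup.mem_centralizer_singleton_iff.mp hc)).symm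
  rcases T.fix hQ hcomm with h | h
  · have hz := (repZ_zpow S M hMV h7 hE 1).2
    rw [h, Subgroup.zpowers_one_eq_bot, Subgroup.mem_bot] at hz
    exact S.z_ne_one hz
  · exact not_conj_zero S M hMV h7 hE (j := 1) (by decide)
      ((Subtype.ext (h.trans (repZ_zero S M hMV h7 hE).symm) : repZ M h7 1 = repZ M h7 0) ▸ IsConj.refl _)

/-- The elements of order four over the inner involutions form one class. -/
theorem merge_invol : IsConj (repZ M h7 3) (repZ M h7 4) := by
  by_contra hab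
  have ho := (img_type S M hMV h7 hE 3).1.trans types_ok.2.2.2.2.2.1
  have hi := (img_type S M hMV h7 hE 3).2.mpr types_ok.2.2.2.2.2.2.2.2.1
  have hd := dvd_of_alone S M hMV h7 hE types_ok.2.2.1 (not_conj_zero S M hMV h7 hE (by decide)) hab
    (f := 13) ((table_one (by rw [← pow_two, ← ho, pow_orderOf_eq_one])).1 hi fun h => by
      rw [h, orderOf_one] at ho; norm_num at ho)
  have := hd.trans (Subgroup.card_subgroup_dvd_card _)
  rw [S.card_cz autFacts] at this
  norm_num at this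

/-- The elements of order eight over the inner elements of order four form one class. -/
theorem merge_four : IsConj (repZ M h7 5) (repZ M h7 6) := by
  by_contra hab
  have ho := (img_type S M hMV h7 hE 5).1.trans types_ok.2.2.2.2.2.2.1
  have hi := (img_type S M hMV h7 hE 5).2.mpr types_ok.2.2.2.2.2.2.2.2.2.1
  have h9 := (img_type S M hMV h7 hE 9).1.trans types_ok.2.2.2.2.2.2.2.1
  have hsq : (repZ M h7 9 : G) * (repZ M h7 9 : G) = (repZ M h7 5 : G) := by
    show M.ev (repD 9).vec (el (repD 9).code) * M.ev (repD 9).vec (el (repD 9).code) =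
      M.ev (repD 5).vec (el (repD 5).code)
    obtain ⟨hv, hg, -⟩ := repD_good 9
    rw [M.ev_mul hv hv hg, ← el_mul hg hg]
    have h := ZCalc.reps_ok
    simp only [ZCalc.repsOk, Bool.and_eq_true, Nat.beq_eq] at h
    obtain ⟨⟨⟨hl, -⟩, -⟩, e1, e2⟩ := h
    have l5 : 5 < ZData.reps.length := by rw [hl]; norm_num
    have l9 : 9 < ZData.reps.length := by rw [hl]; norm_num
    rw [show repD 9 = ZData.reps[9] from List.getD_eq_getElem _ _ l9,
      show repD 5 = ZData.reps[5] from List.getD_eq_getElem _ _ l5]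
    rw [List.getD_eq_getElem _ _ l5, List.getD_eq_getElem _ _ l9] at e1 e2
    rw [e1, e2]
  have hd := dvd_of_alone S M hMV h7 hE types_ok.2.2.2.1 (not_conj_zero S M hMV h7 hE (by decide)) hab
    (f := 5) (by rw [← hsq, S.img_mul (repZ M h7 9).2 (repZ M h7 9).2]; exact (incid_eight h9).2)
  have := Fact.mk (by norm_num : Nat.Prime 5)
  obtain ⟨⟨c, hc⟩, hoc⟩ := exists_prime_orderOf_dvd_card' (p := 5) hd
  rw [Subgroup.orderOf_mk] at hoc
  have hfive := img_ne_one S M hMV h7 hE hoc (by norm_num) (by rw [S.card_ker]; norm_num)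
  refine autFacts.five_not_commute _ hfive (S.img (repZ M h7 5 : G) * S.img (repZ M h7 5 : G))
    (mul_mem hi hi) ?_ ?_
  · rw [← pow_two, orderOf_pow' _ (by norm_num), ho]; norm_num
  · have h := congrArg Subtype.val (Subgroup.mem_centralizer_singleton_iff.mp hc)
    have h' : Commute (S.img (c : G)) (S.img (repZ M h7 5 : G)) := by
      show _ = _
      rw [← S.img_mul c.2 (repZ M h7 5).2, ← S.img_mul (repZ M h7 5).2 c.2]
      exact congrArg S.img h
    exact h'.mul_right h'

theorem count_cz : powCount z = 7 := by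
  rw [powCount]
  refine (classCount_eq_card (fun i : Fin 7 => repZ M h7 (reps7 i))
    (fun i => repZ_zpow S M hMV h7 hE _) (fun g hg => ?_) (fun i j hij => ?_)).trans (Nat.card_fin 7)
  · obtain ⟨h, hh⟩ := exists_conj_mem_of_odd (sylT M) (by rw [index_sylT S M h7]; norm_num)
      (g := g) (isTwoElt_coe.mpr hg.1)
    obtain ⟨j, s, -, e⟩ := exists_label S M hMV h7 hE hh (isZPow_conj S M hMV h7 hE hg h).2
    have hc : IsConj g (repZ M h7 j) :=
      (isConj_iff.mpr ⟨h, rfl⟩).trans (isConj_iff.mpr ⟨s, e⟩).symm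
    rcases types_ok.2.2.2.2.2.2.2.2.2.2.2 j with rfl | rfl | rfl | ⟨i, rfl⟩
    · exact ⟨1, hc.trans (merge_core S M hMV h7 hE).symm⟩
    · exact ⟨2, hc.trans (merge_invol S M hMV h7 hE).symm⟩
    · exact ⟨3, hc.trans (merge_four S M hMV h7 hE).symm⟩
    · exact ⟨i, hc⟩
  · obtain ⟨t1, t2⟩ := type_eq S M hMV h7 hE hij
    rcases types_ok.1 i j t1 t2 with h | rfl | rfl
    · exact h
    · by_contra hne
      have hj : reps7 j ≠ 0 := by
        have hall : ∀ j : Fin 7, j ≠ 0 → reps7 j ≠ 0 := by decide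
        exact hall j fun h => hne h.symm
      exact not_conj_zero S M hMV h7 hE hj hij.symm
    · by_contra hne
      have hi : reps7 i ≠ 0 := by
        have hall : ∀ j : Fin 7, j ≠ 0 → reps7 j ≠ 0 := by decide
        exact hall i hne
      exact not_conj_zero S M hMV h7 hE hi hij

end

variable [IsSimpleGroup G]

/-- The classes of 2-elements of `C(z)` whose cyclic group contains `z`. -/
theorem powCount_z (hG : ¬ IsMulCommutative G) (hJ : Cfsg.IsOfJankoFourTypeAt z) (S : Setting z p) :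
    powCount z = 7 := by
  obtain ⟨hE, M, hMV, h7⟩ := exists_model hG hJ S
  exact count_cz S M hMV h7 hE

end Cfsg.Agent.Lib.J4Classes92
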