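import Cfsg.Agent.Lib.J4Order.AzModelCalc
import Cfsg.Agent.Lib.J4Local.SylData
import Cfsg.Agent.Lib.J4Classes92.TData

/-!
# The checks on the 2-elements centralising the first basis vector
-/

set_option autoImplicit false
set_option maxRecDepth 100000

namespace Cfsg.Agent.Lib.J4Classes92.TCalc

open Cfsg.Agent.Lib.Golay Cfsg.Agent.Lib.Computation
open Cfsg.Agent.Lib.J4Order
open Cfsg.Agent.Lib.FusionAlperin.MathieuCert (canon)

open AtCalc AzModelCalc TData

/-- The free part and the decompositions of the basis. -/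
def splitT (c : ℕ) (r : Row) : Bool :=
  forceL (imgL c) fun L => r.free.all (fun a => Nat.blt a 2048) && (List.range 11).all fun i =>
    forceNat (getW 11 r.pre i) fun b => forceNat (getW 11 r.rest i) fun m =>
      Nat.blt m (2 ^ r.free.length) && Nat.beq (b ^^^ combine L b ^^^ combine r.free m) (2 ^ i)

/-- A conjugator of the duad stabiliser. -/
def hitT (c : ℕ) (r : Row) (h : ℕ × ℕ × ℕ × ℕ) : Bool :=
  Nat.blt h.1 (2 ^ r.free.length) && Nat.blt h.2.1 2 && Nat.blt h.2.2.1 2048 &&
    Cfsg.Agent.Lib.J4Local.AutModel.inBig h.2.2.2 &&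
    forceNat (combine r.free h.1) fun a =>
      forceNat (bif Nat.beq h.2.1 0 then 1 else rep.1) fun v =>
        forceNat (bif Nat.beq h.2.1 0 then oneCode else rep.2.1) fun d =>
          Nat.beq (h.2.2.1 ^^^ act h.2.2.2 v) (a ^^^ act c h.2.2.1) &&
            Nat.beq (mulP 24 5 h.2.2.2 d) (mulP 24 5 c h.2.2.2)

/-- A row. -/
def rowT (c : ℕ) (r : Row) : Bool :=
  splitT c r && ordOk c r.ord && r.hits.all (hitT c r) && forceL (normL c r.ord) fun L =>
    (List.range (2 ^ r.free.length)).all fun m =>
      !Nat.beq (combine L (combine r.free m)) 1 || r.hits.any fun h => Nat.beq h.1 m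

/-- All rows. -/
def tableT : Bool :=
  Nat.beq TData.rows.length 256 && (List.zip J4Local.SylData.els TData.rows).all fun q => rowT q.1 q.2

/-- The representative of the elements of order four. -/
def repT : Bool :=
  Cfsg.Agent.Lib.J4Local.AutModel.inBig rep.2.1 && Nat.blt rep.1 2048 && ordOk rep.2.1 rep.2.2 &&
    Nat.beq rep.2.2 2 && Nat.beq (normV (imgL rep.2.1) rep.2.2 rep.1) 1

theorem table_ok : tableT = true := by decide +kernel

theorem rep_ok : repT = true := by decide +kernel

end Cfsg.Agent.Lib.J4Classes92.TCalc
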