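import Cfsg.Agent.Lib.J4Classes92.Model
import Cfsg.Agent.Lib.J4Classes92.TCalc
import Cfsg.Agent.Lib.J4Classes92.ClassList
import Cfsg.Agent.Lib.J4Local.AutSylow

/-!
# The centraliser of the first basis vector and its 2-elements powering to it
-/

set_option autoImplicit false
set_option linter.unusedSectionVars false
set_option linter.style.haveILetI false
set_option maxRecDepth 100000

namespace Cfsg.Agent.Lib.J4Classes92

open Cfsg Cfsg.Agent.Lib.Golay Cfsg.Agent.Lib.Computation Cfsg.Agent.Lib.J4Local Cfsg.Agent.Lib.J4Big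
open Cfsg.Agent.Lib.J4Order
open AtCalc AzModelCalc TCalc

attribute [local irreducible] oneCode mulP normV TData.rows SylData.els SylData.rows rowT
  J4Big.Cocode.piL

/-- The code of an index of the Sylow subgroup of the duad stabiliser. -/
def sylC (i : ℕ) : ℕ := SylData.els.getD i 0

theorem good_of_inBig {c : ℕ} (h : AutModel.inBig c = true) :
    Good c ∧ gperm c ∈ AutModel.big :=
  ⟨⟨(AutModel.inBig_spec h).1, (AutModel.inBig_spec h).2.1⟩, (AutModel.inBig_spec h).2⟩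

theorem el_in_big {c : ℕ} (h : AutModel.inBig c = true) :
    (J4Order.el c : Equiv.Perm GolayPt) ∈ AutModel.big := by
  rw [el_coe (good_of_inBig h).1.2]; exact (good_of_inBig h).2

theorem sylC_spec {i : ℕ} (hi : i < 256) : AutModel.inBig (sylC i) = true :=
  (AutSylow.els_spec hi).1

theorem sylC_mul {i j : ℕ} (hi : i < 256) (hj : j < 256) :
    ∃ k < 256, J4Order.el (sylC i) * J4Order.el (sylC j) = J4Order.el (sylC k) := by
  obtain ⟨hk, e⟩ := AutSylow.model.row i hi j hj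
  refine ⟨_, hk, ?_⟩
  rw [AutSylow.val, AutSylow.val, AutSylow.val, AutSylow.aut_eq (AutSylow.els_spec hk).1,
    AutSylow.aut_eq (AutSylow.els_spec hi).1, AutSylow.aut_eq (AutSylow.els_spec hj).1, ← map_mul] at e
  have e' := congrArg Subtype.val (AutModel.toAut.injective e)
  refine Subtype.ext ?_
  rw [Subgroup.coe_mul, el_coe (good_of_inBig (sylC_spec hi)).1.2,
    el_coe (good_of_inBig (sylC_spec hj)).1.2, el_coe (good_of_inBig (sylC_spec hk)).1.2]
  exact e'.symm

theorem sylC_zero : J4Order.el (sylC 0) = 1 := by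
  have h := AutSylow.elsOk_eq
  simp only [AutSylow.elsOk, Bool.and_eq_true, Nat.beq_eq] at h
  rw [sylC, h.1.2, J4Order.el_one]

theorem sylC_inj {i j : ℕ} (hi : i < 256) (hj : j < 256)
    (h : J4Order.el (sylC i) = J4Order.el (sylC j)) : i = j := by
  refine AutSylow.model.inj i hi j hj ?_
  rw [AutSylow.val, AutSylow.val, AutSylow.aut_eq (AutSylow.els_spec hi).1,
    AutSylow.aut_eq (AutSylow.els_spec hj).1]
  refine congrArg AutModel.toAut (Subtype.ext ?_)
  have h' := congrArg Subtype.val h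
  rwa [el_coe (good_of_inBig (sylC_spec hi)).1.2, el_coe (good_of_inBig (sylC_spec hj)).1.2] at h'

variable {G : Type*} [Group G] [Finite G] {z : G}
variable (M : NModel z)

theorem ev_mem_c1 {a : ℕ} {σ : ↥M24} (h : (σ : Equiv.Perm GolayPt) ∈ AutModel.big) :
    M.ev a σ ∈ cz (M.ψ 1) := mem_cz.mpr (M.commute_one_iff.mpr h)

theorem card_c1 : Nat.card ↥(cz (M.ψ 1)) = 2048 * 887040 := by
  rw [← autFacts.card_aut, ← Nat.card_congr AutModel.toAut.toEquiv,
    show (2048 : ℕ) = Nat.card (Fin 2048) from (Nat.card_fin _).symm, ← Nat.card_prod]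
  refine (Nat.card_eq_of_bijective (fun q : Fin 2048 × ↥AutModel.big =>
    (⟨M.ev q.1.1 ⟨q.2.1, (AutModel.mem_big.mp q.2.2).1⟩,
      ev_mem_c1 M (σ := ⟨q.2.1, (AutModel.mem_big.mp q.2.2).1⟩) q.2.2⟩ : ↥(cz (M.ψ 1)))) ⟨fun q q' e => ?_, fun x => ?_⟩).symm
  · obtain ⟨e1, e2⟩ := M.ev_inj q.1.2 q'.1.2 (congrArg Subtype.val e)
    exact Prod.ext (Fin.ext e1) (Subtype.ext (congrArg Subtype.val e2 :))
  · obtain ⟨a, ha, σ, hσ, e⟩ := M.exists_ev_cent (mem_cz.mp x.2)
    exact ⟨(⟨a, ha⟩, ⟨σ.1, hσ⟩), Subtype.ext e.symm⟩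

/-- The Sylow subgroup in coordinates. -/
noncomputable def sylU : Subgroup ↥(cz (M.ψ 1)) where
  carrier := {x | ∃ a < 2048, ∃ i < 256, (x : G) = M.ev a (J4Order.el (sylC i))}
  one_mem' := ⟨0, by norm_num, 0, by norm_num, by rw [sylC_zero, M.ev_one_eq, M.ψ_zero]; rfl⟩
  mul_mem' := by
    rintro x y ⟨a, ha, i, hi, ex⟩ ⟨b, hb, j, hj, ey⟩
    obtain ⟨k, hk, e⟩ := sylC_mul hi hj
    exact ⟨_, Nat.xor_lt_two_pow (n := 11) ha (act_lt (sylC i) b), k, hk, by
      rw [Subgroup.coe_mul, ex, ey, M.ev_mul ha hb (good_of_inBig (sylC_spec hi)).1, e]⟩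
  inv_mem' := by
    intro x hx
    have hpow : ∀ n : ℕ, ∃ a < 2048, ∃ i < 256,
        ((x ^ n : ↥(cz (M.ψ 1))) : G) = M.ev a (J4Order.el (sylC i)) := by
      intro n
      induction n with
      | zero => exact ⟨0, by norm_num, 0, by norm_num, by
          rw [pow_zero, sylC_zero, M.ev_one_eq, M.ψ_zero]; rfl⟩
      | succ n ih =>
        obtain ⟨a, ha, i, hi, ex⟩ := ih
        obtain ⟨b, hb, j, hj, ey⟩ := hx
        obtain ⟨k, hk, e⟩ := sylC_mul hi hj
        exact ⟨_, Nat.xor_lt_two_pow (n := 11) ha (act_lt (sylC i) b), k, hk, by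
          rw [pow_succ, Subgroup.coe_mul, ex, ey, M.ev_mul ha hb (good_of_inBig (sylC_spec hi)).1, e]⟩
    have h1 : x⁻¹ = x ^ (orderOf x - 1) := by
      rw [inv_eq_iff_mul_eq_one, ← pow_succ', Nat.sub_add_cancel (orderOf_pos x), pow_orderOf_eq_one]
    rw [h1]
    exact hpow _

theorem card_sylU : Nat.card ↥(sylU M) = 2 ^ 19 := by
  rw [show (2 : ℕ) ^ 19 = Nat.card (Fin 2048 × Fin 256) by
    rw [Nat.card_prod, Nat.card_fin, Nat.card_fin]; norm_num]
  refine (Nat.card_eq_of_bijective (fun q : Fin 2048 × Fin 256 =>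
    (⟨⟨M.ev q.1.1 (J4Order.el (sylC q.2.1)), ev_mem_c1 M (el_in_big (sylC_spec q.2.2))⟩,
      q.1.1, q.1.2, q.2.1, q.2.2, rfl⟩ : ↥(sylU M))) ⟨fun q q' e => ?_, fun x => ?_⟩).symm
  · obtain ⟨e1, e2⟩ := M.ev_inj q.1.2 q'.1.2
      (congrArg (fun x : ↥(sylU M) => ((x : ↥(cz (M.ψ 1))) : G)) e)
    exact Prod.ext (Fin.ext e1) (Fin.ext (sylC_inj q.2.2 q'.2.2 e2))
  · obtain ⟨a, ha, i, hi, e⟩ := x.2
    exact ⟨(⟨a, ha⟩, ⟨i, hi⟩), Subtype.ext (Subtype.ext e.symm)⟩

theorem index_sylU : (sylU M).index = 3465 := by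
  have h := Subgroup.card_mul_index (sylU M)
  rw [card_sylU, card_c1] at h
  omega

/-- The representative of order four. -/
noncomputable def repT4 : G := M.ev TData.rep.1 (J4Order.el TData.rep.2.1)

/-- A lift powering to the basis vector is conjugate to it or to the representative of order four. -/
theorem exists_label_c1 {x : ↥(cz (M.ψ 1))} (hx : x ∈ sylU M)
    (hz : M.ψ 1 ∈ Subgroup.zpowers (x : G)) :
    ∃ g ∈ cz (M.ψ 1), g * M.ψ 1 * g⁻¹ = x ∨ g * repT4 M * g⁻¹ = x := by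
  obtain ⟨a, ha, i, hi, ex⟩ := hx
  have h := TCalc.table_ok
  simp only [TCalc.tableT, Bool.and_eq_true, List.all_eq_true, Nat.beq_eq] at h
  obtain ⟨hlen, hall⟩ := h
  have he := AutSylow.elsOk_eq
  simp only [AutSylow.elsOk, Bool.and_eq_true, Nat.beq_eq] at he
  have hi1 : i < SylData.els.length := by omega
  have hi2 : i < TData.rows.length := by omega
  set r := TData.rows[i] with hr
  have hc : sylC i = SylData.els[i] := List.getD_eq_getElem _ _ hi1
  have hrow : rowT (sylC i) r = true := by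
    rw [hc, hr]
    exact hall _ (List.mem_iff_getElem.mpr ⟨i, by simp [List.length_zip]; omega, List.getElem_zip⟩)
  set c := sylC i
  obtain ⟨hg, -⟩ := good_of_inBig (sylC_spec hi)
  have eforce : ∀ {α : Type} (l : List ℕ) (k : List ℕ → α), forceL l k = k l := by
    intro α l
    induction l with
    | nil => intro k; rfl
    | cons x l ih => intro k; rw [forceL, forceNat_eq, ih]
  unfold rowT at hrow
  simp only [splitT, eforce, forceNat_eq, Bool.and_eq_true, List.all_eq_true, List.mem_range,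
    Bool.or_eq_true, Bool.not_eq_true', ← Bool.not_eq_true, Nat.blt_eq, Nat.beq_eq,
    List.any_eq_true] at hrow
  obtain ⟨⟨⟨⟨hfree, hs⟩, hord⟩, hhit⟩, hcov⟩ := hrow
  -- decomposition
  set L := (List.range 11).map (getW 11 r.pre) with hL
  set K := (List.range 11).map (getW 11 r.rest) with hK
  set b := combine L a
  set m := combine K a
  set R := combine r.free m
  have hb : b < 2048 := combine_lt (fun x hx => by
    rw [hL, List.mem_map] at hx
    obtain ⟨i, -, rfl⟩ := hx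
    exact getW_eq 11 _ _ ▸ Nat.mod_lt _ (Nat.two_pow_pos 11)) a
  have hm : m < 2 ^ r.free.length := by
    have hK' : ∀ x ∈ K, x < 2 ^ r.free.length := fun x hx => by
      rw [hK, List.mem_map] at hx
      obtain ⟨j, hj, rfl⟩ := hx
      exact (hs j (List.mem_range.mp hj)).1
    suffices ∀ (l : List ℕ) (a : ℕ), (∀ x ∈ l, x < 2 ^ r.free.length) →
        combine l a < 2 ^ r.free.length from this K a hK'
    intro l
    induction l with
    | nil => intro a _; rw [combine]; exact Nat.two_pow_pos _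
    | cons x l ih =>
      intro a hx
      rw [combine]
      refine Nat.xor_lt_two_pow ?_ (ih _ fun y hy => hx y (List.mem_cons_of_mem _ hy))
      split
      · exact hx x List.mem_cons_self
      · exact Nat.two_pow_pos _
  have hR : R < 2048 := combine_lt (fun x hx => hfree x hx) _
  have hsplit : ∀ (f g : ℕ → ℕ) (l : List ℕ) (a : ℕ),
      combine (l.map fun x => f x ^^^ g x) a = combine (l.map f) a ^^^ combine (l.map g) a := by
    intro f g l
    induction l with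
    | nil => intro a; simp [combine]
    | cons x l ih =>
      intro a
      simp only [List.map_cons, combine, ih]
      split <;> ac_rfl
  have ea : a = b ^^^ R ^^^ J4Order.act c b := by
    have e : (List.range 11).map (2 ^ ·) = (List.range 11).map
        (fun i => getW 11 r.pre i ^^^ combine (imgL c) (getW 11 r.pre i) ^^^
          combine r.free (getW 11 r.rest i)) :=
      List.map_congr_left fun j hj => ((hs j (List.mem_range.mp hj)).2).symm
    have h0 := AtNum.combine_id a ha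
    rw [e, hsplit, hsplit] at h0
    have e1 := AtNum.combine_map (f := fun b => combine (imgL c) b) (combine_zero _)
      (fun x y => combine_xor _ x y) L a
    have e2 := AtNum.combine_map (f := fun b => combine r.free b) (combine_zero _)
      (fun x y => combine_xor _ x y) K a
    simp only [hL, hK, List.map_map, Function.comp_def] at e1 e2
    rw [← hL, e1, e2] at h0
    rw [J4Order.act]
    conv_lhs => rw [← h0]
    simp only [R, b, m, ← hK, ← hL]
    ac_rfl
  have hψ : M.ψ b ∈ cz (M.ψ 1) := mem_cz.mpr (M.frame.comm (M.ψ_mem _) (M.ψ_mem _))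
  have hitem : M.ψ b * M.ev R (J4Order.el c) * (M.ψ b)⁻¹ = (x : G) := by
    rw [ex, M.conj_ev_psi hR hb hg, ← ea]
  have hzR : M.ψ 1 ∈ Subgroup.zpowers (M.ev R (J4Order.el c)) := by
    obtain ⟨k, hk⟩ := Subgroup.mem_zpowers_iff.mp hz
    refine Subgroup.mem_zpowers_iff.mpr ⟨k, ?_⟩
    rw [← hitem, conj_zpow] at hk
    rw [show M.ev R (J4Order.el c) ^ k =
      (M.ψ b)⁻¹ * (M.ψ b * M.ev R (J4Order.el c) ^ k * (M.ψ b)⁻¹) * M.ψ b by group, hk,
      mul_assoc, M.frame.comm (M.ψ_mem 1) (M.ψ_mem b), inv_mul_cancel_left]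
  have h1' := (M.one_mem_zpowers_iff hg hR (NModel.orderOf_el hg hord)).mp hzR
  obtain ⟨t, ht, htm⟩ := (hcov m hm).resolve_left (fun h => h (by rw [AtNum.normL_eq _ _ hR]; exact h1'))
  have ht' := hhit t ht
  simp only [hitT, forceNat_eq, Bool.and_eq_true, Nat.blt_eq, Nat.beq_eq] at ht'
  obtain ⟨⟨⟨⟨-, hj⟩, hb'⟩, hw⟩, h1, h2⟩ := ht'
  rw [htm] at h1
  obtain ⟨hwg, -⟩ := good_of_inBig hw
  refine ⟨M.ψ b * M.ev t.2.2.1 (J4Order.el t.2.2.2), mul_mem hψ (ev_mem_c1 M (el_in_big hw)), ?_⟩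
  have key : ∀ {v d : ℕ}, v < 2048 → Good d →
      t.2.2.1 ^^^ J4Order.act t.2.2.2 v = R ^^^ J4Order.act c t.2.2.1 →
      mulP 24 5 t.2.2.2 d = mulP 24 5 c t.2.2.2 →
      M.ψ b * M.ev t.2.2.1 (J4Order.el t.2.2.2) * M.ev v (J4Order.el d) *
        (M.ψ b * M.ev t.2.2.1 (J4Order.el t.2.2.2))⁻¹ = x := by
    intro v d hv hd e1 e2
    have e : M.ev t.2.2.1 (J4Order.el t.2.2.2) * M.ev v (J4Order.el d) *
        (M.ev t.2.2.1 (J4Order.el t.2.2.2))⁻¹ = M.ev R (J4Order.el c) := by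
      rw [mul_inv_eq_iff_eq_mul, M.ev_mul hb' hv hwg, M.ev_mul hR hb' hg, ← el_mul hwg hd,
        ← el_mul hg hwg, e1, e2]
    rw [← hitem, ← e]
    group
  rcases (show t.2.1 = 0 ∨ t.2.1 = 1 by omega) with h0 | h0
  · left
    rw [h0, show Nat.beq 0 0 = true from rfl, cond_true] at h1 h2
    have := key (by norm_num) good_one h1 h2
    rwa [J4Order.el_one, M.ev_one_eq] at this
  · right
    rw [h0, show Nat.beq 1 0 = false from rfl, cond_false] at h1 h2
    have hrep := TCalc.rep_ok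
    simp only [TCalc.repT, Bool.and_eq_true, Nat.blt_eq] at hrep
    exact key hrep.1.1.1.2 (good_of_inBig hrep.1.1.1.1).1 h1 h2

/-- Two classes. -/
theorem powCount_psi_one : powCount (M.ψ 1) = 2 := by
  have hrep := TCalc.rep_ok
  simp only [TCalc.repT, Bool.and_eq_true, Nat.blt_eq, Nat.beq_eq] at hrep
  obtain ⟨⟨⟨⟨hb, hv⟩, hord⟩, ho2⟩, hn⟩ := hrep
  obtain ⟨hg, -⟩ := good_of_inBig hb
  have ho := NModel.orderOf_el hg hord
  have h4m : repT4 M ∈ cz (M.ψ 1) := ev_mem_c1 M (el_in_big hb)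
  have hsq : repT4 M * repT4 M = M.ψ 1 := by
    rw [← pow_two, repT4, M.pow_ev hg hv, ← ho2, ← ho, pow_orderOf_eq_one, ho, hn, M.ev_one_eq]
  have h2 : M.ψ 1 ^ 2 = 1 := by rw [pow_two, M.ψ_sq]
  let r : Fin 2 → ↥(cz (M.ψ 1)) :=
    ![⟨M.ψ 1, mem_cz.mpr (Commute.refl _)⟩, ⟨repT4 M, h4m⟩]
  rw [powCount]
  refine (classCount_eq_card r (fun i => ?_) (fun g hg => ?_) (fun i j hij => ?_)).trans (Nat.card_fin 2)
  · fin_cases i
    · exact ⟨isTwoElt_iff.mpr ⟨1, by simpa [r] using h2⟩, Subgroup.mem_zpowers _⟩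
    · refine ⟨isTwoElt_iff.mpr ⟨2, ?_⟩, ?_⟩
      · show repT4 M ^ 2 ^ 2 = 1
        rw [show (2 : ℕ) ^ 2 = 2 * 2 by norm_num, pow_mul, pow_two (repT4 M), hsq, h2]
      · show M.ψ 1 ∈ Subgroup.zpowers (repT4 M)
        rw [← hsq]
        exact mul_mem (Subgroup.mem_zpowers _) (Subgroup.mem_zpowers _)
  · obtain ⟨h, hh⟩ := exists_conj_mem_of_odd (sylU M) (by rw [index_sylU]; norm_num)
      (g := g) (isTwoElt_coe.mpr hg.1)
    have hz : M.ψ 1 ∈ Subgroup.zpowers ((h * g * h⁻¹ : ↥(cz (M.ψ 1))) : G) := by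
      obtain ⟨k, hk⟩ := Subgroup.mem_zpowers_iff.mp hg.2
      refine Subgroup.mem_zpowers_iff.mpr ⟨k, ?_⟩
      show ((h : G) * g * (h : G)⁻¹) ^ k = M.ψ 1
      rw [conj_zpow, hk, (mem_cz.mp h.2).eq, mul_inv_cancel_right]
    obtain ⟨w, hw, e⟩ := exists_label_c1 M hh hz
    have key : ∀ {y : ↥(cz (M.ψ 1))}, w * (y : G) * w⁻¹ = ((h * g * h⁻¹ : ↥(cz (M.ψ 1))) : G) →
        IsConj g y := fun {y} ey =>
      (isConj_iff.mpr ⟨h, rfl⟩).trans (isConj_iff.mpr ⟨⟨w, hw⟩, Subtype.ext ey⟩).symm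
    rcases e with e | e
    · exact ⟨0, key e⟩
    · exact ⟨1, key e⟩
  · have hne : ¬ IsConj (r 0) (r 1) := fun hc => by
      obtain ⟨g, hg⟩ := isConj_iff.mp hc
      have e : (g : G) * M.ψ 1 * (g : G)⁻¹ = repT4 M := congrArg Subtype.val hg
      rw [(mem_cz.mp g.2).eq, mul_inv_cancel_right] at e
      rw [← e, M.ψ_sq] at hsq
      exact M.ψ_one_ne hsq.symm
    fin_cases i <;> fin_cases j <;> first
      | rfl
      | (exfalso; first | exact hne hij | exact hne hij.symm)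

end Cfsg.Agent.Lib.J4Classes92
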