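import Cfsg.Agent.Lib.J4Order.AzModelCalc
import Cfsg.Agent.Lib.J4Classes92.XData

/-!
# The checks on the 2-elements of the centraliser of the element of order three
-/

set_option autoImplicit false

namespace Cfsg.Agent.Lib.J4Classes92.XCalc

open Cfsg.Agent.Lib.Golay Cfsg.Agent.Lib.Computation
open Cfsg.Agent.Lib.J4Big.Cocode (spanL noRep)
open Cfsg.Agent.Lib.J4Order
open Cfsg.Agent.Lib.FusionAlperin.MathieuCert (canon)
open AtCalc AzModelCalc AzModelData XData

/-- Strictly increasing. -/
def incOk (l : List ℕ) : Bool := (List.zip l l.tail).all fun q => Nat.blt q.1 q.2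

/-- A permutation of the centraliser. -/
def xOk (c : ℕ) : Bool :=
  stabOk c && Nat.beq (canon c) c && Nat.beq (mulP 24 5 c k3) (mulP 24 5 k3 c)

/-- The sixteenth power. -/
def p16 (c : ℕ) : ℕ :=
  forceNat (mulP 24 5 c c) fun d => forceNat (mulP 24 5 d d) fun e =>
    forceNat (mulP 24 5 e e) fun f => mulP 24 5 f f

/-- All permutations of the centraliser. -/
def codes : List ℕ := tab.map Prod.fst ++ oddC

/-- The permutations. -/
def codesOk : Bool :=
  Nat.beq codes.length 1080 && incOk (tab.map Prod.fst) && incOk oddC && witC.all xOk &&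
    tab.all (fun q => xOk q.1 && Nat.beq (p16 q.1) oneCode) &&
    oddC.all fun c => xOk c && forceNat (p16 c) fun y => !Nat.beq y oneCode && Nat.beq (p16 y) y

/-- The fixed vectors. -/
def fixL : List ℕ := spanL fixB

/-- The fixed vectors are fixed and distinct. -/
def fixOk : Bool :=
  Nat.beq fixL.length 32 && noRep fixL && fixL.all fun a => Nat.blt a 2048 && Nat.beq (act k3 a) a

/-- Conjugation of a representative to a lift. -/
def entryOk (a c e : ℕ) : Bool :=
  let j := e % 16
  let b := fixL.getD (e / 16 % 32) 0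
  Nat.blt j 13 && Nat.blt (e / 512) witC.length &&
    forceNat (witC.getD (e / 512) 0) fun w =>
      Nat.beq (b ^^^ act w (reps.getD j (0, 0)).1) (a ^^^ act c b) &&
        Nat.beq (mulP 24 5 w (reps.getD j (0, 0)).2) (mulP 24 5 c w)

/-- The classes of all lifts over one permutation. -/
def rowOk (q : ℕ × List ℕ) : Bool :=
  Nat.beq q.2.length 32 && (List.zip fixL q.2).all fun x => entryOk x.1 q.1 x.2

/-- The number of lifts in a class. -/
def cnt (j : ℕ) : ℕ := ((tab.flatMap Prod.snd).filter fun e => Nat.beq (e % 16) j).length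

/-- The sizes. -/
def sizesOk : Bool := (List.range 13).all fun j => Nat.beq (cnt j) (sizes.getD j 0)

/-- The number of elements commuting with a representative. -/
def centN (r : ℕ × ℕ) : ℕ :=
  (codes.map fun c => bif Nat.beq (mulP 24 5 c r.2) (mulP 24 5 r.2 c) then
    forceNat (act c r.1) fun x => (fixL.filter fun b => Nat.beq (b ^^^ x) (r.1 ^^^ act r.2 b)).length
  else 0).sum

/-- The centralisers which are used. -/
def centsOk : Bool := [2, 6, 7, 9, 11].all fun j => Nat.beq (centN (reps.getD j (0, 0))) (cents.getD j 0)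

/-- A representative and the order of its image. -/
def repOk (r : ℕ × ℕ) (o : ℕ) : Bool :=
  fixL.any (Nat.beq r.1) && codes.any (Nat.beq r.2) && Nat.beq (p16 r.2) oneCode &&
    inW (normV (imgL r.2) o r.1) && fixC (powC r.2 o) &&
    (Nat.beq o 1 || !(inW (normV (imgL r.2) (o / 2) r.1) && fixC (powC r.2 (o / 2))))

/-- The representatives, and those which are 1 and the central involution. -/
def repsOk : Bool :=
  Nat.beq reps.length 13 && (List.range 13).all (fun j => repOk (reps.getD j (0, 0)) (imgOrd.getD j 0)) &&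
    Nat.beq (reps.getD 0 (1, 1)).1 0 && Nat.beq (reps.getD 0 (1, 1)).2 oneCode &&
    Nat.beq (reps.getD 1 (1, 1)).1 7 && Nat.beq (reps.getD 1 (1, 1)).2 oneCode

/-- Roots of the images. -/
def rootsOk : Bool :=
  roots.all fun q => forceNat (reps.getD q.1 (0, 0)).1 fun a =>
    fixL.any (Nat.beq q.2.1) && codes.any (Nat.beq q.2.2) && Nat.beq (mulP 24 5 q.2.2 q.2.2) (reps.getD q.1 (0, 0)).2 &&
      (Nat.beq (q.2.1 ^^^ act q.2.2 q.2.1) a || Nat.beq (q.2.1 ^^^ act q.2.2 q.2.1) (a ^^^ 7))

end Cfsg.Agent.Lib.J4Classes92.XCalc
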