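import Cfsg.Agent.Lib.J4Classes92.XCalc

/-!
# Running the checks on the centraliser of the element of order three
-/

set_option autoImplicit false
set_option maxRecDepth 100000

namespace Cfsg.Agent.Lib.J4Classes92.XCalc

theorem codes_ok : codesOk = true := by decide +kernel

theorem fix_ok : fixOk = true := by decide +kernel

theorem rows_ok : XData.tab.all rowOk = true := by decide +kernel

theorem sizes_ok : sizesOk = true := by decide +kernel

theorem cents_ok : centsOk = true := by decide +kernel

theorem reps_ok : repsOk = true := by decide +kernel

theorem roots_ok : rootsOk = true := by decide +kernel

end Cfsg.Agent.Lib.J4Classes92.XCalc
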