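import Cfsg.Agent.Lib.J4Classes92.XElems
import Cfsg.Agent.Lib.J4Classes92.Hexads
import Cfsg.Agent.Lib.J4Classes92.ClassList

/-!
# The classes of 2-elements of the centraliser of an element of order six
-/

set_option autoImplicit false
set_option linter.unusedSectionVars false
set_option linter.style.haveILetI false
set_option maxRecDepth 100000

namespace Cfsg.Agent.Lib.J4Classes92

open Cfsg Cfsg.Agent.Lib.Golay Cfsg.Agent.Lib.Computation Cfsg.Agent.Lib.J4Local Cfsg.Agent.Lib.J4Big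
open Cfsg.Agent.Lib.J4Order
open Cfsg.Agent.Lib.FusionAlperin.MathieuCert (canon)
open AtCalc AzModelCalc AzModelData XCalc

attribute [local irreducible] oneCode mulP canon powC normV fixL XData.tab XData.oddC codes
  XData.witC XData.reps coreMask kerList J4Big.Cocode.piL p16 centN rowOk

/-- The class of an index. -/
noncomputable def lab (i : Idx) : Fin 13 :=
  if h : entI i % 16 < 13 then ⟨entI i % 16, h⟩ else 0

/-- The orders of the images. -/
def ordJ (j : Fin 13) : ℕ := XData.imgOrd.getD j.1 0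

/-- The sizes. -/
def sizeJ (j : Fin 13) : ℕ := XData.sizes.getD j.1 0

theorem rep_spec (j : Fin 13) : (XData.reps.getD j.1 (0, 0)).1 ∈ fixL ∧
    (XData.reps.getD j.1 (0, 0)).2 ∈ codes ∧
    repOk (XData.reps.getD j.1 (0, 0)) (ordJ j) = true := by
  have h := XCalc.reps_ok
  simp only [XCalc.repsOk, Bool.and_eq_true, List.all_eq_true, List.mem_range] at h
  have hj := h.1.1.1.1.2 j.1 j.2
  refine ⟨?_, ?_, hj⟩ <;> simp only [repOk, Bool.and_eq_true, List.any_eq_true, Nat.beq_eq] at hj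
  · obtain ⟨x, hx, e⟩ := hj.1.1.1.1.1
    rw [e]; exact hx
  · obtain ⟨x, hx, e⟩ := hj.1.1.1.1.2
    rw [e]; exact hx

theorem sum_getD_eq_countP (q : ℕ → Bool) : ∀ (L : List ℕ) {n : ℕ}, L.length = n →
    (∑ k : Fin n, if q (L.getD k.1 0) = true then 1 else 0) = L.countP q
  | [], n, h => by subst h; simp
  | a :: L, n, h => by
    subst h
    rw [show ∑ k : Fin (a :: L).length, (if q ((a :: L).getD k.1 0) = true then 1 else 0) =
      ∑ k : Fin (L.length + 1), (if q ((a :: L).getD k.1 0) = true then 1 else 0) from rfl,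
      Fin.sum_univ_succ]
    simp only [Fin.val_zero, Fin.val_succ, List.getD_cons_zero, List.getD_cons_succ]
    rw [sum_getD_eq_countP q L rfl, List.countP_cons]
    ring

theorem card_lab (j : Fin 13) :
    Nat.card {i : Idx // lab i = j} = sizeJ j := by
  classical
  have hs := sizes_ok
  simp only [sizesOk, List.all_eq_true, List.mem_range, Nat.beq_eq] at hs
  rw [sizeJ, ← hs j.1 j.2, Nat.card_eq_fintype_card, Fintype.card_subtype, Finset.card_filter,
    Fintype.sum_prod_type]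
  have hlab : ∀ i : Idx, (lab i = j) ↔ Nat.beq (entI i % 16) j.1 = true := fun i => by
    have h := (entI_ok i).1
    rw [entryOk] at h
    simp only [Bool.and_eq_true, Nat.blt_eq] at h
    rw [lab, dif_pos h.1.1, Fin.ext_iff, Nat.beq_eq]
  simp only [hlab]
  rw [cnt, List.filter_flatMap, List.length_flatMap, ← List.sum_ofFn]
  congr 1
  refine List.ext_getElem (by simp) fun n h1 h2 => ?_
  rw [List.getElem_ofFn, List.getElem_map]
  have hn : n < XData.tab.length := by simpa using h1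
  have hl : (XData.tab[n]).2.length = 32 := (entI_ok (⟨n, hn⟩, 0)).2
  have h := sum_getD_eq_countP (fun e => Nat.beq (e % 16) j.1) (XData.tab[n]).2 hl
  rw [← List.countP_eq_length_filter, ← h]
  refine Finset.sum_congr rfl fun k _ => ?_
  congr 1

variable {G : Type*} [Group G] [Finite G] {z p : G}
variable (S : Setting z p) (M : NModel z)
variable (hMV : M.V = vv S Cert2.normConfig.toBigConfig) (h7 : M.ψ 7 = z)
variable (hE : ∃ e ∈ Q z, IsConj z e ∧ e ≠ z)
include hMV h7 hE

/-- A representative. -/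
noncomputable def repX (j : Fin 13) : ↥(hx M) :=
  mkX S M hMV h7 hE (⟨_, (rep_spec j).2.1⟩, ⟨_, (rep_spec j).1⟩)

theorem eltI_conj (i : Idx) :
    IsConj (repX S M hMV h7 hE (lab i)) (eltI S M hMV h7 hE i) := by
  have h := (entI_ok i).1
  rw [entryOk] at h
  simp only [forceNat_eq, Bool.and_eq_true, Nat.blt_eq, Nat.beq_eq] at h
  obtain ⟨⟨hj, hw⟩, h1, h2⟩ := h
  have hl : (lab i).1 = entI i % 16 := by rw [lab, dif_pos hj]
  have hb : fixL.getD (entI i / 16 % 32) 0 ∈ fixL := by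
    have hlt : entI i / 16 % 32 < fixL.length := by rw [fixL_len.1]; omega
    rw [List.getD_eq_getElem _ _ hlt]
    exact List.getElem_mem _
  have hW := wit_good hw
  obtain ⟨hrg, -, -, -⟩ := codes_good (rep_spec (lab i)).2.1
  obtain ⟨hcg, -, -, -⟩ := codes_good (codeI_mem i)
  refine isConj_iff.mpr ⟨⟨_, (ev_mem_hx S M hMV h7 hE hW hb).1⟩, ?_⟩
  rw [mul_inv_eq_iff_eq_mul]
  refine Subtype.ext ?_
  show M.ev _ (el _) * M.ev (XData.reps.getD (lab i).1 (0, 0)).1 (el (XData.reps.getD (lab i).1 (0, 0)).2) =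
    M.ev (vecI i) (el (codeI i)) * M.ev _ (el _)
  rw [M.ev_mul (fixL_spec hb).1 (fixL_spec (rep_spec (lab i)).1).1 hW.1,
    M.ev_mul (fixL_spec (vecI_mem i)).1 (fixL_spec hb).1 hcg, ← el_mul hW.1 hrg,
    ← el_mul hcg hW.1, hl, h1, h2]

theorem repX_mem (j : Fin 13) : ((repX S M hMV h7 hE j : ↥(hx M)) : G) ∈ M.mm :=
  (ev_mem_hx S M hMV h7 hE (codes_good (rep_spec j).2.1) (rep_spec j).1).2

theorem repX_two (j : Fin 13) : IsTwoElt (repX S M hMV h7 hE j) := by
  have h := (rep_spec j).2.2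
  simp only [repOk, Bool.and_eq_true, Nat.beq_eq] at h
  obtain ⟨hg, -, -, -⟩ := codes_good (rep_spec j).2.1
  have ha := (fixL_spec (rep_spec j).1).1
  rw [isTwoElt_coe, isTwoElt_iff]
  refine ⟨5, ?_⟩
  show M.ev _ (el _) ^ 2 ^ 5 = 1
  rw [show (2 : ℕ) ^ 5 = 16 * 2 by norm_num, pow_mul, M.pow_ev hg ha, ← (p16_spec hg).2,
    h.1.1.1.2, el_one, M.ev_one_eq, pow_two, M.ψ_sq]

theorem img_rep (j : Fin 13) :
    orderOf (S.img ((repX S M hMV h7 hE j : ↥(hx M)) : G)) = ordJ j := by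
  have h := (rep_spec j).2.2
  simp only [repOk, Bool.and_eq_true, Bool.or_eq_true, Bool.not_eq_true', ← Bool.not_eq_true,
    Nat.beq_eq] at h
  obtain ⟨⟨⟨-, h1⟩, h2⟩, h3⟩ := h
  obtain ⟨hg, hs, -, -⟩ := codes_good (rep_spec j).2.1
  have ha := (fixL_spec (rep_spec j).1).1
  have hi := fun n => (M.img_pow_iff h7 S hMV hE hg hs ha n).1
  have e1 := (hi (ordJ j)).mpr ⟨h1, h2⟩
  obtain ⟨k, hk⟩ : ∃ k, ordJ j = 2 ^ k := by
    have hall : ∀ j, ∃ k ∈ Finset.range 4, ordJ j = 2 ^ k := by decide +kernel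
    obtain ⟨k, -, hk⟩ := hall j
    exact ⟨k, hk⟩
  rcases h3 with h3 | h3
  · rw [h3] at e1 ⊢
    rw [pow_one] at e1
    rw [orderOf_eq_one_iff]
    exact e1
  rw [hk] at e1 ⊢
  have e2 := mt (hi (ordJ j / 2)).mp h3
  rcases k with _ | k
  · refine absurd ?_ e2
    rw [hk, show (2 : ℕ) ^ 0 / 2 = 0 by norm_num, pow_zero]
  · rw [hk, pow_succ, Nat.mul_div_cancel _ (by norm_num : 0 < 2)] at e2
    exact orderOf_eq_prime_pow e2 e1

theorem isConj_img {x y : ↥(hx M)} (h : IsConj x y) :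
    orderOf (S.img (x : G)) = orderOf (S.img (y : G)) := by
  obtain ⟨g, rfl⟩ := isConj_iff.mp h
  show _ = orderOf (S.img ((g : G) * x * (g : G)⁻¹))
  rw [S.img_mul (mul_mem g.2.1 x.2.1) (inv_mem g.2.1), S.img_mul g.2.1 x.2.1, S.img_inv g.2.1]
  exact (orderOf_injective (MulAut.conj _).toMonoidHom (MulAut.conj _).injective _).symm

/-- Every 2-element is conjugate to a representative. -/
theorem exists_rep_conj {g : ↥(hx M)} (hg : IsTwoElt g) :
    ∃ j, IsConj g (repX S M hMV h7 hE j) := by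
  obtain ⟨h, hh⟩ := exists_conj_mem_of_odd (M.mm.subgroupOf (hx M))
    (by rw [index_sx S M hMV h7 hE]; norm_num) hg
  obtain ⟨i, hi⟩ := exists_eltI S M hMV h7 hE (Subgroup.mem_subgroupOf.mp hh) (isTwoElt_conj hg)
  exact ⟨lab i, (isConj_iff.mpr ⟨h, rfl⟩).trans (hi ▸ (eltI_conj S M hMV h7 hE i).symm)⟩

/-- The conjugates of a representative, by classes of the list. -/
theorem card_conj (j : Fin 13) (A : Finset (Fin 13))
    (hA : ∀ k, k ∈ A ↔ IsConj (repX S M hMV h7 hE j) (repX S M hMV h7 hE k)) :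
    Nat.card {x : ↥(hx M) // x ∈ M.mm.subgroupOf (hx M) ∧ IsConj (repX S M hMV h7 hE j) x} =
      ∑ k ∈ A, sizeJ k := by
  classical
  have e : Nat.card {i : Idx // lab i ∈ A} = Nat.card
      {x : ↥(hx M) // x ∈ M.mm.subgroupOf (hx M) ∧ IsConj (repX S M hMV h7 hE j) x} := by
    refine Nat.card_eq_of_bijective (fun i => ⟨eltI S M hMV h7 hE i.1,
      Subgroup.mem_subgroupOf.mpr
        (ev_mem_hx S M hMV h7 hE (codes_good (codeI_mem i.1)) (vecI_mem i.1)).2,
      ((hA _).mp i.2).trans (eltI_conj S M hMV h7 hE i.1)⟩) ⟨fun a b h => Subtype.ext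
        (eltI_inj S M hMV h7 hE (congrArg Subtype.val h)), fun x => ?_⟩
    obtain ⟨i, hi⟩ := exists_eltI S M hMV h7 hE (Subgroup.mem_subgroupOf.mp x.2.1) (by
      obtain ⟨g, hg⟩ := isConj_iff.mp x.2.2
      rw [← hg]
      exact isTwoElt_conj (repX_two S M hMV h7 hE j))
    exact ⟨⟨i, (hA _).mpr (x.2.2.trans (hi ▸ (eltI_conj S M hMV h7 hE i).symm))⟩, Subtype.ext hi⟩
  rw [← e, Nat.card_eq_fintype_card, Fintype.card_subtype,
    Finset.card_eq_sum_card_fiberwise (f := lab) (t := A)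
      (s := Finset.univ.filter fun i => lab i ∈ A)
      fun i hi => (Finset.mem_filter.mp hi).2]
  refine Finset.sum_congr rfl fun k hk => ?_
  rw [← card_lab k, Nat.card_eq_fintype_card, Fintype.card_subtype]
  congr 1
  ext i
  simp only [Finset.mem_filter, Finset.mem_univ, true_and]
  exact ⟨fun h => h.2, fun h => ⟨h ▸ hk, h⟩⟩

/-- The class equation at a representative. -/
theorem class_eq (j : Fin 13) (A : Finset (Fin 13))
    (hA : ∀ k, k ∈ A ↔ IsConj (repX S M hMV h7 hE j) (repX S M hMV h7 hE k)) {f : ℕ}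
    (hf : AzPairs.incid (S.img (repX S M hMV h7 hE j : G)) (S.img (repX S M hMV h7 hE j : G)) =
      11520 * f) :
    Nat.card ↥(Subgroup.centralizer ({repX S M hMV h7 hE j} : Set ↥(hx M))) *
      ∑ k ∈ A, sizeJ k = 34560 * f := by
  rw [← card_conj S M hMV h7 hE j A hA, ← card_into, card_into_sx S M hMV h7 hE, hf]
  ring

/-- The lower bound on a centraliser from the count in the hexad normaliser. -/
theorem cent_ge {j : Fin 13} (hj : j.1 ∈ [2, 6, 7, 9, 11]) :
    XData.cents.getD j.1 0 ≤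
      Nat.card ↥(Subgroup.centralizer ({repX S M hMV h7 hE j} : Set ↥(hx M))) := by
  classical
  haveI := Fintype.ofFinite G
  have h := cents_ok
  simp only [centsOk, List.all_eq_true, Nat.beq_eq] at h
  rw [← h j.1 hj]
  set r := XData.reps.getD j.1 (0, 0)
  obtain ⟨hr, -, -, -⟩ := codes_good (rep_spec j).2.1
  have hra := (fixL_spec (rep_spec j).1).1
  let L := codes.flatMap fun c =>
    (if Nat.beq (mulP 24 5 c r.2) (mulP 24 5 r.2 c) then
      fixL.filter (fun b => Nat.beq (b ^^^ act c r.1) (r.1 ^^^ act r.2 b)) else []).map fun b => (c, b)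
  have hmem : ∀ q ∈ L, q.1 ∈ codes ∧ q.2 ∈ fixL ∧ mulP 24 5 q.1 r.2 = mulP 24 5 r.2 q.1 ∧
      q.2 ^^^ act q.1 r.1 = r.1 ^^^ act r.2 q.2 := by
    rintro ⟨c, b⟩ hq
    simp only [L, List.mem_flatMap, List.mem_map, Prod.mk.injEq] at hq
    obtain ⟨c', hc', b', hb', rfl, rfl⟩ := hq
    split_ifs at hb' with h1
    · simp only [List.mem_filter, Nat.beq_eq] at hb'
      exact ⟨hc', hb'.1, Nat.beq_eq.mp h1, hb'.2⟩
    · simp at hb'
  have hnd : L.Nodup := by
    refine List.nodup_flatMap.mpr ⟨fun c _ => ?_, codes_nodup.imp fun {a b} hab q h1 h2 => ?_⟩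
    · refine List.Nodup.map (fun a b h => (Prod.mk.injEq _ _ _ _ ▸ h).2) ?_
      split_ifs
      · exact fixL_len.2.filter _
      · exact List.nodup_nil
    · rw [List.mem_map] at h1 h2
      obtain ⟨_, -, e1⟩ := h1
      obtain ⟨_, -, e⟩ := h2
      exact hab (congrArg Prod.fst (e1.trans e.symm))
  have hlen : centN r = L.length := by
    rw [List.length_flatMap, centN]
    refine congrArg List.sum (List.map_congr_left fun c _ => ?_)
    rw [List.length_map]
    cases Nat.beq (mulP 24 5 c r.2) (mulP 24 5 r.2 c) <;> simp [forceNat_eq]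
  rw [hlen, ← List.toFinset_card_of_nodup hnd, Nat.card_eq_fintype_card, ← Finset.card_univ]
  refine Finset.card_le_card_of_injOn (fun q => if hq : q ∈ L then
      ⟨mkX S M hMV h7 hE (⟨q.1, (hmem q hq).1⟩, ⟨q.2, (hmem q hq).2.1⟩), ?_⟩ else 1)
    (fun _ _ => Finset.mem_univ _) fun a ha b hb e => ?_
  · obtain ⟨hc, hb, h1, h2⟩ := hmem q hq
    obtain ⟨hcg, -, -, -⟩ := codes_good hc
    rw [Subgroup.mem_centralizer_singleton_iff]
    refine Subtype.ext ?_
    show M.ev q.2 (el q.1) * M.ev r.1 (el r.2) = M.ev r.1 (el r.2) * M.ev q.2 (el q.1)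
    rw [M.ev_mul (fixL_spec hb).1 hra hcg, M.ev_mul hra (fixL_spec hb).1 hr, ← el_mul hcg hr,
      ← el_mul hr hcg, h1, h2]
  · simp only [Finset.mem_coe, List.mem_toFinset] at ha hb
    simp only [dif_pos ha, dif_pos hb, Subtype.mk.injEq] at e
    have := mkX_inj S M hMV h7 hE e
    simp only [Prod.mk.injEq, Subtype.mk.injEq] at this
    exact Prod.ext this.1 this.2

theorem cent_dvd (u : ↥(hx M)) :
    Nat.card ↥(Subgroup.centralizer ({u} : Set ↥(hx M))) ∣ 2661120 := by
  rw [← card_hx S M hMV h7 hE]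
  exact Subgroup.card_subgroup_dvd_card _

theorem img_inn (u : ↥(hx M)) : S.img (u : G) ∈ inn := by
  rw [← phx_coe S M hMV h7 hE u]
  exact (phx S M hMV h7 hE u).2

/-- No element of order five centralises a lift of an element of order four. -/
theorem five_not_dvd {u : ↥(hx M)} (h4 : orderOf (S.img (u : G)) = 4) :
    ¬ 5 ∣ Nat.card ↥(Subgroup.centralizer ({u} : Set ↥(hx M))) := by
  intro h5
  have := Fact.mk (by norm_num : Nat.Prime 5)
  obtain ⟨⟨c, hc⟩, ho⟩ := exists_prime_orderOf_dvd_card' (p := 5) h5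
  rw [Subgroup.orderOf_mk] at ho
  have hd : orderOf (phx S M hMV h7 hE c) ∣ 5 := ho ▸ orderOf_map_dvd _ _
  have hne : phx S M hMV h7 hE c ≠ 1 := fun h => by
    have := Subgroup.orderOf_dvd_natCard (phx S M hMV h7 hE).ker (MonoidHom.mem_ker.mpr h)
    rw [ho, card_ker_phx S M hMV h7 hE] at this
    norm_num at this
  have hfive : orderOf (S.img (c : G)) = 5 := by
    rw [← phx_coe S M hMV h7 hE c, Subgroup.orderOf_coe]
    rcases (Nat.dvd_prime (by norm_num : Nat.Prime 5)).mp hd with h | h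
    · exact absurd (orderOf_eq_one_iff.mp h) hne
    · exact h
  refine autFacts.five_not_commute _ hfive (S.img (u : G) * S.img (u : G))
    (mul_mem (img_inn S M hMV h7 hE u) (img_inn S M hMV h7 hE u)) ?_ ?_
  · rw [← pow_two, orderOf_pow' _ (by norm_num), h4]; norm_num
  · have h := congrArg Subtype.val (Subgroup.mem_centralizer_singleton_iff.mp hc)
    have h' : Commute (S.img (c : G)) (S.img (u : G)) := by
      show _ = _
      rw [← S.img_mul c.2.1 u.2.1, ← S.img_mul u.2.1 c.2.1]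
      exact congrArg S.img h
    exact h'.mul_right h'

/-- The root of an image. -/
theorem incid_root (j : Fin 13) (hj : j.1 ∈ [7, 8]) :
    AzPairs.incid (S.img (repX S M hMV h7 hE j : G)) (S.img (repX S M hMV h7 hE j : G)) =
      11520 * 5 := by
  have hor : ordJ j = 4 := by
    have hall : ∀ j : Fin 13, j.1 ∈ [7, 8] → ordJ j = 4 := by decide +kernel
    exact hall j hj
  obtain ⟨q, hq, hqj⟩ : ∃ q ∈ XData.roots, q.1 = j.1 := by
    have hall : ∀ n ∈ [7, 8], XData.roots.any (fun q => Nat.beq q.1 n) = true := by decide +kernel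
    have := hall j.1 hj
    simpa [List.any_eq_true] using this
  have h := roots_ok
  simp only [rootsOk, List.all_eq_true, forceNat_eq, Bool.and_eq_true, Bool.or_eq_true,
    List.any_eq_true, Nat.beq_eq] at h
  obtain ⟨⟨⟨⟨x, hx1, ex⟩, y, hy1, ey⟩, hsq⟩, hvec⟩ := h q hq
  rw [hqj] at hsq hvec
  have hb : q.2.1 ∈ fixL := ex ▸ hx1
  have hd : q.2.2 ∈ codes := ey ▸ hy1
  obtain ⟨hdg, hds, -, -⟩ := codes_good hd
  obtain ⟨hrg, hrs, -, -⟩ := codes_good (rep_spec j).2.1
  have hbl := (fixL_spec hb).1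
  have hal := (fixL_spec (rep_spec j).1).1
  set v := M.ev q.2.1 (el q.2.2)
  have hv : v ∈ cz z := (M.ev_cz h7 hdg hds).2
  set u := M.ev (XData.reps.getD j.1 (0, 0)).1 (el (XData.reps.getD j.1 (0, 0)).2)
  have hu : u ∈ cz z := (M.ev_cz h7 hrg hrs).2
  have hz : z ∈ Q z := S.es.mem
  have e : S.img v * S.img v = S.img u := by
    rw [← S.img_mul hv hv, show v * v = M.ev _ _ from M.ev_mul hbl hbl hdg, ← el_mul hdg hdg, hsq]
    rcases hvec with hvec | hvec <;> rw [hvec]
    have : M.ev ((XData.reps.getD j.1 (0, 0)).1 ^^^ 7) (el (XData.reps.getD j.1 (0, 0)).2) =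
        M.ψ 7 * u := by
      simp only [u, NModel.ev, ← mul_assoc]
      rw [← M.frame.mul 7 _ (by norm_num) hal, Nat.xor_comm]
    rw [h7] at this
    rw [this, S.img_mul (Q_le_cz z hz) hu, S.img_Q hz, one_mul]
  have ho : orderOf (S.img v) = 8 := by
    have h4 : orderOf (S.img v * S.img v) = 4 := by
      rw [e, ← hor]; exact img_rep S M hMV h7 hE j
    have h8 : S.img v ^ 2 ^ 3 = 1 := by
      rw [show (2 : ℕ) ^ 3 = 2 * 4 by norm_num, pow_mul, pow_two, ← h4, pow_orderOf_eq_one]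
    refine orderOf_eq_prime_pow (n := 2) (fun hc => ?_) h8
    have h2 : (S.img v * S.img v) ^ 2 = 1 := by rw [← pow_two, ← pow_mul]; exact hc
    have := orderOf_dvd_of_pow_eq_one h2
    rw [h4] at this
    norm_num at this
  show AzPairs.incid (S.img u) (S.img u) = _
  rw [← e]
  exact (incid_eight ho).2

end Cfsg.Agent.Lib.J4Classes92
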