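import Cfsg.Agent.Lib.J4Classes92.XGroup

/-!
# The 2-elements of the centraliser of the element of order three in the hexad normaliser
-/

set_option autoImplicit false
set_option linter.unusedSectionVars false
set_option linter.style.haveILetI false
set_option maxRecDepth 100000

namespace Cfsg.Agent.Lib.J4Classes92

open Cfsg Cfsg.Agent.Lib.Golay Cfsg.Agent.Lib.Computation Cfsg.Agent.Lib.J4Local Cfsg.Agent.Lib.J4Big
open Cfsg.Agent.Lib.J4Order
open Cfsg.Agent.Lib.FusionAlperin.MathieuCert (canon eq_of_gperm)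
open Cfsg.Agent.Lib.J4Big.Cocode (noRep_spec)
open AtCalc AzModelCalc AzModelData XCalc

attribute [local irreducible] oneCode mulP canon powC normV fixL XData.tab XData.oddC
  XData.witC XData.reps coreMask kerList J4Big.Cocode.piL p16 cnt centN rowOk repOk

/-- A permutation of the centraliser. -/
def XGood (c : ℕ) : Prop :=
  Good c ∧ act c 7 = 7 ∧ canon c = c ∧ mulP 24 5 c k3 = mulP 24 5 k3 c

theorem xGood_of {c : ℕ} (h : xOk c = true) : XGood c := by
  simp only [xOk, stabOk, Bool.and_eq_true, Nat.beq_eq] at h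
  exact ⟨good_of_inM24 h.1.1.1, h.1.1.2, h.1.2, h.2⟩

theorem codes_good {c : ℕ} (hc : c ∈ codes) : XGood c := by
  have h := codes_ok
  simp only [codesOk, Bool.and_eq_true, List.all_eq_true] at h
  obtain ⟨⟨-, h1⟩, h2⟩ := h
  rw [codes, List.mem_append, List.mem_map] at hc
  rcases hc with ⟨q, hq, rfl⟩ | hc
  · exact xGood_of (h1 q hq).1
  · exact xGood_of (h2 c hc).1

theorem wit_good {i : ℕ} (hi : i < XData.witC.length) : XGood (XData.witC.getD i 0) := by
  have h := codes_ok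
  simp only [codesOk, Bool.and_eq_true, List.all_eq_true] at h
  rw [List.getD_eq_getElem _ _ hi]
  exact xGood_of (h.1.1.2 _ (List.getElem_mem hi))

theorem pairwise_of_inc : ∀ {l : List ℕ}, incOk l = true → l.Pairwise (· < ·)
  | [], _ => List.Pairwise.nil
  | [a], _ => List.pairwise_singleton _ a
  | a :: b :: l, h => by
    simp only [incOk, List.tail_cons, List.zip_cons_cons, List.all_cons, Bool.and_eq_true,
      Nat.blt_eq] at h
    have h' := pairwise_of_inc (l := b :: l) (by simp only [incOk, List.tail_cons]; exact h.2)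
    refine List.pairwise_cons.mpr ⟨fun c hc => ?_, h'⟩
    rcases List.mem_cons.mp hc with rfl | hc
    · exact h.1
    · exact h.1.trans ((List.pairwise_cons.mp h').1 c hc)

theorem nodup_of_inc {l : List ℕ} (h : incOk l = true) : l.Nodup :=
  (pairwise_of_inc h).imp fun h => ne_of_lt h

theorem codes_nodup : codes.Nodup := by
  have h := codes_ok
  simp only [codesOk, Bool.and_eq_true, List.all_eq_true, forceNat_eq, Bool.not_eq_true',
    ← Bool.not_eq_true, Nat.beq_eq] at h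
  obtain ⟨⟨⟨⟨⟨-, i1⟩, i2⟩, -⟩, h1⟩, h2⟩ := h
  rw [codes, List.nodup_append]
  refine ⟨nodup_of_inc i1, nodup_of_inc i2, fun a ha b hb e => ?_⟩
  rw [List.mem_map] at ha
  obtain ⟨q, hq, rfl⟩ := ha
  exact (h2 b hb).2.1 (e ▸ (h1 q hq).2)

theorem fixL_spec {b : ℕ} (hb : b ∈ fixL) : b < 2048 ∧ act k3 b = b := by
  have h := fix_ok
  simp only [fixOk, Bool.and_eq_true, List.all_eq_true, Nat.beq_eq, Nat.blt_eq] at h
  exact h.2 b hb

theorem fixL_len : fixL.length = 32 ∧ fixL.Nodup := by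
  have h := fix_ok
  simp only [fixOk, Bool.and_eq_true, Nat.beq_eq] at h
  exact ⟨h.1.1, noRep_spec h.1.2⟩

theorem el_inj {a b : ℕ} (ha : Good a) (hb : Good b) (ca : canon a = a) (cb : canon b = b)
    (h : el a = el b) : a = b := by
  have h' := congrArg Subtype.val h
  rw [el_coe ha.2, el_coe hb.2] at h'
  exact eq_of_gperm ha.1 hb.1 ca cb h'

theorem canon_one : canon oneCode = oneCode := AzModel.canon_oneCode

theorem canon_mulP (a b : ℕ) : canon (mulP 24 5 a b) = mulP 24 5 a b := by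
  rw [FusionAlperin.MathieuCert.canon, mulP]
  simp only [forceNat_eq]
  refine FusionAlperin.MathieuCert.packW_congr fun i hi => ?_
  exact getW_packW (fun x _ => getW_eq 5 a _ ▸ Nat.mod_lt _ (Nat.two_pow_pos 5)) hi

theorem p16_spec {c : ℕ} (hc : Good c) : Good (p16 c) ∧ el (p16 c) = el c ^ 16 := by
  have hg : ∀ {x}, Good x → Good (mulP 24 5 x x) ∧ el (mulP 24 5 x x) = el x ^ 2 := fun hx =>
    ⟨good_mulP hx hx, by rw [el_mul hx hx, pow_two]⟩
  obtain ⟨g1, e1⟩ := hg hc
  obtain ⟨g2, e2⟩ := hg g1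
  obtain ⟨g3, e3⟩ := hg g2
  obtain ⟨g4, e4⟩ := hg g3
  rw [p16]
  simp only [forceNat_eq]
  exact ⟨g4, by rw [e4, e3, e2, e1, ← pow_mul, ← pow_mul, ← pow_mul]⟩

/-- The index of a lift of 2-power order. -/
abbrev Idx : Type := Fin XData.tab.length × Fin 32

/-- The vector of an index. -/
noncomputable def vecI (i : Idx) : ℕ := fixL.getD i.2.1 0

/-- The permutation of an index. -/
noncomputable def codeI (i : Idx) : ℕ := (XData.tab[i.1.1]).1

/-- The entry of an index. -/
noncomputable def entI (i : Idx) : ℕ := (XData.tab[i.1.1]).2.getD i.2.1 0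

theorem vecI_mem (i : Idx) : vecI i ∈ fixL := by
  rw [vecI, List.getD_eq_getElem _ _ (by rw [fixL_len.1]; exact i.2.2)]
  exact List.getElem_mem _

theorem codeI_mem (i : Idx) : codeI i ∈ codes := by
  rw [codes, List.mem_append]
  exact Or.inl (List.mem_map.mpr ⟨_, List.getElem_mem _, rfl⟩)

theorem entI_ok (i : Idx) : entryOk (vecI i) (codeI i) (entI i) = true ∧
    (XData.tab[i.1.1]).2.length = 32 := by
  have h := List.all_eq_true.mp rows_ok _ (List.getElem_mem i.1.2)
  rw [rowOk] at h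
  simp only [Bool.and_eq_true, Nat.beq_eq, List.all_eq_true] at h
  refine ⟨h.2 (vecI i, entI i) ?_, h.1⟩
  have h1 : i.2.1 < fixL.length := by rw [fixL_len.1]; exact i.2.2
  have h2 : i.2.1 < (XData.tab[i.1.1]).2.length := by rw [h.1]; exact i.2.2
  rw [vecI, entI, List.getD_eq_getElem _ _ h1, List.getD_eq_getElem _ _ h2]
  exact List.mem_iff_getElem.mpr ⟨i.2.1, by rw [List.length_zip]; omega, List.getElem_zip⟩

variable {G : Type*} [Group G] [Finite G] {z p : G}
variable (S : Setting z p) (M : NModel z)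
variable (hMV : M.V = vv S Cert2.normConfig.toBigConfig) (h7 : M.ψ 7 = z)
variable (hE : ∃ e ∈ Q z, IsConj z e ∧ e ≠ z)
include hMV h7 hE

theorem ev_mem_hx {a c : ℕ} (hc : XGood c) (ha : a ∈ fixL) :
    M.ev a (el c) ∈ hx M ∧ M.ev a (el c) ∈ M.mm := by
  obtain ⟨hg, hs, -, hk⟩ := hc
  obtain ⟨hal, haf⟩ := fixL_spec ha
  obtain ⟨hg3, -⟩ := M.k3_good h7 S autFacts Cert2.normConfig hMV hE
  have hm := M.ev_cz h7 (a := a) hg hs
  refine ⟨⟨hm.2, mem_cz.mpr ?_⟩, hm⟩
  have h := M.conj_ev (g := k3) (σ := el c) hg3 hal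
  rw [haf, show el k3 * el c * (el k3)⁻¹ = el c by
    rw [← el_mul hg3 hg, ← hk, el_mul hg hg3, mul_inv_cancel_right], mul_inv_eq_iff_eq_mul] at h
  exact h.symm

/-- A listed element as an element of the centraliser. -/
noncomputable def mkX (q : {c // c ∈ codes} × {a // a ∈ fixL}) : ↥(hx M) :=
  ⟨M.ev q.2.1 (el q.1.1), (ev_mem_hx S M hMV h7 hE (codes_good q.1.2) q.2.2).1⟩

theorem mkX_inj : Function.Injective (mkX S M hMV h7 hE) := by
  rintro ⟨⟨c, hc⟩, ⟨a, ha⟩⟩ ⟨⟨d, hd⟩, ⟨b, hb⟩⟩ h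
  obtain ⟨e1, e2⟩ := M.ev_inj (fixL_spec ha).1 (fixL_spec hb).1 (congrArg Subtype.val h)
  obtain ⟨g1, -, c1, -⟩ := codes_good hc
  obtain ⟨g2, -, c2, -⟩ := codes_good hd
  have e3 := el_inj g1 g2 c1 c2 e2
  subst e1 e3
  rfl

/-- Every element of the centraliser in the hexad normaliser is listed. -/
theorem exists_mkX {x : ↥(hx M)} (hmem : (x : G) ∈ M.mm) : ∃ q, mkX S M hMV h7 hE q = x := by
  classical
  let f : {c // c ∈ codes} × {a // a ∈ fixL} → ↥(M.mm.subgroupOf (hx M)) := fun q =>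
    ⟨mkX S M hMV h7 hE q, (ev_mem_hx S M hMV h7 hE (codes_good q.1.2) q.2.2).2⟩
  have hf : Function.Injective f := fun a b h => mkX_inj S M hMV h7 hE (congrArg Subtype.val h)
  have hb := hf.bijective_of_nat_card_le (le_of_eq (by
    rw [card_sx S M hMV h7 hE, Nat.card_prod,
      Nat.card_congr (codes_nodup.getEquiv codes).symm, Nat.card_fin,
      Nat.card_congr (fixL_len.2.getEquiv fixL).symm, Nat.card_fin, fixL_len.1]
    have h := codes_ok
    simp only [codesOk, Bool.and_eq_true, Nat.beq_eq] at h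
    rw [h.1.1.1.1.1]))
  obtain ⟨q, hq⟩ := hb.2 ⟨x, hmem⟩
  exact ⟨q, congrArg Subtype.val hq⟩

/-- The lift of an index. -/
noncomputable def eltI (i : Idx) : ↥(hx M) :=
  mkX S M hMV h7 hE (⟨codeI i, codeI_mem i⟩, ⟨vecI i, vecI_mem i⟩)

theorem eltI_inj : Function.Injective (eltI S M hMV h7 hE) := by
  rintro ⟨i, k⟩ ⟨j, l⟩ h
  have h' := mkX_inj S M hMV h7 hE h
  simp only [Prod.mk.injEq, Subtype.mk.injEq] at h'
  obtain ⟨hc, hv⟩ := h'
  have hk := fixL_len
  simp only [vecI, List.getD_eq_getElem _ _ (show k.1 < fixL.length by rw [hk.1]; exact k.2),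
    List.getD_eq_getElem _ _ (show l.1 < fixL.length by rw [hk.1]; exact l.2)] at hv
  have e2 : k = l := Fin.ext (hk.2.getElem_inj_iff.mp hv)
  have hn : (XData.tab.map Prod.fst).Nodup := by
    have h := codes_ok
    simp only [codesOk, Bool.and_eq_true] at h
    exact nodup_of_inc h.1.1.1.1.2
  have e1 : i = j := Fin.ext ((hn.getElem_inj_iff
    (hi := by rw [List.length_map]; exact i.2) (hj := by rw [List.length_map]; exact j.2)).mp
    (by simpa [codeI, List.getElem_map] using hc))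
  rw [e1, e2]

/-- A 2-element of the hexad normaliser is the lift of an index. -/
theorem exists_eltI {x : ↥(hx M)} (hmem : (x : G) ∈ M.mm) (h2 : IsTwoElt x) :
    ∃ i, eltI S M hMV h7 hE i = x := by
  obtain ⟨⟨⟨c, hc⟩, ⟨a, ha⟩⟩, rfl⟩ := exists_mkX S M hMV h7 hE hmem
  obtain ⟨hg, -, hcn, -⟩ := codes_good hc
  rw [isTwoElt_coe, isTwoElt_iff] at h2
  obtain ⟨k, hk⟩ := h2
  have hσ : el c ^ 2 ^ k = 1 := by
    have hk' : M.ev a (el c) ^ 2 ^ k = 1 := hk
    rw [M.pow_ev hg (fixL_spec ha).1, ← M.ψ_zero, ← M.ev_one_eq] at hk'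
    exact (M.ev_inj (AtNum.normV_lt (imgL_lt c) _ (fixL_spec ha).1) (by norm_num) hk').2
  have hc' := hc
  rw [codes, List.mem_append, List.mem_map] at hc'
  rcases hc' with ⟨q, hq, rfl⟩ | hodd
  · obtain ⟨i, hi, rfl⟩ := List.mem_iff_getElem.mp hq
    obtain ⟨j, hj, rfl⟩ := List.mem_iff_getElem.mp ha
    refine ⟨(⟨i, hi⟩, ⟨j, fixL_len.1 ▸ hj⟩), ?_⟩
    refine congrArg (mkX S M hMV h7 hE) (Prod.ext (Subtype.ext rfl) (Subtype.ext ?_))
    show vecI _ = _
    rw [vecI, List.getD_eq_getElem _ _ hj]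
  · exfalso
    have h := codes_ok
    simp only [codesOk, Bool.and_eq_true, List.all_eq_true, forceNat_eq, Bool.not_eq_true',
      ← Bool.not_eq_true, Nat.beq_eq] at h
    obtain ⟨-, hne, hy⟩ := h.2 c hodd
    obtain ⟨g1, e1⟩ := p16_spec hg
    obtain ⟨g2, e2⟩ := p16_spec g1
    rw [hy] at e2
    have hy1 : el (p16 c) ^ 15 = 1 := by
      have h15 : el (p16 c) ^ 16 = el (p16 c) := e2.symm
      rw [pow_succ] at h15
      exact mul_eq_right.mp h15
    have h1 : orderOf (el (p16 c)) ∣ Nat.gcd 15 (2 ^ k) :=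
      Nat.dvd_gcd (orderOf_dvd_of_pow_eq_one hy1) (orderOf_dvd_of_pow_eq_one (by
        rw [e1, ← pow_mul, mul_comm, pow_mul, hσ, one_pow]))
    rw [(Nat.Coprime.pow_right k (by norm_num : Nat.Coprime 15 2)).gcd_eq_one, Nat.dvd_one,
      orderOf_eq_one_iff] at h1
    refine hne (el_inj g1 good_one ?_ canon_one (by rw [h1, el_one]))
    rw [p16]
    simp only [forceNat_eq]
    exact canon_mulP _ _

end Cfsg.Agent.Lib.J4Classes92
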