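import Cfsg.Agent.Lib.J4Classes92.Model
import Cfsg.Agent.Lib.J4Classes92.XChecks
import Cfsg.Agent.Lib.J4Local.RowsK

/-!
# The centraliser of the element of order three in the model
-/

set_option autoImplicit false
set_option linter.unusedSectionVars false
set_option linter.style.haveILetI false
set_option maxRecDepth 100000

namespace Cfsg.Agent.Lib.J4Classes92

open Cfsg Cfsg.Agent.Lib.Golay Cfsg.Agent.Lib.Computation Cfsg.Agent.Lib.J4Local Cfsg.Agent.Lib.J4Big
open Cfsg.Agent.Lib.J4Order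
open Cfsg.Agent.Lib.FusionAlperin.MathieuCert (canon)
open AtCalc AzModelCalc AzModelData XCalc

attribute [local irreducible] oneCode mulP canon powC normV codes fixL XData.tab XData.oddC
  XData.witC XData.reps coreMask kerList J4Big.Cocode.piL

variable {G : Type*} [Group G] [Finite G] {z p : G}
variable (S : Setting z p) (M : NModel z)

/-- The centraliser of the element of order three of the model. -/
noncomputable abbrev hx : Subgroup G := cz z ⊓ cz (M.κ (el k3))

variable (hMV : M.V = vv S Cert2.normConfig.toBigConfig) (h7 : M.ψ 7 = z)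
variable (hE : ∃ e ∈ Q z, IsConj z e ∧ e ≠ z)
include hMV h7 hE

/-- A conjugation from the centraliser of the given element of order three. -/
theorem exists_move : ∃ g ∈ cz z,
    ∀ x, x ∈ hx M ↔ g⁻¹ * x * g ∈ kSub z p := by
  have := Fact.mk Nat.prime_three
  have F := autFacts
  obtain ⟨hK, hK1, hKQ⟩ := M.k3_ker h7 S F Cert2.normConfig hMV hE
  obtain ⟨-, h3⟩ := M.k3_good h7 S F Cert2.normConfig hMV hE
  set K := M.κ (el k3) with hKdef
  have hK3 : K ^ 3 = 1 := by
    rw [hKdef, ← map_pow, pow_succ, pow_two, mul_assoc, h3, map_one]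
  have hoK : orderOf K = 3 :=
    orderOf_eq_prime hK3 fun h => hKQ (by rw [h]; exact one_mem _)
  let a : ↥S.phi.ker := ⟨⟨p, S.p_mem_cz⟩, by
    rw [MonoidHom.mem_ker, ← S.img_of_mem S.p_mem_cz, S.img_p]⟩
  let b : ↥S.phi.ker := ⟨⟨K, hK⟩, by rw [MonoidHom.mem_ker, ← S.img_of_mem hK, hK1]⟩
  have ho : ∀ {c : ↥S.phi.ker}, orderOf ((c : ↥(cz z)) : G) = 3 →
      Nat.card ↥(Subgroup.zpowers c) = 3 ^ (Nat.card ↥S.phi.ker).factorization 3 := by
    intro c hc
    rw [Nat.card_zpowers, ← Subgroup.orderOf_coe, ← Subgroup.orderOf_coe, hc, S.card_ker,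
      Nat.factorization_def _ Nat.prime_three, padicValNat.mul (by norm_num) (by norm_num),
      padicValNat.self (by norm_num), padicValNat.eq_zero_of_not_dvd (by norm_num)]
    rfl
  obtain ⟨g, hg⟩ := MulAction.exists_smul_eq ↥S.phi.ker
    (Sylow.ofCard (Subgroup.zpowers a) (ho S.ord_p)) (Sylow.ofCard (Subgroup.zpowers b) (ho hoK))
  have hm : g * a * g⁻¹ ∈ Subgroup.zpowers b := by
    have h : g * a * g⁻¹ ∈ ((g • Sylow.ofCard (Subgroup.zpowers a) (ho S.ord_p) :
        Sylow 3 ↥S.phi.ker) : Set ↥S.phi.ker) := by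
      rw [Sylow.coe_smul]
      exact ⟨a, Subgroup.mem_zpowers a, rfl⟩
    rw [hg] at h
    exact h
  obtain ⟨i, hi⟩ := Subgroup.mem_zpowers_iff.mp hm
  have hi' : K ^ i = ((g : ↥(cz z)) : G) * p * ((g : ↥(cz z)) : G)⁻¹ :=
    congrArg (fun c : ↥S.phi.ker => ((c : ↥(cz z)) : G)) hi
  set u := ((g : ↥(cz z)) : G)
  have hu : u ∈ cz z := (g : ↥(cz z)).2
  -- the two generate the same group
  have hKp : Subgroup.zpowers (u * p * u⁻¹) = Subgroup.zpowers K := by
    refine Subgroup.eq_of_le_of_card_ge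
      (Subgroup.zpowers_le.mpr (Subgroup.mem_zpowers_iff.mpr ⟨i, hi'⟩)) (le_of_eq ?_)
    rw [Nat.card_zpowers, Nat.card_zpowers, hoK]
    exact ((orderOf_injective (MulAut.conj u).toMonoidHom (MulAut.conj u).injective p).trans
      S.ord_p).symm
  have hcom : ∀ y, Commute y K ↔ Commute y (u * p * u⁻¹) := fun y => by
    constructor
    · intro h
      rw [← hi']
      exact h.zpow_right i
    · intro h
      obtain ⟨j, hj⟩ := Subgroup.mem_zpowers_iff.mp (hKp ▸ Subgroup.mem_zpowers K :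
        K ∈ Subgroup.zpowers (u * p * u⁻¹))
      rw [← hj]
      exact h.zpow_right j
  refine ⟨u, hu, fun x => ?_⟩
  have hzc : ∀ y, Commute y z ↔ Commute (u⁻¹ * y * u) z := fun y => by
    constructor
    · exact fun h => ((mem_cz.mp hu).inv_left.mul_left h).mul_left (mem_cz.mp hu)
    · intro h
      have := ((mem_cz.mp hu).mul_left h).mul_left (mem_cz.mp hu).inv_left
      rwa [show u * (u⁻¹ * y * u) * u⁻¹ = y by group] at this
  rw [mem_kSub, Subgroup.mem_inf, mem_cz, mem_cz, hcom, ← hzc]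
  refine and_congr_right fun _ => ⟨fun h => ?_, fun h => ?_⟩
  · have := h.map (MulAut.conj u⁻¹)
    simpa [mul_assoc] using this
  · have := h.map (MulAut.conj u)
    simpa [mul_assoc] using this

theorem card_hx : Nat.card ↥(hx M) = 2661120 := by
  obtain ⟨g, -, hg⟩ := exists_move S M hMV h7 hE
  rw [show 2661120 = Nat.card ↥(kSub z p) by rw [S.card_kSub autFacts]]
  exact Nat.card_congr
    { toFun := fun x => ⟨g⁻¹ * x.1 * g, (hg x.1).mp x.2⟩
      invFun := fun x => ⟨g * x.1 * g⁻¹, (hg _).mpr (by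
        rw [show g⁻¹ * (g * x.1 * g⁻¹) * g = x.1 by group]; exact x.2)⟩
      left_inv := fun x => Subtype.ext (by dsimp; group)
      right_inv := fun x => Subtype.ext (by dsimp; group) }

theorem phi_mem_inn {x : ↥(cz z)} (hx' : (x : G) ∈ hx M) : S.phi x ∈ inn := by
  obtain ⟨g, hgz, hg⟩ := exists_move S M hMV h7 hE
  haveI := AutLocal.inn_normal
  have h := S.kSub_le_inner ((hg _).mp hx')
  have hm : g⁻¹ * (x : G) * g ∈ cz z := mul_mem (mul_mem (inv_mem hgz) x.2) hgz
  have h1 := (S.img_mem_inn autFacts hm).mpr h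
  rw [S.img_mul (mul_mem (inv_mem hgz) x.2) hgz, S.img_mul (inv_mem hgz) x.2, S.img_inv hgz,
    S.img_of_mem x.2] at h1
  have := Subgroup.Normal.conj_mem (H := inn) inferInstance _ h1 (S.img g)
  simpa [mul_assoc] using this

/-- The map onto the inner part. -/
noncomputable def phx : ↥(hx M) →* ↥inn :=
  (S.phi.comp (Subgroup.inclusion (inf_le_left : hx M ≤ cz z))).codRestrict inn
    fun x => phi_mem_inn S M hMV h7 hE (x := Subgroup.inclusion inf_le_left x) x.2

theorem phx_coe (x : ↥(hx M)) :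
    ((phx S M hMV h7 hE x : ↥inn) : AutM22) = S.img (x : G) := (S.img_of_mem x.2.1).symm

theorem phx_surjective : Function.Surjective (phx S M hMV h7 hE) := by
  obtain ⟨g, hgz, hg⟩ := exists_move S M hMV h7 hE
  haveI := AutLocal.inn_normal
  rintro ⟨a, ha⟩
  have hb : (S.img g)⁻¹ * a * S.img g ∈ inn := by
    have := Subgroup.Normal.conj_mem (H := inn) inferInstance _ ha (S.img g)⁻¹
    simpa using this
  obtain ⟨h, hh, he⟩ := S.exists_lift autFacts hb
  refine ⟨⟨g * h * g⁻¹, (hg _).mpr (by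
    rw [show g⁻¹ * (g * h * g⁻¹) * g = h by group]; exact hh)⟩, Subtype.ext ?_⟩
  rw [phx_coe, S.img_mul (mul_mem hgz hh.1) (inv_mem hgz), S.img_mul hgz hh.1, S.img_inv hgz, he]
  group

theorem card_ker_phx : Nat.card ↥(phx S M hMV h7 hE).ker = 6 := by
  have h := Subgroup.card_mul_index (phx S M hMV h7 hE).ker
  rw [Subgroup.index_ker, MonoidHom.range_eq_top.mpr (phx_surjective S M hMV h7 hE),
    Nat.card_congr Subgroup.topEquiv.toEquiv, autFacts.card_inn, card_hx S M hMV h7 hE] at h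
  omega

omit h7 hE in
theorem mem_sx (x : ↥(hx M)) : x ∈ M.mm.subgroupOf (hx M) ↔ S.img (x : G) ∈ AzPairs.NU := by
  rw [Subgroup.mem_subgroupOf, show (x : G) ∈ M.mm ↔ _ from J4Order.mem_mm_iff S M hMV,
    and_iff_right (show (x : G) ∈ cz z from x.2.1)]

theorem card_sx : Nat.card ↥(M.mm.subgroupOf (hx M)) = 34560 := by
  calc Nat.card ↥(M.mm.subgroupOf (hx M))
      = Nat.card {x : ↥(hx M) // ((phx S M hMV h7 hE x : ↥inn) : AutM22) ∈ AzPairs.NU} :=
        Nat.card_congr (Equiv.subtypeEquivRight fun x => by rw [phx_coe, mem_sx S M hMV])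
    _ = 6 * Nat.card {a : ↥inn // (a : AutM22) ∈ AzPairs.NU} := by
        rw [card_preimage (phx S M hMV h7 hE) (phx_surjective S M hMV h7 hE)
          (fun a : ↥inn => (a : AutM22) ∈ AzPairs.NU), card_ker_phx]
    _ = 34560 := by
        rw [Nat.card_congr (Equiv.subtypeSubtypeEquivSubtypeInter (fun a => a ∈ inn)
          (fun a => a ∈ AzPairs.NU)), card_NU_inn]

theorem index_sx : (M.mm.subgroupOf (hx M)).index = 77 := by
  have h := Subgroup.card_mul_index (M.mm.subgroupOf (hx M))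
  rw [card_sx S M hMV h7 hE, card_hx S M hMV h7 hE] at h
  omega

/-- The elements carrying `u` into the hexad normaliser, through the hexad count. -/
theorem card_into_sx (u : ↥(hx M)) :
    Nat.card {h : ↥(hx M) // h * u * h⁻¹ ∈ M.mm.subgroupOf (hx M)} =
      3 * AzPairs.incid (S.img (u : G)) (S.img (u : G)) := by
  let α : ↥inn := phx S M hMV h7 hE u
  have hα : (α : AutM22) = S.img (u : G) := phx_coe S M hMV h7 hE u
  calc Nat.card {h : ↥(hx M) // h * u * h⁻¹ ∈ M.mm.subgroupOf (hx M)}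
      = Nat.card {h : ↥(hx M) // ((phx S M hMV h7 hE h : ↥inn) : AutM22) * α *
          ((phx S M hMV h7 hE h : ↥inn) : AutM22)⁻¹ ∈ AzPairs.NU} :=
        Nat.card_congr (Equiv.subtypeEquivRight fun h => by
          rw [mem_sx S M hMV, ← phx_coe S M hMV h7 hE (h * u * h⁻¹), map_mul, map_mul, map_inv,
            Subgroup.coe_mul, Subgroup.coe_mul, Subgroup.coe_inv])
    _ = 6 * Nat.card {g : ↥inn // (g : AutM22) * α * (g : AutM22)⁻¹ ∈ AzPairs.NU} := by
        rw [card_preimage (phx S M hMV h7 hE) (phx_surjective S M hMV h7 hE)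
          (fun g : ↥inn => (g : AutM22) * α * (g : AutM22)⁻¹ ∈ AzPairs.NU), card_ker_phx]
    _ = _ := by
        rw [Nat.card_congr (Equiv.subtypeSubtypeEquivSubtypeInter (fun g => g ∈ inn)
          (fun g => g * (α : AutM22) * g⁻¹ ∈ AzPairs.NU)), hα, ← incid_inn]
        ring

end Cfsg.Agent.Lib.J4Classes92
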