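import Cfsg.Agent.Lib.J4Order.AzModelCalc
import Cfsg.Agent.Lib.J4Classes92.ZData

/-!
# The checks on the 2-elements of the hexad normaliser whose cyclic group contains `z`
-/

set_option autoImplicit false

namespace Cfsg.Agent.Lib.J4Classes92.ZCalc

open Cfsg.Agent.Lib.Golay Cfsg.Agent.Lib.Computation
open Cfsg.Agent.Lib.J4Order
open Cfsg.Agent.Lib.FusionAlperin.MathieuCert (canon)
open AtCalc AzModelCalc AzModelData ZData

/-- All rows. -/
def rows : List Row := parts.flatten

/-- The permutations. -/
def codes : List ℕ := rows.map Row.code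

/-- A word in the generators. -/
def evalW : ℕ → ℕ → ℕ → ℕ
  | 0, _, x => x
  | n + 1, w, x =>
    bif Nat.beq (w % 16) 0 then x
    else forceNat (mulP 24 5 x (gens.getD (w % 16 - 1) 0)) fun y => evalW n (w / 16) y

/-- The sorted list of permutations and the generators. -/
def groupOk : Bool :=
  Nat.beq rows.length 1024 && ((List.zip codes codes.tail).all fun q => Nat.blt q.1 q.2) &&
    gens.all (fun g => stabOk g && Nat.beq (canon g) g) && codes.any (Nat.beq oneCode)

/-- A permutation is a word in the generators, and its products with them are listed. -/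
def closeOk (T : RTree) (r : Row) : Bool :=
  Nat.beq (evalW 6 r.word oneCode) r.code &&
    gens.all fun g => (T.find (mulP 24 5 r.code g)).isSome

/-- The free part and the decompositions of the basis. -/
def splitOk (r : Row) : Bool :=
  forceL (imgL r.code) fun L => r.free.all (fun a => Nat.blt a 2048) && (List.range 11).all fun i =>
    forceNat (getW 11 r.pre i) fun b => forceNat (getW 11 r.rest i) fun m =>
      Nat.blt m (2 ^ r.free.length) && Nat.beq (b ^^^ combine L b ^^^ combine r.free m) (2 ^ i)

/-- Conjugation of a representative to a lift. -/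
def hitOk (r : Row) (h : ℕ × ℕ × ℕ × ℕ) : Bool :=
  Nat.blt h.1 (2 ^ r.free.length) && Nat.blt h.2.1 10 && Nat.blt h.2.2.1 2048 && stabOk h.2.2.2 &&
    forceNat (combine r.free h.1) fun a =>
      let q := reps.getD h.2.1 ⟨0, 0, 0, 0, 0, false⟩
      Nat.beq (h.2.2.1 ^^^ act h.2.2.2 q.vec) (a ^^^ act r.code h.2.2.1) &&
        Nat.beq (mulP 24 5 h.2.2.2 q.code) (mulP 24 5 r.code h.2.2.2)

/-- The lifts which power to `z` are among the hits. -/
def hitsOk (r : Row) : Bool :=
  ordOk r.code r.ord && r.hits.all (hitOk r) && forceL (normL r.code r.ord) fun L =>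
    (List.range (2 ^ r.free.length)).all fun m =>
      !Nat.beq (combine L (combine r.free m)) 7 || r.hits.any fun h => Nat.beq h.1 m

/-- A row. -/
def rowOk (r : Row) : Bool := stabOk r.code && Nat.beq (canon r.code) r.code && splitOk r && hitsOk r

/-- A representative. -/
def repOk (q : Rep) : Bool :=
  Nat.blt q.vec 2048 && stabOk q.code && stabOk q.cinv && Nat.beq (mulP 24 5 q.code q.cinv) oneCode &&
    ordOk q.code q.ord && Nat.beq (normV (imgL q.code) q.ord q.vec) 7 &&
    inW (normV (imgL q.code) q.imgOrd q.vec) && fixC (powC q.code q.imgOrd) &&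
    (Nat.beq q.imgOrd 1 ||
      !(inW (normV (imgL q.code) (q.imgOrd / 2) q.vec) && fixC (powC q.code (q.imgOrd / 2)))) &&
    forceNat (mulP 24 5 (mulP 24 5 q.code k3) q.cinv) fun k =>
      inW (q.vec ^^^ act k q.vec) && LabelData.imageRows.any fun r =>
        bif q.inner then Nat.beq (canon (mulP 24 5 r.1 k3)) k
        else Nat.beq (canon (mulP 24 5 r.1 (mulP 24 5 k3 k3))) k

/-- The representatives; the first is `z` and the sixth is the square of the last. -/
def repsOk : Bool :=
  Nat.beq reps.length 10 && reps.all repOk &&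
    (let q := reps.getD 0 ⟨1, 0, 0, 0, 0, false⟩
     Nat.beq q.vec 7 && Nat.beq q.code oneCode) &&
    (let q := reps.getD 5 ⟨1, 0, 0, 0, 0, false⟩
     let v := reps.getD 9 ⟨0, 0, 0, 0, 0, false⟩
     Nat.beq (v.vec ^^^ act v.code v.vec) q.vec && Nat.beq (mulP 24 5 v.code v.code) q.code)

end Cfsg.Agent.Lib.J4Classes92.ZCalc
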