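import Cfsg.Agent.Lib.J4Classes92.ZGroup
import Cfsg.Agent.Lib.J4Classes92.Hexads
import Cfsg.Agent.Lib.J4Seven.Fix

/-!
# The elements of the centraliser of `z` whose cyclic 2-group contains `z`
-/

set_option autoImplicit false
set_option linter.unusedSectionVars false
set_option linter.style.haveILetI false
set_option maxRecDepth 100000

namespace Cfsg.Agent.Lib.J4Classes92

open Cfsg Cfsg.Agent.Lib.Golay Cfsg.Agent.Lib.Computation Cfsg.Agent.Lib.J4Local Cfsg.Agent.Lib.J4Big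
open Cfsg.Agent.Lib.J4Order
open Cfsg.Agent.Lib.FusionAlperin.MathieuCert (canon)
open AtCalc AzModelCalc AzModelData ZCalc

attribute [local irreducible] oneCode mulP canon powC normV ZData.parts ZData.gens ZData.reps
  rowOk coreMask kerList LabelData.imageRows J4Big.Cocode.piL

/-- A representative's data. -/
def repD (j : Fin 10) : ZData.Rep := ZData.reps.getD j.1 ⟨0, 0, 0, 0, 0, false⟩

theorem repD_ok (j : Fin 10) : ZCalc.repOk (repD j) = true := by
  have h := ZCalc.reps_ok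
  simp only [ZCalc.repsOk, Bool.and_eq_true, List.all_eq_true, Nat.beq_eq] at h
  obtain ⟨⟨⟨hl, hall⟩, -⟩, -⟩ := h
  have hj : j.1 < ZData.reps.length := by rw [hl]; exact j.2
  rw [repD, List.getD_eq_getElem _ _ hj]
  exact hall _ (List.getElem_mem hj)

theorem repD_good (j : Fin 10) :
    (repD j).vec < 2048 ∧ Good (repD j).code ∧ act (repD j).code 7 = 7 := by
  have h := repD_ok j
  simp only [ZCalc.repOk, stabOk, Bool.and_eq_true, Nat.blt_eq, Nat.beq_eq] at h
  obtain ⟨⟨⟨⟨⟨⟨⟨⟨⟨hv, hc, hs⟩, -⟩, -⟩, -⟩, -⟩, -⟩, -⟩, -⟩, -⟩ := h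
  exact ⟨hv, good_of_inM24 hc, hs⟩

theorem canon_prod (a b : ℕ) : canon (mulP 24 5 a b) = mulP 24 5 a b := by
  rw [FusionAlperin.MathieuCert.canon, mulP]
  simp only [forceNat_eq]
  refine FusionAlperin.MathieuCert.packW_congr fun i hi => ?_
  exact getW_packW (fun x _ => getW_eq 5 a _ ▸ Nat.mod_lt _ (Nat.two_pow_pos 5)) hi

theorem combine_map_xor {α : Type*} (f g : α → ℕ) : ∀ (l : List α) (a : ℕ),
    combine (l.map fun x => f x ^^^ g x) a = combine (l.map f) a ^^^ combine (l.map g) a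
  | [], a => by simp [combine]
  | x :: l, a => by
    simp only [List.map_cons, combine, combine_map_xor f g l]
    split <;> ac_rfl

/-- The decomposition of a vector over a listed permutation. -/
theorem split_vec {r : ZData.Row} (hr : r ∈ ZCalc.rows) {a : ℕ} (ha : a < 2048) :
    ∃ b < 2048, ∃ m < 2 ^ r.free.length, combine r.free m < 2048 ∧
      a = b ^^^ combine r.free m ^^^ act r.code b := by
  have h := row_ok hr
  simp only [rowOk, Bool.and_eq_true] at h
  have hs := h.1.2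
  have eforce : ∀ {α : Type} (l : List ℕ) (k : List ℕ → α), forceL l k = k l := by
    intro α l
    induction l with
    | nil => intro k; rfl
    | cons x l ih => intro k; rw [forceL, forceNat_eq, ih]
  simp only [splitOk, eforce, forceNat_eq, Bool.and_eq_true, List.all_eq_true, List.mem_range,
    Nat.blt_eq, Nat.beq_eq] at hs
  obtain ⟨hfree, hs⟩ := hs
  set L := (List.range 11).map (getW 11 r.pre) with hL
  set K := (List.range 11).map (getW 11 r.rest) with hK
  refine ⟨combine L a, combine_lt (fun x hx => ?_) a, combine K a, ?_, combine_lt (fun x hx => hfree x hx) _, ?_⟩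
  · rw [hL, List.mem_map] at hx
    obtain ⟨i, -, rfl⟩ := hx
    exact getW_eq 11 _ _ ▸ Nat.mod_lt _ (Nat.two_pow_pos 11)
  · have hK' : ∀ x ∈ K, x < 2 ^ r.free.length := fun x hx => by
      rw [hK, List.mem_map] at hx
      obtain ⟨i, hi, rfl⟩ := hx
      exact (hs i (List.mem_range.mp hi)).1
    clear_value K
    clear hK hs
    suffices ∀ (l : List ℕ) (a : ℕ), (∀ x ∈ l, x < 2 ^ r.free.length) →
        combine l a < 2 ^ r.free.length from this K a hK'
    intro l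
    induction l with
    | nil => intro a _; rw [combine]; exact Nat.two_pow_pos _
    | cons x l ih =>
      intro a hx
      rw [combine]
      refine Nat.xor_lt_two_pow ?_ (ih _ fun y hy => hx y (List.mem_cons_of_mem _ hy))
      split
      · exact hx x List.mem_cons_self
      · exact Nat.two_pow_pos _
  · have e : (List.range 11).map (2 ^ ·) = (List.range 11).map
        (fun i => getW 11 r.pre i ^^^ combine (imgL r.code) (getW 11 r.pre i) ^^^
          combine r.free (getW 11 r.rest i)) :=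
      List.map_congr_left fun i hi => ((hs i (List.mem_range.mp hi)).2).symm
    have h0 := AtNum.combine_id a ha
    rw [e, combine_map_xor, combine_map_xor] at h0
    have e1 := AtNum.combine_map (f := fun b => combine (imgL r.code) b) (combine_zero _)
      (fun x y => combine_xor _ x y) L a
    have e2 := AtNum.combine_map (f := fun b => combine r.free b) (combine_zero _)
      (fun x y => combine_xor _ x y) K a
    simp only [hL, hK, List.map_map, Function.comp_def] at e1 e2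
    rw [← hL, e1, e2] at h0
    rw [J4Order.act]
    conv_lhs => rw [← h0]
    rw [← hK, ← hL]
    ac_rfl

variable {G : Type*} [Group G] [Finite G] {z p : G}
variable (S : Setting z p) (M : NModel z)
variable (hMV : M.V = vv S Cert2.normConfig.toBigConfig) (h7 : M.ψ 7 = z)
variable (hE : ∃ e ∈ Q z, IsConj z e ∧ e ≠ z)
include hMV h7 hE

/-- A representative. -/
noncomputable def repZ (j : Fin 10) : ↥(cz z) :=
  ⟨M.ev (repD j).vec (el (repD j).code), (M.ev_cz h7 (repD_good j).2.1 (repD_good j).2.2).2⟩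

theorem repZ_mem (j : Fin 10) : repZ M h7 j ∈ M.mm.subgroupOf (cz z) :=
  Subgroup.mem_subgroupOf.mpr (M.ev_cz h7 (repD_good j).2.1 (repD_good j).2.2)

/-- A 2-element whose cyclic group contains `z`. -/
def IsZPow (g : ↥(cz z)) : Prop := IsTwoElt (g : G) ∧ z ∈ Subgroup.zpowers (g : G)

theorem isZPow_conj {g : ↥(cz z)} (hg : IsZPow (z := z) g) (h : ↥(cz z)) :
    IsZPow (z := z) (h * g * h⁻¹) := by
  refine ⟨isTwoElt_conj hg.1, ?_⟩
  obtain ⟨k, hk⟩ := Subgroup.mem_zpowers_iff.mp hg.2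
  refine Subgroup.mem_zpowers_iff.mpr ⟨k, ?_⟩
  show ((h : G) * g * (h : G)⁻¹) ^ k = z
  rw [conj_zpow, hk, (mem_cz.mp h.2).eq, mul_inv_cancel_right]

/-- A lift over the Sylow subgroup is conjugate to a representative inside the hexad normaliser. -/
theorem exists_label {x : ↥(cz z)} (hx : x ∈ sylT M) (hz : z ∈ Subgroup.zpowers (x : G)) :
    ∃ j, ∃ s ∈ M.mm.subgroupOf (cz z), s * repZ M h7 j * s⁻¹ = x := by
  obtain ⟨a, ha, σ, hσ, ex⟩ := hx
  obtain ⟨r, hr, rfl⟩ := mem_sylP.mp hσ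
  obtain ⟨hg, hs, -⟩ := zGood_row hr
  obtain ⟨b, hb, m, hm, hR, ea⟩ := split_vec hr ha
  set R := combine r.free m
  have hψ : M.ψ b ∈ cz z := mem_cz.mpr (M.commute_psi h7 b)
  have hψm : M.ψ b ∈ M.mm := ⟨Subgroup.le_normalizer (M.ψ_mem b), hψ⟩
  have hitem : M.ψ b * M.ev R (el r.code) * (M.ψ b)⁻¹ = (x : G) := by
    rw [ex, M.conj_ev_psi hR hb hg, ← ea]
  have hzR : z ∈ Subgroup.zpowers (M.ev R (el r.code)) := by
    obtain ⟨k, hk⟩ := Subgroup.mem_zpowers_iff.mp hz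
    refine Subgroup.mem_zpowers_iff.mpr ⟨k, ?_⟩
    rw [← hitem, conj_zpow] at hk
    rw [show M.ev R (el r.code) ^ k =
      (M.ψ b)⁻¹ * (M.ψ b * M.ev R (el r.code) ^ k * (M.ψ b)⁻¹) * M.ψ b by group, hk,
      mul_assoc, ← (M.commute_psi h7 b).eq, inv_mul_cancel_left]
  have h := row_ok hr
  simp only [rowOk, hitsOk, Bool.and_eq_true, List.all_eq_true] at h
  obtain ⟨-, ⟨hord, hhit⟩, hall⟩ := h
  have eforce : ∀ {α : Type} (l : List ℕ) (k : List ℕ → α), forceL l k = k l := by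
    intro α l
    induction l with
    | nil => intro k; rfl
    | cons x l ih => intro k; rw [forceL, forceNat_eq, ih]
  simp only [eforce, List.all_eq_true, List.mem_range, Bool.or_eq_true, Bool.not_eq_true',
    ← Bool.not_eq_true, Nat.beq_eq, List.any_eq_true] at hall
  have h7' := (M.seven_mem_zpowers_iff h7 hg hR (NModel.orderOf_el hg hord)).mp hzR
  obtain ⟨t, ht, htm⟩ := (hall m hm).resolve_left (fun h => h (by rw [AtNum.normL_eq _ _ hR]; exact h7'))
  have ht' := hhit t ht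
  simp only [hitOk, stabOk, forceNat_eq, Bool.and_eq_true, Nat.blt_eq, Nat.beq_eq] at ht'
  obtain ⟨⟨⟨⟨-, hj⟩, hb'⟩, hw, hws⟩, h1, h2⟩ := ht'
  rw [htm] at h1
  have hwg := good_of_inM24 hw
  refine ⟨⟨t.2.1, hj⟩, ⟨_, hψ⟩ * ⟨_, (M.ev_cz h7 (a := t.2.2.1) hwg hws).2⟩,
    mul_mem (Subgroup.mem_subgroupOf.mpr hψm) (Subgroup.mem_subgroupOf.mpr (M.ev_cz h7 hwg hws)), ?_⟩
  obtain ⟨hrv, hrg, -⟩ := repD_good ⟨t.2.1, hj⟩
  have e : M.ev t.2.2.1 (el t.2.2.2) * M.ev (repD ⟨t.2.1, hj⟩).vec (el (repD ⟨t.2.1, hj⟩).code) *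
      (M.ev t.2.2.1 (el t.2.2.2))⁻¹ = M.ev R (el r.code) := by
    rw [mul_inv_eq_iff_eq_mul, M.ev_mul hb' hrv hwg, M.ev_mul hR hb' hg, ← el_mul hwg hrg,
      ← el_mul hg hwg]
    simp only [repD] at h1 h2 ⊢
    rw [h1, h2]
  refine Subtype.ext ?_
  show (M.ψ b * M.ev t.2.2.1 (el t.2.2.2)) * M.ev (repD ⟨t.2.1, hj⟩).vec (el (repD ⟨t.2.1, hj⟩).code) *
    (M.ψ b * M.ev t.2.2.1 (el t.2.2.2))⁻¹ = x
  rw [← hitem, ← e]
  group

/-- A representative powers to `z`. -/
theorem repZ_zpow (j : Fin 10) : IsZPow (z := z) (repZ M h7 j) := by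
  obtain ⟨hv, hg, hs⟩ := repD_good j
  have h := repD_ok j
  simp only [ZCalc.repOk, Bool.and_eq_true, Nat.beq_eq] at h
  obtain ⟨⟨⟨⟨⟨⟨-, hord⟩, hz⟩, -⟩, -⟩, -⟩, -⟩ := h
  have ho := NModel.orderOf_el hg hord
  refine ⟨isTwoElt_iff.mpr ?_, (M.seven_mem_zpowers_iff h7 hg hv ho).mpr hz⟩
  obtain ⟨k, hk⟩ : ∃ k, (repD j).ord = 2 ^ k := by
    have hall : ∀ j, ∃ k ∈ Finset.range 4, (repD j).ord = 2 ^ k := by decide +kernel
    obtain ⟨k, -, hk⟩ := hall j
    exact ⟨k, hk⟩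
  refine ⟨k + 1, ?_⟩
  show M.ev _ (el _) ^ 2 ^ (k + 1) = 1
  rw [pow_succ, pow_mul, ← hk, M.pow_ev hg hv, ← ho, pow_orderOf_eq_one, ho, hz, M.ev_one_eq, pow_two,
    M.ψ_sq]

theorem inner_iff_k3 {x : G} (hx : x ∈ cz z) :
    x ∈ inner z p ↔ x * M.κ (el k3) * x⁻¹ * (M.κ (el k3))⁻¹ ∈ Q z := by
  obtain ⟨hy, hy1, hyQ⟩ := M.k3_ker h7 S autFacts Cert2.normConfig hMV hE
  set y := M.κ (el k3)
  have hnorm : ∀ {g e : G}, g ∈ cz z → e ∈ Q z → g * e * g⁻¹ ∈ Q z := fun hg he =>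
    LargeExtraspecial.Basic.IsQ.normal isQ (mem_cz.mp hg) he
  have hmul : ∀ {u v : G}, u ∈ cz z → x * u * x⁻¹ * u⁻¹ ∈ Q z → x * v * x⁻¹ * v⁻¹ ∈ Q z →
      x * (u * v) * x⁻¹ * (u * v)⁻¹ ∈ Q z := fun {u v} hu h1 h2 => by
    rw [show x * (u * v) * x⁻¹ * (u * v)⁻¹ =
      (x * u * x⁻¹ * u⁻¹) * (u * (x * v * x⁻¹ * v⁻¹) * u⁻¹) by group]
    exact mul_mem h1 (hnorm hu h2)
  have hQc : ∀ e ∈ Q z, x * e * x⁻¹ * e⁻¹ ∈ Q z := fun e he => mul_mem (hnorm hx he) (inv_mem he)
  obtain ⟨e, he, i, hi⟩ := (S.img_eq_one hy).mp hy1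
  have h3 : p ^ (3 : ℤ) = 1 := by
    rw [show (3 : ℤ) = ((3 : ℕ) : ℤ) from rfl, zpow_natCast, S.p_cube]
  have hk3 : p ^ i = p ^ (i % 3) := by
    conv_lhs => rw [← Int.emod_add_mul_ediv i 3, zpow_add, zpow_mul, h3, one_zpow, mul_one]
  rw [hk3] at hi
  have hi' : i % 3 = 1 ∨ i % 3 = 2 := by
    rcases (show i % 3 = 0 ∨ i % 3 = 1 ∨ i % 3 = 2 by omega) with h | h
    · exact absurd (by rw [hi, h, zpow_zero, mul_one]; exact he) hyQ
    · exact h
  constructor
  · intro hin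
    have hp : x * p * x⁻¹ * p⁻¹ ∈ Q z := hin.2
    rcases hi' with h | h <;> rw [h] at hi <;> rw [hi]
    · rw [zpow_one]
      exact hmul (Q_le_cz z he) (hQc e he) hp
    · rw [show (2 : ℤ) = ((2 : ℕ) : ℤ) from rfl, zpow_natCast, pow_two]
      exact hmul (Q_le_cz z he) (hQc e he) (hmul S.p_mem_cz hp hp)
  · intro h
    refine ⟨mem_cz.mp hx, ?_⟩
    have hez : e⁻¹ ∈ cz z := inv_mem (Q_le_cz z he)
    have hp' := hmul hez (hQc _ (inv_mem he)) h
    rcases hi' with h' | h' <;> rw [h'] at hi <;>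
      rw [show e⁻¹ * y = _ from inv_mul_eq_iff_eq_mul.mpr hi] at hp'
    · rwa [zpow_one] at hp'
    · have := hmul (zpow_mem S.p_mem_cz 2) hp' hp'
      rwa [← zpow_add, show (2 : ℤ) + 2 = 3 + 1 by norm_num, zpow_add, h3, one_mul, zpow_one] at this

theorem img_type (j : Fin 10) :
    orderOf (S.img (repZ M h7 j : G)) = (repD j).imgOrd ∧
      (S.img (repZ M h7 j : G) ∈ inn ↔ (repD j).inner = true) := by
  obtain ⟨hv, hg, hs⟩ := repD_good j
  have h := repD_ok j
  simp only [ZCalc.repOk, stabOk, forceNat_eq, Bool.and_eq_true, Bool.or_eq_true, Bool.not_eq_true',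
    ← Bool.not_eq_true, Nat.beq_eq, List.any_eq_true] at h
  obtain ⟨⟨⟨⟨⟨⟨⟨⟨-, hi1, -⟩, hinv⟩, -⟩, -⟩, hW⟩, hF⟩, hhalf⟩, hkW, r, hr, hrk⟩ := h
  have hx : M.ev (repD j).vec (el (repD j).code) ∈ cz z := (M.ev_cz h7 hg hs).2
  constructor
  · have hi := fun n => (M.img_pow_iff h7 S hMV hE hg hs hv n).1
    have e1 := (hi (repD j).imgOrd).mpr ⟨hW, hF⟩
    show orderOf (S.img (M.ev _ _)) = _
    rcases hhalf with h3 | h3
    · rw [h3] at e1 ⊢
      rw [pow_one] at e1
      exact orderOf_eq_one_iff.mpr e1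
    obtain ⟨k, hk⟩ : ∃ k, (repD j).imgOrd = 2 ^ k := by
      have hall : ∀ j, ∃ k ∈ Finset.range 4, (repD j).imgOrd = 2 ^ k := by decide +kernel
      obtain ⟨k, -, hk⟩ := hall j
      exact ⟨k, hk⟩
    rw [hk] at e1 ⊢
    have e2 := mt (hi ((repD j).imgOrd / 2)).mp h3
    rcases k with _ | k
    · refine absurd ?_ e2
      rw [hk, show (2 : ℕ) ^ 0 / 2 = 0 by norm_num, pow_zero]
    · rw [hk, pow_succ, Nat.mul_div_cancel _ (by norm_num : 0 < 2)] at e2
      exact orderOf_eq_prime_pow e2 e1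
  · show S.img (M.ev (repD j).vec (el (repD j).code)) ∈ inn ↔ _
    rw [S.img_mem_inn autFacts hx, inner_iff_k3 S M hMV h7 hE hx]
    obtain ⟨hy, hy1, hyQ⟩ := M.k3_ker h7 S autFacts Cert2.normConfig hMV hE
    obtain ⟨hg3, h33⟩ := M.k3_good h7 S autFacts Cert2.normConfig hMV hE
    have hgi := good_of_inM24 hi1
    have hcinv : el (repD j).cinv = (el (repD j).code)⁻¹ :=
      eq_inv_of_mul_eq_one_right (by rw [← el_mul hg hgi, hinv, el_one])
    set k := mulP 24 5 (mulP 24 5 (repD j).code k3) (repD j).cinv with hkdef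
    have hgk : Good k := good_mulP (good_mulP hg hg3) hgi
    have hv' := Nat.xor_lt_two_pow (n := 11) hv (act_lt k (repD j).vec)
    have hev : M.ev (repD j).vec (el (repD j).code) * M.κ (el k3) *
        (M.ev (repD j).vec (el (repD j).code))⁻¹ = M.ev ((repD j).vec ^^^ act k (repD j).vec) (el k) := by
      have hconj : M.ev (repD j).vec (el (repD j).code) * M.κ (el k3) *
          (M.ev (repD j).vec (el (repD j).code))⁻¹ =
          M.ψ (repD j).vec * M.κ (el k) * (M.ψ (repD j).vec)⁻¹ := by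
        rw [hkdef, el_mul (good_mulP hg hg3) hgi, el_mul hg hg3, hcinv, map_mul, map_mul, map_inv,
          NModel.ev]
        group
      rw [hconj, M.ψ_inv, NModel.ev, M.frame.mul _ _ hv (act_lt _ _), ← M.conj_el hgk hv]
      group
    rw [hev]
    have hq := M.rows_mem_Q h7 S autFacts Cert2.normConfig hMV hE hkW hr
    have hrg := (rows_good hr).1
    cases hb : (repD j).inner with
    | true =>
      rw [hb, cond_true, Nat.beq_eq] at hrk
      simp only [iff_true]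
      rw [← AzModel.el_eq_of_canon (good_mulP hrg hg3) hgk (hrk.trans (canon_prod _ _).symm),
        el_mul hrg hg3, NModel.ev, map_mul, ← mul_assoc, mul_inv_cancel_right]
      exact hq
    | false =>
      rw [hb, cond_false, Nat.beq_eq] at hrk
      simp only [Bool.false_eq_true, iff_false]
      intro hmem
      refine hyQ ?_
      rw [← AzModel.el_eq_of_canon (good_mulP hrg (good_mulP hg3 hg3)) hgk
        (hrk.trans (canon_prod _ _).symm), el_mul hrg (good_mulP hg3 hg3), el_mul hg3 hg3, NModel.ev,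
        map_mul, map_mul, ← mul_assoc, ← mul_assoc, mul_inv_cancel_right] at hmem
      exact (Subgroup.mul_mem_cancel_left _ hq).mp hmem

theorem type_conj {x y : ↥(cz z)} (h : IsConj x y) :
    orderOf (S.img (x : G)) = orderOf (S.img (y : G)) ∧
      (S.img (x : G) ∈ inn ↔ S.img (y : G) ∈ inn) := by
  obtain ⟨g, rfl⟩ := isConj_iff.mp h
  show _ = orderOf (S.img ((g : G) * x * (g : G)⁻¹)) ∧ (_ ↔ S.img ((g : G) * x * (g : G)⁻¹) ∈ inn)
  rw [S.img_mul (mul_mem g.2 x.2) (inv_mem g.2), S.img_mul g.2 x.2, S.img_inv g.2]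
  exact ⟨(orderOf_injective (MulAut.conj _).toMonoidHom (MulAut.conj _).injective _).symm,
    AzPairs.mem_inn_conj.symm⟩

theorem type_eq {i j : Fin 10} (h : IsConj (repZ M h7 i) (repZ M h7 j)) :
    (repD i).imgOrd = (repD j).imgOrd ∧ (repD i).inner = (repD j).inner := by
  obtain ⟨h1, h2⟩ := type_conj S M hMV h7 hE h
  rw [(img_type S M hMV h7 hE i).1, (img_type S M hMV h7 hE j).1] at h1
  rw [(img_type S M hMV h7 hE i).2, (img_type S M hMV h7 hE j).2] at h2
  exact ⟨h1, Bool.eq_iff_iff.mpr h2⟩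

/-- Inside the hexad normaliser every such element is conjugate there to a representative. -/
theorem exists_label_mm {x : ↥(cz z)} (hm : x ∈ M.mm.subgroupOf (cz z)) (hx : IsZPow (z := z) x) :
    ∃ j, ∃ s ∈ M.mm.subgroupOf (cz z), s * repZ M h7 j * s⁻¹ = x := by
  have hle : sylT M ≤ M.mm.subgroupOf (cz z) := by
    rintro y ⟨a, ha, σ, hσ, e⟩
    obtain ⟨r, hr, rfl⟩ := mem_sylP.mp hσ
    rw [Subgroup.mem_subgroupOf, e]
    exact M.ev_cz h7 (zGood_row hr).1 (zGood_row hr).2.1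
  have hidx : ((sylT M).subgroupOf (M.mm.subgroupOf (cz z))).index = 135 := by
    have h := Subgroup.relIndex_mul_index hle
    rw [index_mm S M hMV, index_sylT S M h7] at h
    rw [Subgroup.relIndex] at h
    omega
  obtain ⟨h, hh⟩ := exists_conj_mem_of_odd ((sylT M).subgroupOf (M.mm.subgroupOf (cz z)))
    (by rw [hidx]; norm_num) (g := ⟨x, hm⟩) (isTwoElt_coe.mpr (isTwoElt_coe.mpr hx.1))
  have hc := isZPow_conj (p := p) S M hMV h7 hE hx (h : ↥(cz z))
  obtain ⟨j, s, hs, e⟩ := exists_label S M hMV h7 hE (Subgroup.mem_subgroupOf.mp hh) hc.2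
  refine ⟨j, (h : ↥(cz z))⁻¹ * s, mul_mem (inv_mem h.2) hs, ?_⟩
  rw [show (h : ↥(cz z))⁻¹ * s * repZ M h7 j * ((h : ↥(cz z))⁻¹ * s)⁻¹ =
    (h : ↥(cz z))⁻¹ * (s * repZ M h7 j * s⁻¹) * h by group, e]
  show (h : ↥(cz z))⁻¹ * ((h : ↥(cz z)) * x * (h : ↥(cz z))⁻¹) * h = x
  group

/-- A class met in a single class of the hexad normaliser. -/
theorem dvd_of_alone {a b : Fin 10} (honly : ∀ j, (repD j).imgOrd = (repD a).imgOrd →
      (repD j).inner = (repD a).inner → j ≠ 0 → j = a ∨ j = b)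
    (hz : ¬ IsConj (repZ M h7 a) (repZ M h7 0)) (hab : ¬ IsConj (repZ M h7 a) (repZ M h7 b)) {f : ℕ}
    (hf : AzPairs.incid (S.img (repZ M h7 a : G)) (S.img (repZ M h7 a : G)) = 11520 * f) :
    f ∣ Nat.card ↥(Subgroup.centralizer ({repZ M h7 a} : Set ↥(cz z))) := by
  have hone : ∀ x ∈ M.mm.subgroupOf (cz z), IsConj (repZ M h7 a) x →
      ∃ s ∈ M.mm.subgroupOf (cz z), s * repZ M h7 a * s⁻¹ = x := by
    intro x hx hc
    obtain ⟨g, rfl⟩ := isConj_iff.mp hc
    obtain ⟨j, s, hs, e⟩ := exists_label_mm S M hMV h7 hE hx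
      (isZPow_conj S M hMV h7 hE (repZ_zpow S M hMV h7 hE a) g)
    have hj : IsConj (repZ M h7 a) (repZ M h7 j) :=
      (isConj_iff.mpr ⟨g, rfl⟩).trans (isConj_iff.mpr ⟨s, e⟩).symm
    obtain ⟨t1, t2⟩ := type_eq S M hMV h7 hE hj
    have hj0 : j ≠ 0 := fun h => hz (h ▸ hj)
    rcases honly j t1.symm t2.symm hj0 with rfl | rfl
    · exact ⟨s, hs, e⟩
    · exact absurd hj hab
  have h := card_into_single (M.mm.subgroupOf (cz z)) (repZ_mem S M hMV h7 hE a) hone
  have hf' : AzPairs.incid (S.phi (repZ M h7 a)) (S.phi (repZ M h7 a)) = 11520 * f := by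
    rw [← hf, S.img_of_mem (repZ M h7 a).2]
  rw [card_into_mm S M hMV, hf', card_mm S M hMV] at h
  refine Dvd.intro (Nat.card ↥(M.mm.subgroupOf (cz z) ⊓
      Subgroup.centralizer ({repZ M h7 a} : Set ↥(cz z))))
    (Nat.eq_of_mul_eq_mul_left (show 0 < 24576 * 11520 by norm_num) ?_)
  calc 24576 * 11520 * (f * Nat.card ↥(M.mm.subgroupOf (cz z) ⊓
        Subgroup.centralizer ({repZ M h7 a} : Set ↥(cz z))))
      = 24576 * (11520 * f) * Nat.card ↥(M.mm.subgroupOf (cz z) ⊓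
        Subgroup.centralizer ({repZ M h7 a} : Set ↥(cz z))) := by ring
    _ = _ := by rw [h]; ring

end Cfsg.Agent.Lib.J4Classes92
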