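import Cfsg.Agent.Lib.J4Classes92.ZCalc

/-!
# Running the checks on the lifts which power to `z`
-/

set_option autoImplicit false
set_option maxRecDepth 100000

namespace Cfsg.Agent.Lib.J4Classes92.ZCalc

open ZData

theorem group_ok : groupOk = true := by decide +kernel

theorem close_ok : rows.all (closeOk (J4Order.AzModelCalc.treeOf codes)) = true := by decide +kernel

theorem rows_ok : parts.all (fun l => l.all rowOk) = true := by decide +kernel

theorem reps_ok : repsOk = true := by decide +kernel

end Cfsg.Agent.Lib.J4Classes92.ZCalc
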