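import Cfsg.Agent.Lib.J4Classes92.Model
import Cfsg.Agent.Lib.J4Classes92.ZTables

/-!
# A Sylow 2-subgroup of the centraliser of `z` in coordinates
-/

set_option autoImplicit false
set_option linter.unusedSectionVars false
set_option linter.style.haveILetI false
set_option maxRecDepth 100000

namespace Cfsg.Agent.Lib.J4Classes92

open Cfsg Cfsg.Agent.Lib.Golay Cfsg.Agent.Lib.Computation Cfsg.Agent.Lib.J4Local Cfsg.Agent.Lib.J4Big
open Cfsg.Agent.Lib.J4Order
open Cfsg.Agent.Lib.FusionAlperin.MathieuCert (canon eq_of_gperm)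
open AtCalc AzModelCalc AzModelData ZCalc

attribute [local irreducible] oneCode mulP canon powC normV ZData.parts ZData.gens evalW rowOk closeOk

/-- A permutation of the Sylow subgroup. -/
def ZGood (c : ℕ) : Prop := Good c ∧ act c 7 = 7 ∧ canon c = c

theorem row_ok {r : ZData.Row} (hr : r ∈ ZCalc.rows) : rowOk r = true := by
  have h := rows_ok
  simp only [List.all_eq_true] at h
  obtain ⟨l, hl, hrl⟩ := List.mem_flatten.mp hr
  exact h l hl r hrl

theorem zGood_row {r : ZData.Row} (hr : r ∈ ZCalc.rows) : ZGood r.code := by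
  have h := row_ok hr
  simp only [rowOk, stabOk, Bool.and_eq_true, Nat.beq_eq] at h
  exact ⟨good_of_inM24 h.1.1.1.1, h.1.1.1.2, h.1.1.2⟩

theorem gen_good {g : ℕ} (hg : g ∈ ZData.gens) : ZGood g := by
  have h := group_ok
  simp only [groupOk, stabOk, Bool.and_eq_true, List.all_eq_true, Nat.beq_eq] at h
  obtain ⟨⟨h1, h2⟩, h3⟩ := h.1.2 g hg
  exact ⟨good_of_inM24 h1, h2, h3⟩

/-- The group of the permutations. -/
noncomputable def sylP : Subgroup ↥M24 := Subgroup.closure {σ | ∃ g ∈ ZData.gens, el g = σ}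

theorem words_small : ∀ r ∈ ZCalc.rows, ∀ t < 6, r.word / 16 ^ t % 16 ≤ 8 := by
  have h : (ZCalc.rows.all fun r => (List.range 6).all fun t => Nat.ble (r.word / 16 ^ t % 16) 8) =
      true := by decide +kernel
  simp only [List.all_eq_true, List.mem_range, Nat.ble_eq] at h
  exact h

theorem gens_len : ZData.gens.length = 8 := by decide +kernel

theorem good_evalW : ∀ (n w : ℕ) {x : ℕ}, (∀ t < n, w / 16 ^ t % 16 ≤ 8) → (Good x ∧ el x ∈ sylP) →
    Good (evalW n w x) ∧ el (evalW n w x) ∈ sylP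
  | 0, _, _, _, h => by rw [evalW]; exact h
  | n + 1, w, x, hw, h => by
    rw [evalW]
    cases hb : Nat.beq (w % 16) 0 with
    | true => exact h
    | false =>
      simp only [cond_false, forceNat_eq]
      have h0 := hw 0 (Nat.succ_pos _)
      rw [pow_zero, Nat.div_one] at h0
      have hm : ZData.gens.getD (w % 16 - 1) 0 ∈ ZData.gens := by
        have hl : w % 16 - 1 < ZData.gens.length := by rw [gens_len]; omega
        rw [List.getD_eq_getElem _ _ hl]; exact List.getElem_mem hl
      have hg := (gen_good hm).1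
      refine good_evalW n _ (fun t ht => ?_) ⟨good_mulP h.1 hg, ?_⟩
      · have := hw (t + 1) (by omega)
        rwa [pow_succ', ← Nat.div_div_eq_div_mul] at this
      · rw [el_mul h.1 hg]
        exact mul_mem h.2 (Subgroup.subset_closure ⟨_, hm, rfl⟩)

theorem el_inj' {a b : ℕ} (ha : Good a) (hb : Good b) (ca : canon a = a) (cb : canon b = b)
    (h : el a = el b) : a = b := by
  have h' := congrArg Subtype.val h
  rw [el_coe ha.2, el_coe hb.2] at h'
  exact eq_of_gperm ha.1 hb.1 ca cb h'

theorem row_mem_sylP {r : ZData.Row} (hr : r ∈ ZCalc.rows) : el r.code ∈ sylP := by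
  have h := List.all_eq_true.mp close_ok r hr
  simp only [closeOk, Bool.and_eq_true, Nat.beq_eq] at h
  have := (good_evalW 6 r.word (x := oneCode) (words_small r hr) ⟨good_one, by rw [el_one]; exact one_mem _⟩).2
  rwa [h.1] at this

theorem mem_sylP {σ : ↥M24} : σ ∈ sylP ↔ ∃ r ∈ ZCalc.rows, el r.code = σ := by
  classical
  refine ⟨fun h => ?_, ?_⟩
  · let T : Finset ↥M24 := (ZCalc.rows.map fun r => el r.code).toFinset
    have hT : ∀ {x}, x ∈ T ↔ ∃ r ∈ ZCalc.rows, el r.code = x := fun {x} => by simp [T]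
    have hstep : ∀ x ∈ T, ∀ g ∈ ZData.gens, x * el g ∈ T := by
      intro x hx g hg
      obtain ⟨r, hr, rfl⟩ := hT.mp hx
      have h := List.all_eq_true.mp close_ok r hr
      simp only [closeOk, Bool.and_eq_true, List.all_eq_true] at h
      have hlen : codes.length ≤ 4096 := by
        have hg' := group_ok
        simp only [groupOk, Bool.and_eq_true, Nat.beq_eq] at hg'
        rw [codes, List.length_map, hg'.1.1.1]
        norm_num
      have hmem := AzModel.mem_of_find hlen (h.2 g hg)
      rw [codes, List.mem_map] at hmem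
      obtain ⟨r', hr', e⟩ := hmem
      exact hT.mpr ⟨r', hr', by rw [e, el_mul (zGood_row hr).1 (gen_good hg).1]⟩
    have h1 : (1 : ↥M24) ∈ T := by
      have hg' := group_ok
      simp only [groupOk, Bool.and_eq_true, List.any_eq_true, Nat.beq_eq] at hg'
      obtain ⟨c, hc, e⟩ := hg'.2
      rw [codes, List.mem_map] at hc
      obtain ⟨r, hr, rfl⟩ := hc
      exact hT.mpr ⟨r, hr, by rw [← e, el_one]⟩
    refine hT.mp ?_
    induction h using Subgroup.closure_induction_right with
    | one => exact h1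
    | mul_right x y _ hy ih =>
      obtain ⟨g, hg, rfl⟩ := hy
      exact hstep x ih g hg
    | mul_inv_cancel x y _ hy ih =>
      obtain ⟨g, hg, rfl⟩ := hy
      obtain ⟨t, ht, e⟩ := Finset.surj_on_of_inj_on_of_card_le (fun a _ => a * el g)
        (fun a ha => hstep a ha g hg) (fun a b _ _ e => mul_right_cancel e) le_rfl x ih
      rwa [e, mul_inv_cancel_right]
  · rintro ⟨r, hr, rfl⟩
    exact row_mem_sylP hr

theorem card_sylP : Nat.card ↥sylP = 1024 := by
  classical
  have h := group_ok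
  simp only [groupOk, Bool.and_eq_true, Nat.beq_eq] at h
  have hp : codes.Pairwise (· < ·) := by
    have hz := h.1.1.2
    clear h
    revert hz
    generalize codes = l
    intro hz
    induction l with
    | nil => exact List.Pairwise.nil
    | cons a l ih =>
      cases l with
      | nil => exact List.pairwise_singleton _ a
      | cons b l =>
        simp only [List.tail_cons, List.zip_cons_cons, List.all_cons, Bool.and_eq_true,
          Nat.blt_eq] at hz
        have h' := ih hz.2
        refine List.pairwise_cons.mpr ⟨fun c hc => ?_, h'⟩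
        rcases List.mem_cons.mp hc with rfl | hc
        · exact hz.1
        · exact hz.1.trans ((List.pairwise_cons.mp h').1 c hc)
  have hn : codes.Nodup := hp.imp fun h => ne_of_lt h
  have hn' : (ZCalc.rows.map fun r => el r.code).Nodup := by
    refine List.Nodup.map_on (fun a ha b hb e => ?_) (List.Nodup.of_map _ hn)
    obtain ⟨g1, -, c1⟩ := zGood_row ha
    obtain ⟨g2, -, c2⟩ := zGood_row hb
    exact List.inj_on_of_nodup_map hn ha hb (el_inj' g1 g2 c1 c2 e)
  rw [← h.1.1.1, ← List.length_map (fun r : ZData.Row => el r.code),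
    ← List.toFinset_card_of_nodup hn', ← Nat.card_eq_finsetCard]
  exact Nat.card_congr (Equiv.subtypeEquivRight fun σ => by simp [mem_sylP])

variable {G : Type*} [Group G] [Finite G] {z p : G}
variable (S : Setting z p) (M : NModel z) (h7 : M.ψ 7 = z)
include h7

/-- The subgroup of the centraliser in coordinates. -/
noncomputable def sylT : Subgroup ↥(cz z) where
  carrier := {x | ∃ a < 2048, ∃ σ ∈ sylP, (x : G) = M.ev a σ}
  one_mem' := ⟨0, by norm_num, 1, one_mem _, by simp [M.ev_one_eq, M.ψ_zero]⟩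
  mul_mem' := by
    rintro x y ⟨a, ha, σ, hσ, ex⟩ ⟨b, hb, τ, hτ, ey⟩
    obtain ⟨c, hc, rfl⟩ := encode_exists σ
    exact ⟨_, Nat.xor_lt_two_pow (n := 11) ha (act_lt c b), _, mul_mem hσ hτ, by
      rw [Subgroup.coe_mul, ex, ey, M.ev_mul ha hb hc]⟩
  inv_mem' := by
    rintro x ⟨a, ha, σ, hσ, ex⟩
    obtain ⟨c, hc, e⟩ := encode_exists σ⁻¹
    refine ⟨act c a, act_lt c a, σ⁻¹, inv_mem hσ, ?_⟩
    rw [Subgroup.coe_inv, ex, ← e, NModel.ev, NModel.ev, ← M.conj_el hc ha, e, map_inv, mul_inv_rev,
      M.ψ_inv]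
    group

theorem card_sylT : Nat.card ↥(sylT M) = 2 ^ 21 := by
  have hmem : ∀ (a : Fin 2048) (σ : ↥sylP), M.ev a.1 σ.1 ∈ cz z := by
    intro a σ
    obtain ⟨r, hr, e⟩ := mem_sylP.mp σ.2
    rw [← e]
    exact (M.ev_cz h7 (zGood_row hr).1 (zGood_row hr).2.1).2
  rw [show (2 : ℕ) ^ 21 = Nat.card (Fin 2048 × ↥sylP) by
    rw [Nat.card_prod, Nat.card_fin, card_sylP]; norm_num]
  refine (Nat.card_eq_of_bijective (fun q : Fin 2048 × ↥sylP =>
    (⟨⟨M.ev q.1.1 q.2.1, hmem q.1 q.2⟩, q.1.1, q.1.2, q.2.1, q.2.2, rfl⟩ : ↥(sylT M)))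
    ⟨fun q q' e => ?_, fun x => ?_⟩).symm
  · obtain ⟨e1, e2⟩ := M.ev_inj q.1.2 q'.1.2 (congrArg (fun x : ↥(sylT M) => ((x : ↥(cz z)) : G)) e)
    exact Prod.ext (Fin.ext e1) (Subtype.ext e2)
  · obtain ⟨a, ha, σ, hσ, e⟩ := x.2
    exact ⟨(⟨a, ha⟩, ⟨σ, hσ⟩), Subtype.ext (Subtype.ext e.symm)⟩

include S in
theorem index_sylT : (sylT M).index = 10395 := by
  have h := Subgroup.card_mul_index (sylT M)
  rw [card_sylT M h7, S.card_cz autFacts] at h
  omega

end Cfsg.Agent.Lib.J4Classes92
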